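import Cfsg.Agent.Lib.Wagner.Basic

/-!
# Regular normal subgroups of a point stabilizer
-/

set_option autoImplicit false
set_option linter.unusedSectionVars false
set_option linter.style.haveILetI false

namespace Cfsg.Lib.Wagner

open MulAction Cfsg.Lib.Plane

universe u v

variable {G : Type u} [Group G] {Ω : Type v} [MulAction G Ω]

/-- `E` is an elementary abelian subgroup fixing `a`, normalised by the stabilizer of `a`, acting
regularly on the other points. -/
structure RegData (E : Subgroup G) (a : Ω) (p : ℕ) : Prop where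
  prime : p.Prime
  fixes : ∀ x ∈ E, x • a = a
  stable : ∀ g : G, g • a = a → cj g E = E
  pow : ∀ x ∈ E, x ^ p = 1
  comm : ∀ x ∈ E, ∀ y ∈ E, x * y = y * x
  free : ∀ x ∈ E, ∀ y : Ω, y ≠ a → x • y = y → x = 1
  trans : ∀ y z : Ω, y ≠ a → z ≠ a → ∃ x ∈ E, x • y = z

variable [Finite G] {H : Subgroup G} (C : Ctx H Ω)
include C

namespace Ctx

theorem transitive_of_stable {a : Ω} {A : Subgroup G} (hAa : ∀ x ∈ A, x • a = a)
    (hst : ∀ g : G, g • a = a → cj g A = A) (hA : A ≠ ⊥) {y z : Ω} (hy : y ≠ a) (hz : z ≠ a) :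
    ∃ x ∈ A, x • y = z := by
  haveI := C.faithful
  by_cases hyz : y = z
  · exact ⟨1, one_mem A, by rw [one_smul, hyz]⟩
  obtain ⟨x, hx, hx1⟩ := A.bot_or_exists_ne_one.resolve_left hA
  obtain ⟨w, hw⟩ : ∃ w : Ω, x • w ≠ w := by
    by_contra hall
    push Not at hall
    exact hx1 (FaithfulSMul.eq_of_smul_eq_smul (α := Ω) fun w => by rw [one_smul]; exact hall w)
  have hwa : w ≠ a := fun e => hw (by rw [e, hAa x hx])
  have hxwa : x • w ≠ a := fun e => hwa (MulAction.injective x (e.trans (hAa x hx).symm))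
  obtain ⟨g, g1, g2, g3⟩ := C.exists3 hwa.symm hxwa.symm hw.symm hy.symm hz.symm hyz
  refine ⟨g * x * g⁻¹, ?_, ?_⟩
  · have := conj_mem_cj (g := g) hx
    rwa [hst g g1] at this
  · rw [mul_smul, mul_smul, ← g2, inv_smul_smul, g3]

/-- A solvable subgroup of a point stabilizer, normalised by it, contains a regular elementary abelian one. -/
theorem exists_regular {a : Ω} {N : Subgroup G} (hNa : ∀ x ∈ N, x • a = a)
    (hst : ∀ g : G, g • a = a → cj g N = N) (hN : N ≠ ⊥) [hsol : Group.IsSolvable N] :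
    ∃ (E : Subgroup G) (p : ℕ), E ≤ N ∧ RegData E a p := by
  classical
  haveI := C.faithful
  have hex : ∃ k, derivedSeries N k = ⊥ := (Group.isSolvable_def N).1 inferInstance
  set k := Nat.find hex with hk
  have hk0 : k ≠ 0 := fun h => hN (by
    have h1 := Nat.find_spec hex
    rw [← hk, h, derivedSeries_zero] at h1
    rw [← N.range_subtype, MonoidHom.range_eq_map, h1, Subgroup.map_bot])
  set A : Subgroup G := (derivedSeries N (k - 1)).map N.subtype with hA
  have hAN : A ≤ N := Subgroup.map_subtype_le _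
  have hstA : ∀ j, ∀ g : G, g • a = a →
      cj g ((derivedSeries N j).map N.subtype) = (derivedSeries N j).map N.subtype := by
    intro j
    induction j with
    | zero =>
      intro g hg
      rw [derivedSeries_zero, ← MonoidHom.range_eq_map, N.range_subtype]
      exact hst g hg
    | succ j ih =>
      intro g hg
      rw [derivedSeries_succ, Subgroup.map_commutator]
      refine (Subgroup.map_commutator _ _ _).trans ?_
      rw [show Subgroup.map (MulAut.conj g).toMonoidHom ((derivedSeries N j).map N.subtype) = _ from ih g hg]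
  have hAne : A ≠ ⊥ := by
    rw [hA, Ne, Subgroup.map_eq_bot_iff_of_injective _ N.subtype_injective]
    exact Nat.find_min hex (by omega)
  have hcomm : ∀ x ∈ A, ∀ y ∈ A, x * y = y * x := by
    have h1 : ⁅derivedSeries N (k - 1), derivedSeries N (k - 1)⁆ = ⊥ := by
      rw [← derivedSeries_succ, Nat.sub_add_cancel (Nat.pos_of_ne_zero hk0)]
      exact Nat.find_spec hex
    rintro _ ⟨x, hx, rfl⟩ _ ⟨y, hy, rfl⟩
    have := Subgroup.mem_centralizer_iff.1 (Subgroup.commutator_eq_bot_iff_le_centralizer.1 h1 hx) y hy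
    exact (congrArg Subtype.val this).symm
  -- a prime divisor
  haveI : Nontrivial A := (Subgroup.nontrivial_iff_ne_bot A).2 hAne
  obtain ⟨p, hp, hpd⟩ := Nat.exists_prime_and_dvd (Finite.one_lt_card (α := A)).ne'
  haveI : Fact p.Prime := ⟨hp⟩
  set E : Subgroup G :=
    { carrier := {x | x ∈ A ∧ x ^ p = 1}
      one_mem' := ⟨one_mem A, one_pow p⟩
      mul_mem' := fun {x y} hx hy => ⟨mul_mem hx.1 hy.1, by
        rw [(show Commute x y from hcomm x hx.1 y hy.1).mul_pow, hx.2, hy.2, one_mul]⟩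
      inv_mem' := fun {x} hx => ⟨inv_mem hx.1, by rw [inv_pow, hx.2, inv_one]⟩ } with hE
  have hEA : E ≤ A := fun x hx => hx.1
  have hEst : ∀ g : G, g • a = a → cj g E = E := fun g hg => cj_eq_self fun x hx => ⟨by
    rw [hA, ← hstA (k - 1) g hg]; exact conj_mem_cj hx.1, by rw [conj_pow, hx.2, mul_one, mul_inv_cancel]⟩
  have hEne : E ≠ ⊥ := by
    obtain ⟨x, hx⟩ := exists_prime_orderOf_dvd_card' (G := A) p hpd
    intro h
    have hxE : (x : G) ∈ E := ⟨x.2, by rw [← SubmonoidClass.coe_pow, ← hx, pow_orderOf_eq_one]; rfl⟩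
    rw [h, Subgroup.mem_bot] at hxE
    rw [← Subgroup.orderOf_coe, hxE, orderOf_one] at hx
    exact hp.ne_one hx.symm
  have hEa : ∀ x ∈ E, x • a = a := fun x hx => hNa x (hAN (hEA hx))
  have htr : ∀ y z : Ω, y ≠ a → z ≠ a → ∃ x ∈ E, x • y = z := fun y z hy hz =>
    C.transitive_of_stable hEa hEst hEne hy hz
  refine ⟨E, p, hEA.trans hAN, hp, hEa, hEst, fun x hx => hx.2, fun x hx y hy => hcomm x hx.1 y hy.1,
    fun x hx y hy hxy => ?_, htr⟩
  refine FaithfulSMul.eq_of_smul_eq_smul (α := Ω) fun z => ?_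
  rw [one_smul]
  by_cases hz : z = a
  · rw [hz, hEa x hx]
  · obtain ⟨w, hw, rfl⟩ := htr y z hy hz
    rw [← mul_smul, hcomm x hx.1 w hw.1, mul_smul, hxy]

end Ctx

omit C

namespace RegData

variable {E : Subgroup G} {a : Ω} {p : ℕ} (R : RegData E a p)
include R

theorem isPGroup : IsPGroup p E := fun x => ⟨1, by rw [pow_one]; exact Subtype.ext (R.pow x x.2)⟩

theorem card_eq [Finite Ω] {b : Ω} (hb : b ≠ a) : Nat.card E = Nat.card Ω - 1 := by
  have h1 := card_orb_mul E b
  rw [show orb E b = ({a} : Set Ω)ᶜ from ?_, show E ⊓ stabilizer G b = ⊥ from ?_, Subgroup.card_bot,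
    mul_one, Nat.card_coe_set_eq, Set.ncard_compl, Set.ncard_singleton] at h1
  · exact h1.symm
  · rw [Subgroup.eq_bot_iff_forall]
    exact fun x hx => R.free x hx.1 b hb hx.2
  · ext y
    constructor
    · rintro ⟨k, hk, rfl⟩ e
      exact hb (MulAction.injective k ((Set.mem_singleton_iff.1 e).trans (R.fixes k hk).symm))
    · intro hy
      exact R.trans b y hb hy

/-- An element fixing `a, b` commutes with the translation to a fixed point. -/
theorem commute_of_fix {g : G} {b c : Ω} (hb : b ≠ a) (hga : g • a = a) (hgb : g • b = b)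
    (hgc : g • c = c) {x : G} (hx : x ∈ E) (hxc : x • b = c) : g * x = x * g := by
  have hmem : g * x * g⁻¹ ∈ E := by
    rw [← R.stable g hga]; exact conj_mem_cj hx
  have h2 : x⁻¹ * (g * x * g⁻¹) = 1 := by
    refine R.free _ (mul_mem (inv_mem hx) hmem) b hb ?_
    rw [mul_smul, mul_smul, mul_smul, inv_smul_eq_iff.2 hgb.symm, hxc, hgc, ← hxc, inv_smul_smul]
  rw [inv_mul_eq_one] at h2
  exact mul_inv_eq_iff_eq_mul.1 h2.symm

end RegData

end Cfsg.Lib.Wagner
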