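import Cfsg.Agent.Lib.Wagner.Index
import Cfsg.Agent.Lib.Wagner.Regular
import Cfsg.Agent.S0205
import Mathlib.LinearAlgebra.Determinant

/-!
# An involution with two fixed points and a transitive normal subgroup of odd order

Then the Sylow 2-subgroups of two-point stabilizers are cyclic and semiregular on the other points.
-/

set_option autoImplicit false
set_option linter.unusedSectionVars false
set_option linter.style.haveILetI false

namespace Cfsg.Lib.Wagner

open MulAction Cfsg.Lib.Plane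

universe u v

variable {G : Type u} [Group G] [Finite G] {Ω : Type v} [MulAction G Ω]

/-- A non-trivial normal subgroup of a 2-group contains a central involution. -/
theorem exists_central_invol {P K : Subgroup G} (hP : IsPGroup 2 P) (hKP : K ≤ P) (hK : K ≠ ⊥)
    (hnorm : ∀ g ∈ P, cj g K = K) :
    ∃ u ∈ K, u ≠ 1 ∧ u * u = 1 ∧ ∀ g ∈ P, u * g = g * u := by
  haveI : Fact (Nat.Prime 2) := ⟨Nat.prime_two⟩
  haveI hN : (K.subgroupOf P).Normal := ⟨fun x hx g => by
    have h1 := conj_mem_cj (g := (g : G)) (Subgroup.mem_subgroupOf.1 hx)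
    rw [hnorm g g.2] at h1
    exact Subgroup.mem_subgroupOf.2 h1⟩
  letI : MulAction P ↥(K.subgroupOf P) := MulAction.compHom _ (MulAut.conjNormal (H := K.subgroupOf P))
  have hdvd : 2 ∣ Nat.card ↥(K.subgroupOf P) := by
    rw [Nat.card_congr (Subgroup.subgroupOfEquivOfLe hKP).toEquiv]
    obtain ⟨k, hk⟩ := IsPGroup.iff_card.1 (hP.to_le hKP)
    rw [hk]
    refine dvd_pow_self 2 fun h0 => hK (Subgroup.card_eq_one.1 (by rw [hk, h0, pow_zero]))
  obtain ⟨c, hc, hc1⟩ := hP.exists_fixed_point_of_prime_dvd_card_of_fixed_point ↥(K.subgroupOf P) hdvd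
    (a := 1) (fun g => map_one (MulAut.conjNormal g))
  have hcc : ∀ g ∈ P, (c.1 : G) * g = g * c.1 := fun g hg => by
    have h := congrArg (fun z : K.subgroupOf P => (z.1 : G)) (hc ⟨g, hg⟩)
    change (↑(↑(MulAut.conjNormal (⟨g, hg⟩ : P) c) : P) : G) = _ at h
    rw [MulAut.conjNormal_apply] at h
    exact (mul_inv_eq_iff_eq_mul.1 h).symm
  have hc' : (c.1 : G) ≠ 1 := fun e => hc1 (Subtype.ext (Subtype.ext e.symm))
  obtain ⟨j, hj⟩ := hP c.1
  have hj' : (c.1 : G) ^ 2 ^ j = 1 := by simpa using congrArg Subtype.val hj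
  obtain ⟨m, -, hm⟩ := (Nat.dvd_prime_pow Nat.prime_two).1 (orderOf_dvd_of_pow_eq_one hj')
  have hm0 : m ≠ 0 := fun e => hc' (orderOf_eq_one_iff.1 (by rw [hm, e, pow_zero]))
  obtain ⟨m, rfl⟩ := Nat.exists_eq_succ_of_ne_zero hm0
  refine ⟨(c.1 : G) ^ 2 ^ m, pow_mem (Subgroup.mem_subgroupOf.1 c.2) _, fun e => ?_, ?_, fun g hg => ?_⟩
  · have := Nat.le_of_dvd (pow_pos two_pos m) (hm ▸ orderOf_dvd_of_pow_eq_one e)
    rw [pow_succ] at this
    have : 0 < 2 ^ m := pow_pos two_pos m
    omega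
  · rw [← pow_add, ← two_mul, ← pow_succ', ← hm, pow_orderOf_eq_one]
  · exact (((show Commute (c.1 : G) g from hcc g hg)).pow_left _).eq

theorem exists_det_aux {p : ℕ} [Fact p.Prime] {P : Type u} {V : Type u} [Group P] [AddCommGroup V] [Finite V]
    [Module (ZMod p) V] (f : P → (V →+ V)) (h1 : ∀ x, f 1 x = x) (hm : ∀ g k x, f (g * k) x = f g (f k x)) :
    ∃ (δ : P →* (ZMod p)ˣ) (k : ℕ), Nat.card V = p ^ k ∧
      ∀ g, (∀ x, f g x = -x) → (δ g : ZMod p) = (-1) ^ k := by
  haveI : Module.Finite (ZMod p) V := Module.Finite.of_finite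
  haveI : Module.Free (ZMod p) V := Module.Free.of_divisionRing (ZMod p) V
  let d : P →* ZMod p :=
    { toFun := fun g => LinearMap.det ((f g).toZModLinearMap p)
      map_one' := by
        rw [show (f 1).toZModLinearMap p = LinearMap.id from LinearMap.ext h1, LinearMap.det_id]
      map_mul' := fun g k => by
        rw [show (f (g * k)).toZModLinearMap p = ((f g).toZModLinearMap p).comp ((f k).toZModLinearMap p) from
          LinearMap.ext (hm g k), LinearMap.det_comp] }
  refine ⟨d.toHomUnits, Module.finrank (ZMod p) V, ?_, fun g hg => ?_⟩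
  · rw [Module.natCard_eq_pow_finrank (K := ZMod p), Nat.card_zmod]
  · show LinearMap.det ((f g).toZModLinearMap p) = _
    rw [show (f g).toZModLinearMap p = (-1 : ZMod p) • LinearMap.id from LinearMap.ext fun x => by
      rw [AddMonoidHom.coe_toZModLinearMap, hg x, LinearMap.smul_apply, neg_one_smul, LinearMap.id_apply],
      LinearMap.det_smul, LinearMap.det_id, mul_one]

/-- The determinant of an action on an elementary abelian group, at an element acting as `-1`. -/
theorem exists_det {p : ℕ} (hp : p.Prime) {P : Type u} {V : Type u} [Group P] [AddCommGroup V] [Finite V]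
    (hV : ∀ x : V, p • x = 0) (f : P → (V →+ V)) (h1 : ∀ x, f 1 x = x)
    (hm : ∀ g k x, f (g * k) x = f g (f k x)) :
    ∃ (δ : P →* (ZMod p)ˣ) (k : ℕ), Nat.card V = p ^ k ∧
      ∀ g, (∀ x, f g x = -x) → (δ g : ZMod p) = (-1) ^ k :=
  haveI : Fact p.Prime := ⟨hp⟩
  letI : Module (ZMod p) V := AddCommGroup.zmodModule hV
  exists_det_aux f h1 hm

variable {H : Subgroup G}

/-- The affine case. -/
theorem Ctx.affine (C : Ctx H Ω) (heven : Even (Nat.card Ω)) (h3 : ∀ x : Ω, ¬ 3 ∣ Nat.card (S1 H x))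
    {a b : Ω} (hab : a ≠ b) {O : Subgroup G} (hOodd : Odd (Nat.card O)) (hOa : ∀ x ∈ O, x • a = a)
    (hOst : ∀ g : G, g • a = a → cj g O = O) (hOtr : ∀ y : Ω, y ≠ a → y ∈ orb O b) {z : G}
    (hz : z ∈ S2 H a b) (hz2 : z * z = 1) (hzfix : ∀ x : Ω, z • x = x → x = a ∨ x = b)
    {Q : Subgroup G} (hQ : IsPGroup 2 Q) (hQab : Q ≤ S2 H a b) :
    IsCyclic Q ∧ ∀ u ∈ Q, u ≠ 1 → ∀ x : Ω, u • x = x → x = a ∨ x = b := by
  classical
  haveI := C.normal
  haveI := C.faithful
  haveI := C.finite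
  haveI : Fact (Nat.Prime 2) := ⟨Nat.prime_two⟩
  obtain ⟨hzH, hza, hzb⟩ := mem_S2.1 hz
  have hz1 : z ≠ 1 := fun e => by
    obtain ⟨c, hca, hcb⟩ := C.exists_third a b
    rcases hzfix c (by rw [e, one_smul]) with h | h
    exacts [hca h, hcb h]
  have hOne : O ≠ ⊥ := fun e => by
    obtain ⟨c, hca, hcb⟩ := C.exists_third a b
    obtain ⟨o, ho, hoc⟩ := hOtr c hca
    rw [e, Subgroup.mem_bot] at ho
    rw [ho, one_smul] at hoc
    exact hcb hoc.symm
  haveI : Group.IsSolvable O := Cfsg.Agent.S0205.result (G := O) hOodd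
  obtain ⟨E, p, hEO, hR⟩ := C.exists_regular hOa hOst hOne
  have hEodd : Odd (Nat.card E) := hOodd.of_dvd_nat (Subgroup.card_dvd_of_le hEO)
  haveI : Fact p.Prime := ⟨hR.prime⟩
  have hEst : ∀ g : G, g • a = a → ∀ x ∈ E, g * x * g⁻¹ ∈ E := fun g hg x hx =>
    hR.stable g hg ▸ conj_mem_cj hx
  -- `z` inverts `E`
  have hfree : ∀ x ∈ E, z * x = x * z → x = 1 := by
    intro x hx hc
    have h1 : z • (x • b) = x • b := by rw [← mul_smul, hc, mul_smul, hzb]
    rcases hzfix _ h1 with h | h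
    · exact absurd (MulAction.injective x (h.trans (hR.fixes x hx).symm)) hab.symm
    · exact hR.free x hx b hab.symm h
  have hinv : ∀ x ∈ E, z * x * z⁻¹ = x⁻¹ := by
    intro x hx
    have hz' : z⁻¹ = z := inv_eq_of_mul_eq_one_right hz2
    set y := x * (z * x * z⁻¹) with hy
    have hzx := hEst z hza x hx
    have h1 : z * y = y * z := by
      rw [hy, hR.comm x hx _ hzx, hz']
      rw [hz'] at hzx
      calc z * (z * x * z * x) = (z * z) * x * z * x := by simp only [mul_assoc]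
        _ = x * z * x := by rw [hz2, one_mul]
        _ = z * x * z * x * z := ?_
      have e := hR.comm x hx _ hzx
      calc x * z * x = x * (z * x * z) * z := by simp only [mul_assoc, hz2, mul_one]
        _ = z * x * z * x * z := by rw [e]
    exact eq_inv_of_mul_eq_one_right (hfree y (mul_mem hx hzx) h1)
  -- `z` is central in the stabilizer of `a` and `b`
  have hzc : ∀ g : G, g • a = a → g • b = b → g * z = z * g := by
    intro g hga hgb
    set u := z⁻¹ * (g⁻¹ * z * g) with hu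
    have hu1 : u = 1 := by
      refine FaithfulSMul.eq_of_smul_eq_smul (α := Ω) fun w => ?_
      rw [one_smul]
      have hua : u • a = a := by
        rw [hu, mul_smul, mul_smul, mul_smul, hga, hza, inv_smul_eq_iff.2 hga.symm, inv_smul_eq_iff.2 hza.symm]
      have hub : u • b = b := by
        rw [hu, mul_smul, mul_smul, mul_smul, hgb, hzb, inv_smul_eq_iff.2 hgb.symm, inv_smul_eq_iff.2 hzb.symm]
      by_cases hw : w = a
      · rw [hw, hua]
      obtain ⟨x, hx, rfl⟩ := hR.trans b w hab.symm hw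
      have h1 : g⁻¹ * z * g * x * (g⁻¹ * z * g)⁻¹ = x⁻¹ := by
        calc g⁻¹ * z * g * x * (g⁻¹ * z * g)⁻¹ = g⁻¹ * (z * (g * x * g⁻¹) * z⁻¹) * g := by group
          _ = x⁻¹ := by rw [hinv _ (hEst g hga x hx)]; group
      have h2 : z⁻¹ * x⁻¹ * z = x := by
        have := hinv x hx
        calc z⁻¹ * x⁻¹ * z = z⁻¹ * (z * x * z⁻¹) * z := by rw [this]
          _ = x := by group
      have h3 : u * x = x * u := by
        refine mul_inv_eq_iff_eq_mul.1 ?_
        calc u * x * u⁻¹ = z⁻¹ * (g⁻¹ * z * g * x * (g⁻¹ * z * g)⁻¹) * z := by rw [hu]; group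
          _ = x := by rw [h1, h2]
      rw [← mul_smul, h3, mul_smul, hub]
    rw [hu, inv_mul_eq_one] at hu1
    calc g * z = g * (g⁻¹ * z * g) := by rw [← hu1]
      _ = z * g := by group
  -- a frame in which `z` belongs to `W`
  obtain ⟨P, W, F0⟩ := C.exists_frame0 heven h3 hab
  have hzP : z ∈ P := by
    obtain ⟨k, hk, hkle⟩ := exists_cj_le F0.syl
      (show IsPGroup 2 (Subgroup.zpowers z) from by
        obtain ⟨j, -, hj⟩ := (Nat.dvd_prime_pow Nat.prime_two).1
          (orderOf_dvd_of_pow_eq_one (show z ^ 2 ^ 1 = 1 by rw [pow_one, pow_two, hz2]))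
        exact IsPGroup.of_card (n := j) (by rw [Nat.card_zpowers, hj]))
      (Subgroup.zpowers_le.2 hz)
    have h1 := hkle (conj_mem_cj (Subgroup.mem_zpowers z))
    obtain ⟨-, hka, hkb⟩ := mem_S2.1 hk
    rwa [hzc k hka hkb, mul_inv_cancel_right] at h1
  have hzW : z ∈ W := F0.omega z hzP (fun x hx =>
    (hzc x (mem_S2.1 (F0.syl.le hx)).2.1 (mem_S2.1 (F0.syl.le hx)).2.2).symm) hz2
  have F : Frame H a b P W := ⟨F0, fun x hx => hzfix x (hx z hzW)⟩
  have hWE : ∀ w ∈ W, ∀ x ∈ E, w * x * w⁻¹ ∈ E := fun w hw x hx =>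
    hEst w (mem_S2.1 (F.W_le_S2 hw)).2.1 x hx
  -- a common eigenvector gives a good hyperplane
  have heig : ∀ E' : Subgroup G, E' ≤ E → E' ≠ ⊥ → (∀ w ∈ W, ∀ x ∈ E', w * x * w⁻¹ ∈ E') →
      ∃ x ∈ E', x ≠ 1 ∧ ∀ w ∈ W, w * x * w⁻¹ = x ∨ w * x * w⁻¹ = x⁻¹ := by
    intro E' hE' hne hinvar
    obtain ⟨x₀, hx₀, hx₀1⟩ := E'.bot_or_exists_ne_one.resolve_left hne
    suffices hfin : ∀ s : Finset W, ∃ x ∈ E', x ≠ 1 ∧
        ∀ w ∈ s, (w : G) * x * (w : G)⁻¹ = x ∨ (w : G) * x * (w : G)⁻¹ = x⁻¹ by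
      haveI := Fintype.ofFinite W
      obtain ⟨x, hx, hx1, h⟩ := hfin Finset.univ
      exact ⟨x, hx, hx1, fun w hw => h ⟨w, hw⟩ (Finset.mem_univ _)⟩
    intro s
    induction s using Finset.induction_on with
    | empty => exact ⟨x₀, hx₀, hx₀1, by simp⟩
    | insert w s _ ih =>
      obtain ⟨x, hx, hx1, hs⟩ := ih
      set y := (w : G) * x * (w : G)⁻¹ with hy
      have hyE : y ∈ E' := hinvar w w.2 x hx
      by_cases hu : x * y = 1
      · refine ⟨x, hx, hx1, fun v hv => ?_⟩
        rcases Finset.mem_insert.1 hv with rfl | hv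
        · exact Or.inr (eq_inv_of_mul_eq_one_right hu)
        · exact hs v hv
      refine ⟨x * y, mul_mem hx hyE, hu, fun v hv => ?_⟩
      have hxy : x * y = y * x := hR.comm x (hE' hx) y (hE' hyE)
      rcases Finset.mem_insert.1 hv with rfl | hv
      · refine Or.inl ?_
        have hvy : (v : G) * y * (v : G)⁻¹ = x := by
          rw [hy, F.inv_eq v.2]
          calc (v : G) * ((v : G) * x * v) * v = ((v : G) * v) * x * ((v : G) * v) := by simp only [mul_assoc]
            _ = x := by rw [F.sq v v.2, one_mul, mul_one]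
        calc (v : G) * (x * y) * (v : G)⁻¹ = ((v : G) * x * (v : G)⁻¹) * ((v : G) * y * (v : G)⁻¹) := by group
          _ = x * y := by rw [hvy, ← hy, hxy]
      · have hvy : (v : G) * y * (v : G)⁻¹ = (w : G) * ((v : G) * x * (v : G)⁻¹) * (w : G)⁻¹ := by
          rw [hy]
          calc (v : G) * ((w : G) * x * (w : G)⁻¹) * (v : G)⁻¹
              = ((v : G) * w) * x * ((v : G) * w)⁻¹ := by group
            _ = _ := by rw [F.comm v v.2 w w.2]; group
        rcases hs v hv with h | h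
        · refine Or.inl ?_
          calc (v : G) * (x * y) * (v : G)⁻¹ = ((v : G) * x * (v : G)⁻¹) * ((v : G) * y * (v : G)⁻¹) := by group
            _ = x * y := by rw [hvy, h, ← hy]
        · refine Or.inr ?_
          calc (v : G) * (x * y) * (v : G)⁻¹ = ((v : G) * x * (v : G)⁻¹) * ((v : G) * y * (v : G)⁻¹) := by group
            _ = x⁻¹ * y⁻¹ := by rw [hvy, h, hy]; group
            _ = (x * y)⁻¹ := by rw [mul_inv_rev x y]; exact (hR.comm _ (hE' (inv_mem hx)) _ (hE' (inv_mem hyE)))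
  have hno2 : ∀ x ∈ E, x = x⁻¹ → x = 1 := by
    intro x hx h
    have h2 : orderOf x ∣ 2 := orderOf_dvd_of_pow_eq_one (by
      rw [pow_two]; nth_rw 2 [h]; exact mul_inv_cancel x)
    exact orderOf_eq_one_iff.1 (Nat.eq_one_of_dvd_coprimes (Nat.coprime_two_left.2 hEodd) h2
      (Subgroup.orderOf_dvd_natCard E hx))
  have hgood : ∀ x ∈ E, x ≠ 1 → (∀ w ∈ W, w * x * w⁻¹ = x ∨ w * x * w⁻¹ = x⁻¹) →
      ∃ X, Good W X a b ∧ z ∉ X ∧ ∀ w ∈ W, (w ∈ X ↔ w * x * w⁻¹ = x) := by
    intro x hx hx1 he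
    set X := W ⊓ Subgroup.centralizer ({x} : Set G) with hX
    have hmem : ∀ w ∈ W, (w ∈ X ↔ w * x * w⁻¹ = x) := fun w hw => by
      rw [hX, Subgroup.mem_inf, Subgroup.mem_centralizer_singleton_iff, mul_inv_eq_iff_eq_mul]
      exact ⟨fun h => h.2, fun h => ⟨hw, h⟩⟩
    have hzX : z ∉ X := fun h => by
      have h1 := (hmem z hzW).1 h
      rw [hinv x hx] at h1
      exact hx1 (hno2 x hx h1.symm)
    have hidx : (X.subgroupOf W).index = 2 := by
      rw [Subgroup.index_eq_two_iff]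
      refine ⟨⟨z, hzW⟩, fun w => ?_⟩
      simp only [Subgroup.mem_subgroupOf, Subgroup.coe_mul]
      rcases he w w.2 with h | h
      · refine Or.inr ⟨(hmem w w.2).2 h, fun h' => hzX ?_⟩
        exact (mul_mem_cancel_left ((hmem w w.2).2 h)).1 h'
      · refine Or.inl ⟨(hmem _ (mul_mem w.2 hzW)).2 ?_, fun h' => ?_⟩
        · calc (w : G) * z * x * ((w : G) * z)⁻¹ = (w : G) * (z * x * z⁻¹) * (w : G)⁻¹ := by group
            _ = ((w : G) * x * (w : G)⁻¹)⁻¹ := by rw [hinv x hx]; group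
            _ = x := by rw [h, inv_inv]
        · rw [hmem w w.2, h] at h'
          exact hx1 (hno2 x hx h'.symm)
    refine ⟨X, ⟨inf_le_left, ?_, x • b, fun u hu => ?_, fun e => ?_, fun e => hx1 (hR.free x hx b hab.symm e)⟩, hzX, hmem⟩
    · rw [card_eq_mul_relIndex (inf_le_left : X ≤ W), mul_comm]
      exact congrArg _ hidx.symm
    · obtain ⟨huW, huc⟩ := Subgroup.mem_inf.1 hu
      rw [← mul_smul, Subgroup.mem_centralizer_singleton_iff.1 huc, mul_smul, (mem_S2.1 (F.W_le_S2 huW)).2.2]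
    · exact hab.symm (MulAction.injective x (e.trans (hR.fixes x hx).symm))
  have hW2 : ∀ w ∈ W, w = 1 ∨ w = z := by
    intro w₀ hw₀
    by_contra hne
    push Not at hne
    have hEne : E ≠ ⊥ := fun e => by
      obtain ⟨c, hca, hcb⟩ := C.exists_third a b
      obtain ⟨x, hx, hxc⟩ := hR.trans b c hab.symm hca
      rw [e, Subgroup.mem_bot] at hx
      rw [hx, one_smul] at hxc
      exact hcb hxc.symm
    obtain ⟨x₁, hx₁, hx₁1, he₁⟩ := heig E le_rfl hEne hWE
    obtain ⟨X₁, hX₁, hzX₁, hm₁⟩ := hgood x₁ hx₁ hx₁1 he₁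
    -- a non-trivial element of `X₁`
    obtain ⟨y, hy, hy1⟩ : ∃ y ∈ X₁, y ≠ 1 := by
      rcases he₁ w₀ hw₀ with h | h
      · exact ⟨w₀, (hm₁ w₀ hw₀).2 h, hne.1⟩
      · refine ⟨w₀ * z, (hm₁ _ (mul_mem hw₀ hzW)).2 ?_, fun e => hne.2 ?_⟩
        · calc w₀ * z * x₁ * (w₀ * z)⁻¹ = w₀ * (z * x₁ * z⁻¹) * w₀⁻¹ := by group
            _ = (w₀ * x₁ * w₀⁻¹)⁻¹ := by rw [hinv x₁ hx₁]; group
            _ = x₁ := by rw [h, inv_inv]
        · rw [eq_inv_of_mul_eq_one_left e, inv_eq_of_mul_eq_one_right hz2]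
    have hyW : y ∈ W := hX₁.le hy
    -- the elements inverted by `y`
    let I : Subgroup G :=
      { carrier := {x | x ∈ E ∧ y * x * y⁻¹ = x⁻¹}
        one_mem' := ⟨one_mem E, by group⟩
        mul_mem' := fun {s t} hs ht => ⟨mul_mem hs.1 ht.1, by
          rw [show y * (s * t) * y⁻¹ = (y * s * y⁻¹) * (y * t * y⁻¹) by group, hs.2, ht.2, mul_inv_rev,
            hR.comm _ (inv_mem hs.1) _ (inv_mem ht.1)]⟩
        inv_mem' := fun {s} hs => ⟨inv_mem hs.1, by
          rw [show y * s⁻¹ * y⁻¹ = (y * s * y⁻¹)⁻¹ by group, hs.2]⟩ }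
    have hIW : ∀ w ∈ W, ∀ x ∈ I, w * x * w⁻¹ ∈ I := fun w hw x hx => ⟨hWE w hw x hx.1, by
      calc y * (w * x * w⁻¹) * y⁻¹ = (y * w) * x * (y * w)⁻¹ := by group
        _ = w * (y * x * y⁻¹) * w⁻¹ := by rw [F.comm y hyW w hw]; group
        _ = (w * x * w⁻¹)⁻¹ := by rw [hx.2]; group⟩
    have hIne : I ≠ ⊥ := by
      intro e
      refine hy1 (FaithfulSMul.eq_of_smul_eq_smul (α := Ω) fun w => ?_)
      rw [one_smul]
      obtain ⟨-, hya, hyb⟩ := mem_S2.1 (F.W_le_S2 hyW)
      by_cases hw : w = a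
      · rw [hw, hya]
      obtain ⟨x, hx, rfl⟩ := hR.trans b w hab.symm hw
      have hyx := hWE y hyW x hx
      have hmem : x * (y * x * y⁻¹)⁻¹ ∈ I := ⟨mul_mem hx (inv_mem hyx), by
        have h2 : y * (y * x * y⁻¹) * y⁻¹ = x := by
          rw [F.inv_eq hyW]
          calc y * (y * x * y) * y = (y * y) * x * (y * y) := by simp only [mul_assoc]
            _ = x := by rw [F.sq y hyW, one_mul, mul_one]
        calc y * (x * (y * x * y⁻¹)⁻¹) * y⁻¹ = (y * x * y⁻¹) * (y * (y * x * y⁻¹) * y⁻¹)⁻¹ := by group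
          _ = (x * (y * x * y⁻¹)⁻¹)⁻¹ := by rw [h2]; group⟩
      rw [e, Subgroup.mem_bot, mul_inv_eq_one] at hmem
      rw [← mul_smul, (mul_inv_eq_iff_eq_mul.1 hmem.symm), mul_smul, hyb]
    obtain ⟨x₂, hx₂, hx₂1, he₂⟩ := heig I (fun x hx => hx.1) hIne hIW
    obtain ⟨X₂, hX₂, hzX₂, hm₂⟩ := hgood x₂ hx₂.1 hx₂1 he₂
    have hyX₂ : y ∉ X₂ := fun h => by
      have h1 := (hm₂ y hyW).1 h
      rw [hx₂.2] at h1
      exact hx₂1 (hno2 x₂ hx₂.1 h1.symm)
    have hneX : X₁ ≠ X₂ := fun e => hyX₂ (e ▸ hy)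
    set Y := X₁ ⊓ X₂ with hY
    set Z := Y ⊔ Subgroup.zpowers z with hZ
    have hZW : Z ≤ W := sup_le (inf_le_left.trans hX₁.le) (Subgroup.zpowers_le.2 hzW)
    have hlt : Y ≠ Z := fun e => hzX₁ (Subgroup.mem_inf.1
      (e ▸ Subgroup.mem_sup_right (Subgroup.mem_zpowers z) : z ∈ Y)).1
    have h2Y : 2 * Nat.card Y ≤ Nat.card Z := two_mul_card_le_of_lt le_sup_left hlt
    -- `y` is not in `Z`
    have hyZ : y ∉ Z := by
      have hsub : ∀ u ∈ Z, u ∈ Y ∨ u * z ∈ Y := by
        let Z' : Subgroup G :=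
          { carrier := {u | u ∈ W ∧ (u ∈ Y ∨ u * z ∈ Y)}
            one_mem' := ⟨one_mem W, Or.inl (one_mem Y)⟩
            mul_mem' := fun {s t} hs ht => ⟨mul_mem hs.1 ht.1, by
              rcases hs.2 with h1 | h1 <;> rcases ht.2 with h2 | h2
              · exact Or.inl (mul_mem h1 h2)
              · exact Or.inr (by rw [mul_assoc]; exact mul_mem h1 h2)
              · exact Or.inr (by
                  rw [mul_assoc, F.comm t ht.1 z hzW, ← mul_assoc]; exact mul_mem h1 h2)
              · refine Or.inl ?_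
                have := mul_mem h1 h2
                rwa [mul_assoc, ← mul_assoc z, F.comm z hzW t ht.1, mul_assoc t, hz2, mul_one] at this⟩
            inv_mem' := fun {s} hs => by rw [F.inv_eq hs.1]; exact hs }
        intro u hu
        exact ((sup_le (fun x hx => ⟨hX₁.le (Subgroup.mem_inf.1 hx).1, Or.inl hx⟩)
          (Subgroup.zpowers_le.2 (show z ∈ Z' from ⟨hzW, Or.inr (by rw [hz2]; exact one_mem Y)⟩)) : Z ≤ Z') hu).2
      intro h
      rcases hsub y h with h | h
      · exact hyX₂ (Subgroup.mem_inf.1 h).2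
      · exact hzX₁ ((mul_mem_cancel_left hy).1 (Subgroup.mem_inf.1 h).1)
    have hZlt : Z ≠ W := fun e => hyZ (e ▸ hyW)
    have h2Z := two_mul_card_le_of_lt hZW hZlt
    have h4 : Nat.card W ≤ 4 * Nat.card Y := by
      have h1 : Y.relIndex X₁ ≤ 2 := by
        rw [hY, Subgroup.inf_relIndex_left]
        have h2 := card_eq_mul_relIndex hX₂.le
        have h3 := hX₂.card
        have h4 : X₂.relIndex W = 2 := by
          have : 0 < Nat.card X₂ := Nat.card_pos
          nlinarith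
        exact (Subgroup.relIndex_le_of_le_right hX₁.le (by rw [h4]; norm_num)).trans h4.le
      have h2 := card_eq_mul_relIndex (inf_le_left : Y ≤ X₁)
      have := hX₁.card
      nlinarith
    obtain ⟨c, hc, hca, hcb⟩ := (F.closure C hX₁ hX₂ hneX hZW (by omega) le_sup_left).fix
    rcases hzfix c (hc z (Subgroup.mem_sup_right (Subgroup.mem_zpowers z))) with h | h
    exacts [hca h, hcb h]
  -- the only central involution of `P` is `z`
  have hcen : ∀ K : Subgroup G, K ≤ P → K ≠ ⊥ → (∀ g ∈ P, cj g K = K) → z ∈ K := by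
    intro K hK hne hnorm
    obtain ⟨u, hu, hu1, hu2, huc⟩ := exists_central_invol F.syl.isPGroup hK hne hnorm
    rcases hW2 u (F.omega u (hK hu) huc hu2) with h | h
    · exact absurd h hu1
    · exact h ▸ hu
  -- the determinant on `E` is injective on `P`
  have hPcyc : IsCyclic P := by
    letI : CommGroup E := { E.toGroup with mul_comm := fun x y => Subtype.ext (hR.comm x x.2 y y.2) }
    haveI : Finite (Additive E) := Finite.of_equiv E Additive.ofMul
    have hPa : ∀ g : P, (g : G) • a = a := fun g => (mem_S2.1 (F.syl.le g.2)).2.1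
    let f : P → (E →* E) := fun g =>
      { toFun := fun x => ⟨(g : G) * x * (g : G)⁻¹, hEst g (hPa g) x x.2⟩
        map_one' := Subtype.ext (by simp)
        map_mul' := fun x y => Subtype.ext (by simp) }
    obtain ⟨δ, k, hk, hδ⟩ := exists_det hR.prime (P := P) (V := Additive E)
      (fun x => Additive.toMul.injective (Subtype.ext (by
        simpa using hR.pow _ (Additive.toMul x).2)))
      (fun g => MonoidHom.toAdditive (f g))
      (fun x => Additive.toMul.injective (Subtype.ext (by simp [f])))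
      (fun g k x => Additive.toMul.injective (Subtype.ext (by simp [f, mul_assoc])))
    have hkodd : Odd k := by
      rw [← Nat.not_even_iff_odd]
      rintro ⟨i, hi⟩
      rw [← Nat.card_congr (Additive.ofMul (α := E)), hR.card_eq hab.symm, hi, pow_add] at hk
      have h1 := C.dvd3
      have h2 := C.lt
      have h3' : (p ^ i * p ^ i) % 3 ≠ 2 := by
        rw [Nat.mul_mod]
        have : p ^ i % 3 < 3 := Nat.mod_lt _ (by norm_num)
        interval_cases (p ^ i % 3) <;> simp
      omega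
    have hp2 : p ≠ 2 := fun e => by
      have hlt := C.lt
      obtain ⟨i, hi⟩ := heven
      have h1 : Odd (Nat.card Ω - 1) := ⟨i - 1, by omega⟩
      rw [← hR.card_eq hab.symm, Nat.card_congr (Additive.ofMul (α := E)), hk] at h1
      exact Nat.not_even_iff_odd.2 h1 (Nat.even_pow.2 ⟨by rw [e]; exact even_two, fun h => by
        rw [h] at hkodd; exact Nat.not_odd_zero hkodd⟩)
    haveI : Fact (2 < p) := ⟨lt_of_le_of_ne hR.prime.two_le (Ne.symm hp2)⟩
    have hinj : Function.Injective δ := by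
      rw [← MonoidHom.ker_eq_bot_iff]
      by_contra hne
      have hzK : z ∈ δ.ker.map P.subtype := hcen _ (Subgroup.map_subtype_le _)
        (fun e => hne ((Subgroup.map_eq_bot_iff_of_injective _ P.subtype_injective).1 e))
        (fun g hg => cj_eq_self (by
          rintro _ ⟨x, hx, rfl⟩
          exact ⟨_, (inferInstance : δ.ker.Normal).conj_mem x hx ⟨g, hg⟩, rfl⟩))
      obtain ⟨⟨z', hz'⟩, hker, e⟩ := hzK
      change z' = z at e
      subst e
      have h1 := hδ ⟨z', hz'⟩ (fun x => Additive.toMul.injective (Subtype.ext (by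
        simpa [f] using hinv _ (Additive.toMul x).2)))
      rw [MonoidHom.mem_ker.1 hker, Units.val_one, hkodd.neg_one_pow] at h1
      exact ZMod.neg_one_ne_one h1.symm
    exact isCyclic_of_injective δ hinj
  -- every 2-subgroup of the two-point stabilizer
  obtain ⟨k, hk, hkQ⟩ := exists_cj_le F.syl hQ hQab
  obtain ⟨-, hka, hkb⟩ := mem_S2.1 hk
  refine ⟨?_, fun u hu hu1 x hx => ?_⟩
  · haveI := hPcyc
    let j : Q →* P :=
      { toFun := fun q => ⟨k * q * k⁻¹, hkQ (conj_mem_cj q.2)⟩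
        map_one' := Subtype.ext (by simp)
        map_mul' := fun q q' => Subtype.ext (by simp [mul_assoc]) }
    refine isCyclic_of_injective j fun q q' h => Subtype.ext ?_
    exact mul_left_cancel (mul_right_cancel (congrArg Subtype.val h))
  · set v := k * u * k⁻¹ with hv
    have hvP : v ∈ P := hkQ (conj_mem_cj hu)
    have hv1 : v ≠ 1 := fun e => hu1 (conj_eq_one_iff.1 (hv ▸ e))
    haveI := hPcyc
    have hzv : z ∈ Subgroup.zpowers v := hcen _ (Subgroup.zpowers_le.2 hvP)
      (fun e => hv1 (Subgroup.zpowers_eq_bot.1 e)) (fun g hg => by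
        refine cj_of_commute fun w hw => ?_
        obtain ⟨i, rfl⟩ := Subgroup.mem_zpowers_iff.1 hw
        refine Commute.zpow_right ?_ i
        exact congrArg Subtype.val ((IsCyclic.isMulCommutative (α := P)).is_comm.comm (⟨g, hg⟩ : P) ⟨v, hvP⟩))
    have hvx : v • (k • x) = k • x := by rw [hv, mul_smul, mul_smul, inv_smul_smul, hx]
    have hzx : z • (k • x) = k • x :=
      (Subgroup.zpowers_le.2 (mem_stabilizer_iff.2 hvx) : Subgroup.zpowers v ≤ stabilizer G (k • x)) hzv
    rcases hzfix _ hzx with h | h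
    · exact Or.inl (MulAction.injective k (h.trans hka.symm))
    · exact Or.inr (MulAction.injective k (h.trans hkb.symm))

end Cfsg.Lib.Wagner
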