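import Cfsg.Agent.Lib.Wagner.Conj
import Cfsg.Agent.Lib.Perm.NormalTransitive

/-!
# Normal subgroups of triply transitive groups of degree divisible by three: basic facts

`H` is a normal subgroup of the triply transitive group `G`; `Col H a b c d` says that `c` and `d`
are in the same orbit of the stabilizer of `a` and `b` in `H`.
-/

set_option autoImplicit false
set_option linter.unusedSectionVars false
set_option linter.style.haveILetI false

namespace Cfsg.Lib.Wagner

open MulAction Cfsg.Lib.Plane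

variable {G : Type*} [Group G] {Ω : Type*} [MulAction G Ω]

/-- The setting: `G` faithful and 3-transitive on `Ω`, `3 ∣ |Ω| > 3`, `H` a non-trivial normal subgroup. -/
structure Ctx (H : Subgroup G) (Ω : Type*) [MulAction G Ω] : Prop where
  faithful : FaithfulSMul G Ω
  three : IsMultiplyPretransitive G Ω 3
  dvd3 : 3 ∣ Nat.card Ω
  lt : 3 < Nat.card Ω
  normal : H.Normal
  ne_bot : H ≠ ⊥

/-- One-point stabilizer in `H`. -/
def S1 (H : Subgroup G) (a : Ω) : Subgroup G := H ⊓ stabilizer G a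

/-- Two-point stabilizer in `H`. -/
def S2 (H : Subgroup G) (a b : Ω) : Subgroup G := H ⊓ stabilizer G a ⊓ stabilizer G b

/-- Three-point stabilizer in `H`. -/
def S3 (H : Subgroup G) (a b c : Ω) : Subgroup G := S2 H a b ⊓ stabilizer G c

theorem mem_S1 {H : Subgroup G} {a : Ω} {g : G} : g ∈ S1 H a ↔ g ∈ H ∧ g • a = a := Iff.rfl

theorem mem_S2 {H : Subgroup G} {a b : Ω} {g : G} :
    g ∈ S2 H a b ↔ g ∈ H ∧ g • a = a ∧ g • b = b := by
  simp [S2, and_assoc]

theorem mem_S3 {H : Subgroup G} {a b c : Ω} {g : G} :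
    g ∈ S3 H a b c ↔ g ∈ H ∧ g • a = a ∧ g • b = b ∧ g • c = c := by
  simp [S3, S2, and_assoc]

theorem S2_comm (H : Subgroup G) (a b : Ω) : S2 H a b = S2 H b a := by
  ext g; simp only [mem_S2]; tauto

theorem S2_le_S1 (H : Subgroup G) (a b : Ω) : S2 H a b ≤ S1 H a := inf_le_left

theorem S3_le_S2 (H : Subgroup G) (a b c : Ω) : S3 H a b c ≤ S2 H a b := inf_le_left

/-- The elements of `H` preserving the pair `{a, b}`. -/
def pairStab (H : Subgroup G) (a b : Ω) : Subgroup G where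
  carrier := {g | g ∈ H ∧ ((g • a = a ∧ g • b = b) ∨ (g • a = b ∧ g • b = a))}
  one_mem' := ⟨one_mem H, Or.inl ⟨one_smul _ _, one_smul _ _⟩⟩
  mul_mem' := by
    rintro x y ⟨hx, hx'⟩ ⟨hy, hy'⟩
    refine ⟨mul_mem hx hy, ?_⟩
    rcases hx' with ⟨h1, h2⟩ | ⟨h1, h2⟩ <;> rcases hy' with ⟨h3, h4⟩ | ⟨h3, h4⟩ <;>
      simp [mul_smul, h1, h2, h3, h4]
  inv_mem' := by
    rintro x ⟨hx, hx'⟩
    refine ⟨inv_mem hx, ?_⟩
    rcases hx' with ⟨h1, h2⟩ | ⟨h1, h2⟩
    · exact Or.inl ⟨inv_smul_eq_iff.2 h1.symm, inv_smul_eq_iff.2 h2.symm⟩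
    · exact Or.inr ⟨inv_smul_eq_iff.2 h2.symm, inv_smul_eq_iff.2 h1.symm⟩

theorem mem_pairStab {H : Subgroup G} {a b : Ω} {g : G} :
    g ∈ pairStab H a b ↔ g ∈ H ∧ ((g • a = a ∧ g • b = b) ∨ (g • a = b ∧ g • b = a)) := Iff.rfl

theorem S2_le_pairStab (H : Subgroup G) (a b : Ω) : S2 H a b ≤ pairStab H a b := fun _ hg =>
  ⟨(mem_S2.1 hg).1, Or.inl (mem_S2.1 hg).2⟩

/-- `c` and `d` have the same colour with respect to `(a, b)`. -/
def Col (H : Subgroup G) (a b c d : Ω) : Prop := d ∈ orb (S2 H a b) c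

/-- At most two colours. -/
def Two (H : Subgroup G) (Ω : Type*) [MulAction G Ω] : Prop :=
  ∀ a b c₁ c₂ c₃ : Ω, a ≠ b → c₁ ≠ a → c₁ ≠ b → c₂ ≠ a → c₂ ≠ b → c₃ ≠ a → c₃ ≠ b →
    Col H a b c₁ c₂ ∨ Col H a b c₁ c₃ ∨ Col H a b c₂ c₃

/-- Some element of `H` exchanges two points and fixes a third. -/
def Sym (H : Subgroup G) (Ω : Type*) [MulAction G Ω] : Prop :=
  ∀ a b c : Ω, a ≠ b → a ≠ c → b ≠ c → ∃ h ∈ H, h • a = b ∧ h • b = a ∧ h • c = c

theorem Col.refl (H : Subgroup G) (a b c : Ω) : Col H a b c c := self_mem_orb _ c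

theorem Col.symm {H : Subgroup G} {a b c d : Ω} (h : Col H a b c d) : Col H a b d c := orb_symm h

theorem Col.trans {H : Subgroup G} {a b c d e : Ω} (h : Col H a b c d) (h' : Col H a b d e) :
    Col H a b c e := orb_trans h h'

theorem Col.exists' {H : Subgroup G} {a b c d : Ω} (h : Col H a b c d) :
    ∃ k ∈ H, k • a = a ∧ k • b = b ∧ k • c = d := by
  obtain ⟨k, hk, hkc⟩ := h
  obtain ⟨h1, h2, h3⟩ := mem_S2.1 hk
  exact ⟨k, h1, h2, h3, hkc⟩

theorem Col.mk {H : Subgroup G} {a b c d : Ω} {k : G} (hk : k ∈ H) (ha : k • a = a) (hb : k • b = b)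
    (hc : k • c = d) : Col H a b c d := ⟨k, mem_S2.2 ⟨hk, ha, hb⟩, hc⟩

section Normal

variable {H : Subgroup G} [H.Normal]

theorem mem_cj_normal {g x : G} : x ∈ cj g H ↔ x ∈ H := by
  rw [mem_cj]
  exact ⟨fun h => by simpa [mul_assoc] using Subgroup.Normal.conj_mem inferInstance _ h g,
    fun h => Subgroup.Normal.conj_mem' inferInstance _ h g⟩

theorem cj_S1 (g : G) (a : Ω) : cj g (S1 H a) = S1 H (g • a) := by
  ext x
  rw [mem_cj, mem_S1, mem_S1, ← mem_cj_normal (g := g) (x := x), mem_cj, mul_smul, mul_smul,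
    inv_smul_eq_iff]

theorem cj_S2 (g : G) (a b : Ω) : cj g (S2 H a b) = S2 H (g • a) (g • b) := by
  ext x
  rw [mem_cj, mem_S2, mem_S2, ← mem_cj_normal (g := g) (x := x), mem_cj, mul_smul, mul_smul,
    inv_smul_eq_iff, mul_smul, mul_smul, inv_smul_eq_iff]

theorem cj_S3 (g : G) (a b c : Ω) : cj g (S3 H a b c) = S3 H (g • a) (g • b) (g • c) := by
  ext x
  rw [mem_cj, mem_S3, mem_S3, ← mem_cj_normal (g := g) (x := x), mem_cj, mul_smul, mul_smul,
    inv_smul_eq_iff, mul_smul, mul_smul, inv_smul_eq_iff, mul_smul, mul_smul, inv_smul_eq_iff]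

theorem Col.smul {a b c d : Ω} (g : G) (h : Col H a b c d) :
    Col H (g • a) (g • b) (g • c) (g • d) := by
  obtain ⟨k, hk, hkc⟩ := h
  refine ⟨g * k * g⁻¹, ?_, ?_⟩
  · rw [← cj_S2]; exact conj_mem_cj hk
  · rw [mul_smul, mul_smul, inv_smul_smul, hkc]

end Normal

namespace Ctx

variable {H : Subgroup G} (C : Ctx H Ω)
include C

theorem exists3 {a b c a' b' c' : Ω} (h1 : a ≠ b) (h2 : a ≠ c) (h3 : b ≠ c) (h1' : a' ≠ b')
    (h2' : a' ≠ c') (h3' : b' ≠ c') : ∃ g : G, g • a = a' ∧ g • b = b' ∧ g • c = c' := by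
  have hinj : ∀ {x y z : Ω}, x ≠ y → x ≠ z → y ≠ z → Function.Injective ![x, y, z] := by
    intro x y z hxy hxz hyz i j hij
    fin_cases i <;> fin_cases j <;> simp_all [eq_comm]
  haveI := C.three
  obtain ⟨g, hg⟩ := MulAction.exists_smul_eq G (⟨![a, b, c], hinj h1 h2 h3⟩ : Fin 3 ↪ Ω)
    ⟨![a', b', c'], hinj h1' h2' h3'⟩
  exact ⟨g, congrArg (fun e : Fin 3 ↪ Ω => e 0) hg, congrArg (fun e : Fin 3 ↪ Ω => e 1) hg,
    congrArg (fun e : Fin 3 ↪ Ω => e 2) hg⟩

theorem finite : Finite Ω := Nat.finite_of_card_ne_zero (by have := C.lt; omega)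

theorem exists_third (a b : Ω) : ∃ c : Ω, c ≠ a ∧ c ≠ b := by
  classical
  haveI := C.finite
  by_contra h
  push Not at h
  haveI := Fintype.ofFinite Ω
  have hsub : (Finset.univ : Finset Ω) ⊆ {a, b} := fun x _ => by
    by_cases hx : x = a
    · simp [hx]
    · simp [h x hx]
  have := (Finset.card_le_card hsub).trans Finset.card_le_two
  have h4 := C.lt
  rw [Finset.card_univ] at this
  rw [Nat.card_eq_fintype_card] at h4
  omega

theorem exists_fourth (a b c : Ω) : ∃ d : Ω, d ≠ a ∧ d ≠ b ∧ d ≠ c := by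
  classical
  haveI := C.finite
  by_contra h
  push Not at h
  haveI := Fintype.ofFinite Ω
  have hsub : (Finset.univ : Finset Ω) ⊆ {a, b, c} := fun x _ => by
    by_cases hx : x = a
    · simp [hx]
    · by_cases hx' : x = b
      · simp [hx']
      · simp [h x hx hx']
  have := (Finset.card_le_card hsub).trans Finset.card_le_three
  have h4 := C.lt
  rw [Finset.card_univ] at this
  rw [Nat.card_eq_fintype_card] at h4
  omega

theorem exists2 {a b a' b' : Ω} (h1 : a ≠ b) (h1' : a' ≠ b') :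
    ∃ g : G, g • a = a' ∧ g • b = b' := by
  obtain ⟨c, hca, hcb⟩ := C.exists_third a b
  obtain ⟨c', hca', hcb'⟩ := C.exists_third a' b'
  obtain ⟨g, h, h', -⟩ := C.exists3 h1 hca.symm hcb.symm h1' hca'.symm hcb'.symm
  exact ⟨g, h, h'⟩

theorem nonempty : Nonempty Ω := by
  have := C.lt
  by_contra h
  rw [not_nonempty_iff] at h
  simp at this

variable [Finite G]

theorem h_transitive (x y : Ω) : ∃ h ∈ H, h • x = y := by
  haveI := C.normal
  haveI := C.faithful
  haveI : IsMultiplyPretransitive G Ω 2 :=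
    is_two_pretransitive_iff.2 fun h h' => C.exists2 h h'
  haveI : IsPreprimitive G Ω := isPreprimitive_of_is_two_pretransitive inferInstance
  haveI : IsPretransitive H Ω := by
    apply IsQuasiPreprimitive.isPretransitive_of_normal
    intro hfix
    apply C.ne_bot
    rw [Subgroup.eq_bot_iff_forall]
    intro h hh
    apply FaithfulSMul.eq_of_smul_eq_smul (α := Ω)
    intro z
    rw [one_smul]
    exact (Set.eq_univ_iff_forall.1 hfix z) ⟨h, hh⟩
  obtain ⟨h, hh⟩ := MulAction.exists_smul_eq H x y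
  exact ⟨h, h.2, hh⟩

theorem card_eq_one_mul (a : Ω) : Nat.card H = Nat.card Ω * Nat.card (S1 H a) := by
  have h1 := card_orb_mul H a
  rw [show orb H a = Set.univ from Set.eq_univ_of_forall fun y => C.h_transitive a y,
    Nat.card_coe_set_eq, Set.ncard_univ] at h1
  exact h1.symm

/-- A regular normal subgroup is impossible. -/
theorem S1_ne_bot (a : Ω) : S1 H a ≠ ⊥ := by
  intro hbot
  haveI := C.normal
  haveI := C.faithful
  have hfree : ∀ h ∈ H, ∀ x : Ω, h • x = x → h = 1 := by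
    intro h hh x hx
    obtain ⟨k, hk, hka⟩ := C.h_transitive a x
    have hmem : k⁻¹ * h * k ∈ S1 H a :=
      mem_S1.2 ⟨mul_mem (mul_mem (inv_mem hk) hh) hk,
        by rw [mul_smul, mul_smul, hka, hx, ← hka, inv_smul_smul]⟩
    rw [hbot, Subgroup.mem_bot] at hmem
    calc h = k * (k⁻¹ * h * k) * k⁻¹ := by group
      _ = 1 := by rw [hmem, mul_one, mul_inv_cancel]
  have hsq : ∀ h ∈ H, h * h = 1 := by
    intro h hh
    refine hfree _ (mul_mem hh hh) a ?_
    by_contra hne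
    rw [mul_smul] at hne
    set b := h • a with hb
    set c := h • b with hc
    have hab : a ≠ b := fun e => hne (by rw [hc, ← e, ← hb, ← e])
    have hcb : c ≠ b := fun e => by
      have h1 := hfree h hh b e
      exact hab (by rw [hb, h1, one_smul])
    obtain ⟨d, hda, hdb, hdc⟩ := C.exists_fourth a b c
    obtain ⟨g, hga, hgb, hgc⟩ := C.exists3 hab (Ne.symm hne) hcb.symm hab hda.symm hdb.symm
    have h1 : g * h * g⁻¹ = h := by
      have h2 : h⁻¹ * (g * h * g⁻¹) = 1 := by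
        refine hfree _ (mul_mem (inv_mem hh) (Subgroup.Normal.conj_mem inferInstance h hh g)) a ?_
        rw [mul_smul, mul_smul, mul_smul, inv_smul_eq_iff.2 hga.symm, ← hb, hgb, hb, inv_smul_smul]
      exact (inv_mul_eq_one.1 h2).symm
    have h3 : g • c = c := by
      rw [hc]
      calc g • h • b = (g * h * g⁻¹) • g • b := by rw [mul_smul, mul_smul, inv_smul_smul]
        _ = h • b := by rw [h1, hgb]
    exact hdc (hgc.symm.trans h3)
  have hcard : Nat.card H = Nat.card Ω := by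
    rw [C.card_eq_one_mul a, hbot, Subgroup.card_bot, mul_one]
  haveI : Fact (Nat.Prime 3) := ⟨Nat.prime_three⟩
  obtain ⟨x, hx⟩ := exists_prime_orderOf_dvd_card' (G := H) 3 (hcard ▸ C.dvd3)
  have h2 : orderOf x ∣ 2 := orderOf_dvd_of_pow_eq_one (by
    rw [pow_two]; exact Subtype.ext (hsq x x.2))
  rw [hx] at h2
  norm_num at h2

theorem h_two : IsMultiplyPretransitive H Ω 2 := by
  haveI := C.faithful
  haveI := C.finite
  haveI := Fintype.ofFinite Ω
  haveI := C.nonempty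
  have hcard : 3 < Fintype.card Ω := by
    have := C.lt; rwa [Nat.card_eq_fintype_card] at this
  haveI := C.three
  have hprim : IsMultiplyPreprimitive G Ω 2 :=
    haveI : IsMultiplyPretransitive G Ω (Nat.succ 2) := C.three
    isMultiplyPreprimitive_of_isMultiplyPretransitive_succ G Ω
      (by rw [ENat.card_eq_coe_fintype_card, Nat.cast_le]; omega)
  refine Cfsg.Agent.Perm.normal_transitive (by omega) hprim H C.normal C.ne_bot ?_ (Or.inl le_rfl)
  obtain ⟨a⟩ := C.nonempty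
  refine ⟨a, fun hbot => C.S1_ne_bot a ?_⟩
  rw [Subgroup.eq_bot_iff_forall]
  intro g hg
  have hm : (⟨g, (mem_S1.1 hg).1⟩ : H) ∈ stabilizer H a := (mem_S1.1 hg).2
  rw [hbot, Subgroup.mem_bot] at hm
  exact congrArg Subtype.val hm

theorem h_exists2 {a b a' b' : Ω} (h1 : a ≠ b) (h1' : a' ≠ b') :
    ∃ h ∈ H, h • a = a' ∧ h • b = b' := by
  obtain ⟨h, h2, h3⟩ := is_two_pretransitive_iff.1 C.h_two h1 h1'
  exact ⟨h, h.2, h2, h3⟩

theorem card_S1_eq {a b : Ω} (hab : a ≠ b) :
    Nat.card (S1 H a) = (Nat.card Ω - 1) * Nat.card (S2 H a b) := by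
  haveI := C.finite
  have h1 := card_orb_mul (S1 H a) b
  rw [show orb (S1 H a) b = ({a} : Set Ω)ᶜ from ?_, Nat.card_coe_set_eq, Set.ncard_compl,
    Set.ncard_singleton] at h1
  · exact h1.symm
  · ext y
    constructor
    · rintro ⟨k, hk, rfl⟩
      intro e
      exact hab.symm (MulAction.injective k (e.trans (mem_S1.1 hk).2.symm))
    · intro hy
      obtain ⟨h, hh, h2, h3⟩ := C.h_exists2 hab (Ne.symm hy : a ≠ y)
      exact ⟨h, mem_S1.2 ⟨hh, h2⟩, h3⟩

/-- Every colour can be moved to every other by the stabilizer of `a` and `b` in `G`. -/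
theorem exists_move {a b c d : Ω} (hab : a ≠ b) (hca : c ≠ a) (hcb : c ≠ b) (hda : d ≠ a) (hdb : d ≠ b) :
    ∃ g : G, g • a = a ∧ g • b = b ∧ g • c = d :=
  C.exists3 hab hca.symm hcb.symm hab hda.symm hdb.symm

theorem orb_subset {a b c : Ω} (hca : c ≠ a) (hcb : c ≠ b) :
    orb (S2 H a b) c ⊆ ({a, b} : Set Ω)ᶜ := by
  rintro _ ⟨k, hk, rfl⟩ h
  obtain ⟨-, h2, h3⟩ := mem_S2.1 hk
  rcases h with h | h
  · exact hca (MulAction.injective k (h.trans h2.symm))
  · exact hcb (MulAction.injective k (h.trans h3.symm))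

theorem card_orb_eq {a b c d : Ω} (hab : a ≠ b) (hca : c ≠ a) (hcb : c ≠ b) (hda : d ≠ a) (hdb : d ≠ b) :
    Nat.card ↥(orb (S2 H a b) c) = Nat.card ↥(orb (S2 H a b) d) := by
  haveI := C.normal
  obtain ⟨g, hga, hgb, hgc⟩ := C.exists_move hab hca hcb hda hdb
  refine Nat.card_congr ((MulAction.toPerm g).subtypeEquiv fun y => ?_)
  show Col H a b c y ↔ Col H a b d (g • y)
  constructor
  · intro h
    have := h.smul g
    rwa [hga, hgb, hgc] at this
  · intro h
    have := h.smul g⁻¹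
    rwa [inv_smul_eq_iff.2 hga.symm, inv_smul_eq_iff.2 hgb.symm, inv_smul_eq_iff.2 hgc.symm,
      inv_smul_smul] at this

theorem card_orb_dvd {a b c : Ω} (hab : a ≠ b) (hca : c ≠ a) (hcb : c ≠ b) :
    Nat.card ↥(orb (S2 H a b) c) ∣ Nat.card Ω - 2 := by
  classical
  haveI := C.finite
  haveI := Fintype.ofFinite Ω
  set s : Finset Ω := Finset.univ.filter fun x => x ≠ a ∧ x ≠ b with hs
  have hcard : s.card = Nat.card Ω - 2 := by
    rw [hs, show (Finset.univ.filter fun x => x ≠ a ∧ x ≠ b) = Finset.univ \ {a, b} from by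
      ext x; simp, Finset.card_sdiff_of_subset (Finset.subset_univ _), Finset.card_univ,
      Finset.card_pair hab, Nat.card_eq_fintype_card]
  rw [← hcard, Finset.card_eq_sum_card_image (fun x => orb (S2 H a b) x) s]
  refine Finset.dvd_sum fun O hO => ?_
  obtain ⟨x, hx, rfl⟩ := Finset.mem_image.1 hO
  have hxab : x ≠ a ∧ x ≠ b := (Finset.mem_filter.1 hx).2
  rw [C.card_orb_eq hab hca hcb hxab.1 hxab.2, Nat.card_coe_set_eq]
  refine dvd_of_eq ?_
  rw [Set.ncard_eq_toFinset_card']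
  congr 1
  ext y
  simp only [Set.mem_toFinset, Finset.mem_filter, hs, Finset.mem_univ, true_and]
  constructor
  · intro hy
    have h2 := C.orb_subset hxab.1 hxab.2 hy
    simp only [Set.mem_compl_iff, Set.mem_insert_iff, Set.mem_singleton_iff, not_or] at h2
    refine ⟨h2, ?_⟩
    ext z
    exact ⟨fun hz => orb_trans hy hz, fun hz => orb_trans (orb_symm hy) hz⟩
  · rintro ⟨-, hy⟩
    rw [← hy]
    exact self_mem_orb _ y

theorem not_three_dvd_orb {a b c : Ω} (hab : a ≠ b) (hca : c ≠ a) (hcb : c ≠ b) :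
    ¬ 3 ∣ Nat.card ↥(orb (S2 H a b) c) := fun h => by
  have h1 := h.trans (C.card_orb_dvd hab hca hcb)
  have h2 := C.dvd3
  have h3 := C.lt
  omega

theorem card_S2_eq (a b c : Ω) :
    Nat.card (S2 H a b) = Nat.card ↥(orb (S2 H a b) c) * Nat.card (S3 H a b c) :=
  (card_orb_mul (S2 H a b) c).symm

/-- Few large colours. -/
theorem two_of_large {a b c : Ω} (hab : a ≠ b) (hca : c ≠ a) (hcb : c ≠ b)
    (hr : Nat.card Ω - 2 ≤ 2 * Nat.card ↥(orb (S2 H a b) c)) : Two H Ω := by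
  classical
  haveI := C.normal
  haveI := C.finite
  intro a' b' x y z hab' hxa hxb hya hyb hza hzb
  obtain ⟨g, hga, hgb⟩ := C.exists2 hab' hab
  by_contra hne
  push Not at hne
  obtain ⟨hxy, hxz, hyz⟩ := hne
  have hne' : ∀ {u v : Ω}, u ≠ a' → u ≠ b' → g • u ≠ a ∧ g • u ≠ b := fun {u v} hu hu' =>
    ⟨fun e => hu (MulAction.injective g (e.trans hga.symm)), fun e => hu' (MulAction.injective g (e.trans hgb.symm))⟩
  have hdis : ∀ {u v : Ω}, ¬ Col H a' b' u v →
      Disjoint (orb (S2 H a b) (g • u)) (orb (S2 H a b) (g • v)) := by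
    intro u v huv
    rw [Set.disjoint_left]
    intro w hw hw'
    refine huv ?_
    have h1 : Col H a b (g • u) (g • v) := orb_trans hw (orb_symm hw')
    have := h1.smul g⁻¹
    rwa [inv_smul_smul, inv_smul_smul, inv_smul_eq_iff.2 hga.symm, inv_smul_eq_iff.2 hgb.symm] at this
  set r := Nat.card ↥(orb (S2 H a b) c) with hrdef
  have hcard : ∀ {u : Ω}, u ≠ a' → u ≠ b' → (orb (S2 H a b) (g • u)).ncard = r := fun {u} hu hu' => by
    rw [← Nat.card_coe_set_eq, C.card_orb_eq hab (hne' (v := u) hu hu').1 (hne' (v := u) hu hu').2 hca hcb]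
  have hU : (orb (S2 H a b) (g • x) ∪ orb (S2 H a b) (g • y) ∪ orb (S2 H a b) (g • z)).ncard = 3 * r := by
    rw [Set.ncard_union_eq (Disjoint.union_left (hdis hxz) (hdis hyz)),
      Set.ncard_union_eq (hdis hxy), hcard hxa hxb, hcard hya hyb, hcard hza hzb]
    ring
  have hsub : orb (S2 H a b) (g • x) ∪ orb (S2 H a b) (g • y) ∪ orb (S2 H a b) (g • z) ⊆
      ({a, b} : Set Ω)ᶜ :=
    Set.union_subset (Set.union_subset (C.orb_subset (hne' (v := x) hxa hxb).1 (hne' (v := x) hxa hxb).2)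
      (C.orb_subset (hne' (v := x) hya hyb).1 (hne' (v := x) hya hyb).2))
      (C.orb_subset (hne' (v := x) hza hzb).1 (hne' (v := x) hza hzb).2)
  have hle := Set.ncard_le_ncard hsub
  rw [hU, Set.ncard_compl, Set.ncard_pair hab] at hle
  have hr0 : 0 < r := card_orb_pos _ _
  omega

/-- The subgroup `H G_abc` has index dividing `|Ω| - 2`; hence a normalising element of prime order `p`
modulo it, `p` not dividing `|Ω| - 2`, lies in it. -/
theorem lift_of_perm {a b c a' b' c' : Ω} {p : ℕ} [Fact p.Prime] (hab : a ≠ b) (hca : c ≠ a)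
    (hcb : c ≠ b) (hp : ¬ p ∣ Nat.card Ω - 2) {g : G} (ha : g • a = a') (hb : g • b = b')
    (hc : g • c = c') (hset : ({a', b', c'} : Set Ω) = {a, b, c})
    (hgp : (g ^ p) • a = a ∧ (g ^ p) • b = b ∧ (g ^ p) • c = c) :
    ∃ h ∈ H, h • a = a' ∧ h • b = b' ∧ h • c = c' := by
  classical
  haveI := C.normal
  haveI := C.finite
  set E : Subgroup G := stabilizer G a ⊓ stabilizer G b ⊓ stabilizer G c with hE
  set P : Subgroup G := stabilizer G a ⊓ stabilizer G b with hP
  set f : G →* G ⧸ H := QuotientGroup.mk' H with hf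
  set S : Subgroup (G ⧸ H) := E.map f with hS
  have hsurj : Function.Surjective (f.comp P.subtype) := by
    intro q
    obtain ⟨x, rfl⟩ := QuotientGroup.mk_surjective q
    obtain ⟨h, hh, h1, h2⟩ := C.h_exists2 (a := x • a) (b := x • b)
      (fun e => hab (MulAction.injective x e)) hab
    refine ⟨⟨h * x, ⟨by simpa [mul_smul] using h1, by simpa [mul_smul] using h2⟩⟩, ?_⟩
    show f (h * x) = f x
    rw [map_mul, show f h = 1 from (QuotientGroup.eq_one_iff h).2 hh, one_mul]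
  have hidx : S.index ∣ Nat.card Ω - 2 := by
    have h1 : S = (E.subgroupOf P).map (f.comp P.subtype) := by
      rw [← Subgroup.map_map, Subgroup.map_subgroupOf_eq_of_le (show E ≤ P from inf_le_left)]
    have h2 : (E.subgroupOf P).index = Nat.card Ω - 2 := by
      rw [← Subgroup.relIndex, show E = P ⊓ stabilizer G c from rfl, relIndex_stabilizer,
        show orb P c = ({a, b} : Set Ω)ᶜ from ?_, Nat.card_coe_set_eq, Set.ncard_compl,
        Set.ncard_pair hab]
      ext y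
      constructor
      · rintro ⟨k, hk, rfl⟩ h
        obtain ⟨hk1, hk2⟩ := Subgroup.mem_inf.1 hk
        rcases h with h | h
        · exact hca (MulAction.injective k (h.trans (mem_stabilizer_iff.1 hk1).symm))
        · exact hcb (MulAction.injective k (h.trans (mem_stabilizer_iff.1 hk2).symm))
      · intro hy
        simp only [Set.mem_compl_iff, Set.mem_insert_iff, Set.mem_singleton_iff, not_or] at hy
        obtain ⟨k, hk1, hk2, hk3⟩ := C.exists_move hab hca hcb hy.1 hy.2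
        exact ⟨k, ⟨hk1, hk2⟩, hk3⟩
    rw [h1, ← h2]
    exact Subgroup.index_map_dvd _ hsurj
  have hnorm : f g ∈ Subgroup.normalizer (S : Set (G ⧸ H)) := by
    refine Subgroup.le_normalizer_map (H := E) f ⟨g, ?_, rfl⟩
    show g ∈ Subgroup.normalizer (E : Set G)
    rw [mem_normalizer_iff_cj]
    have hEset : ∀ x : G, x ∈ E ↔ ∀ y ∈ ({a, b, c} : Set Ω), x • y = y := by
      intro x; simp [hE, hP, and_assoc]
    refine cj_eq_self fun u hu => (hEset _).2 fun y hy => ?_
    have hy' : g⁻¹ • y ∈ ({a, b, c} : Set Ω) := by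
      rw [← hset] at hy
      rcases hy with rfl | rfl | rfl
      · rw [← ha, inv_smul_smul]; simp
      · rw [← hb, inv_smul_smul]; simp
      · rw [← hc, inv_smul_smul]; simp
    rw [mul_smul, mul_smul, (hEset u).1 hu _ hy', smul_inv_smul]
  have hpow : f g ^ p ∈ S := by
    rw [← map_pow]
    exact Subgroup.mem_map_of_mem f ⟨⟨hgp.1, hgp.2.1⟩, hgp.2.2⟩
  by_cases hmem : f g ∈ S
  · obtain ⟨e, he, hef⟩ := hmem
    obtain ⟨⟨he1, he2⟩, he3⟩ := he
    refine ⟨g * e⁻¹, ?_, ?_, ?_, ?_⟩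
    · rw [← QuotientGroup.eq_one_iff (N := H)]
      show f (g * e⁻¹) = 1
      rw [map_mul, map_inv, hef, mul_inv_cancel]
    · rw [mul_smul, inv_smul_eq_iff.2 (mem_stabilizer_iff.1 he1).symm, ha]
    · rw [mul_smul, inv_smul_eq_iff.2 (mem_stabilizer_iff.1 he2).symm, hb]
    · rw [mul_smul, inv_smul_eq_iff.2 (mem_stabilizer_iff.1 he3).symm, hc]
  · exact absurd ((dvd_index_of_pow_mem hnorm hpow hmem).trans hidx) hp

theorem rotate {a b c : Ω} (hab : a ≠ b) (hac : a ≠ c) (hbc : b ≠ c) :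
    ∃ h ∈ H, h • a = b ∧ h • b = c ∧ h • c = a := by
  haveI : Fact (Nat.Prime 3) := ⟨Nat.prime_three⟩
  obtain ⟨g, h1, h2, h3⟩ := C.exists3 hab hac hbc hbc hab.symm hac.symm
  refine C.lift_of_perm (p := 3) hab hac.symm hbc.symm ?_ h1 h2 h3 ?_ ?_
  · intro h
    have h4 := C.dvd3
    have h5 := C.lt
    omega
  · ext y; simp; tauto
  · simp only [pow_succ, pow_zero, one_mul, mul_smul]
    simp only [h1, h2, h3, and_self]

theorem sym_of_odd (hn : Odd (Nat.card Ω)) : Sym H Ω := by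
  haveI : Fact (Nat.Prime 2) := ⟨Nat.prime_two⟩
  intro a b c hab hac hbc
  obtain ⟨g, h1, h2, h3⟩ := C.exists3 hab hac hbc hab.symm hbc hac
  refine C.lift_of_perm (p := 2) hab hac.symm hbc.symm ?_ h1 h2 h3 ?_ ?_
  · intro h
    have h4 := C.lt
    have h5 := Nat.odd_iff.1 hn
    omega
  · ext y; simp; tauto
  · simp only [pow_succ, pow_zero, one_mul, mul_smul]
    simp only [h1, h2, h3, and_self]

theorem sym_of_one {a b c : Ω} (hab : a ≠ b) (hac : a ≠ c) (hbc : b ≠ c) {h : G} (hh : h ∈ H)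
    (h1 : h • a = b) (h2 : h • b = a) (h3 : h • c = c) : Sym H Ω := by
  haveI := C.normal
  intro a' b' c' hab' hac' hbc'
  obtain ⟨g, g1, g2, g3⟩ := C.exists3 hab hac hbc hab' hac' hbc'
  refine ⟨g * h * g⁻¹, Subgroup.Normal.conj_mem inferInstance h hh g, ?_, ?_, ?_⟩
  · rw [mul_smul, mul_smul, ← g1, inv_smul_smul, h1, g2]
  · rw [mul_smul, mul_smul, ← g2, inv_smul_smul, h2, g1]
  · rw [mul_smul, mul_smul, ← g3, inv_smul_smul, h3]

/-- Without symmetry the one-point stabilizers have odd order. -/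
theorem odd_S1_of_not_sym (hs : ¬ Sym H Ω) (a : Ω) : Odd (Nat.card (S1 H a)) := by
  by_contra hne
  haveI := C.faithful
  rw [Nat.not_odd_iff_even, even_iff_two_dvd] at hne
  haveI : Fact (Nat.Prime 2) := ⟨Nat.prime_two⟩
  obtain ⟨z, hz⟩ := exists_prime_orderOf_dvd_card' (G := S1 H a) 2 hne
  obtain ⟨hzH, hza⟩ := mem_S1.1 z.2
  have hz2 : (z : G) * z = 1 := by
    have := pow_orderOf_eq_one z
    rw [hz, pow_two] at this
    exact congrArg Subtype.val this
  obtain ⟨x, hx⟩ : ∃ x : Ω, (z : G) • x ≠ x := by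
    by_contra hall
    push Not at hall
    have h1 : (z : G) = 1 := FaithfulSMul.eq_of_smul_eq_smul (α := Ω) fun x => by rw [one_smul]; exact hall x
    rw [← Subgroup.orderOf_coe, h1, orderOf_one] at hz
    omega
  exact hs (C.sym_of_one hx.symm (fun e => hx (by rw [e, hza])) (fun e => hx (by
    rw [e]; exact (MulAction.injective (z : G) (e.trans hza.symm)).symm)) hzH rfl
    (by rw [← mul_smul, hz2, one_smul]) hza)

end Ctx

end Cfsg.Lib.Wagner
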