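import Cfsg.Agent.Lib.PGroup.CentralizerSq
import Cfsg.Agent.Lib.TwoGroup.MaximalClass
import Cfsg.Agent.Lib.GW.CycDih

/-!
# Two-groups with an involution of small centralizer
-/

set_option autoImplicit false
set_option linter.unusedSectionVars false
set_option linter.style.haveILetI false

namespace Cfsg.Lib.Wagner

open Subgroup

universe u

variable {T : Type u} [Group T] [Finite T]

/-- A 2-group of order at least 8 with an involution `u` whose centralizer has order at most 4 has a
cyclic subgroup of index 2 not containing `u`. -/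
theorem exists_cyclic_of_small (hT : IsPGroup 2 T) {u : T} (hu : orderOf u = 2)
    (hc : Nat.card (centralizer ({u} : Set T)) ≤ 4) (h8 : 8 ≤ Nat.card T) :
    ∃ C : Subgroup T, IsCyclic C ∧ C.index = 2 ∧ u ∉ C := by
  haveI : Fact (Nat.Prime 2) := ⟨Nat.prime_two⟩
  obtain ⟨n, hn⟩ := IsPGroup.iff_card.1 hT
  have hn3 : 3 ≤ n := by
    by_contra h
    have : 2 ^ n ≤ 2 ^ 2 := Nat.pow_le_pow_right two_pos (by omega)
    rw [← hn] at this
    omega
  have hidx := Cfsg.Lib.PGroup.CentralizerSq.index_commutator_of_centralizer (p := 2) hT (x := u)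
    (by simpa using hc) (by norm_num; omega)
  have hcl := Cfsg.Lib.TwoGroup.MaximalClass.class_of_index_four n hn3 T hn (by simpa using hidx)
  obtain ⟨C, hC, hC2⟩ := Cfsg.Lib.TwoGroup.MaximalClass.exists_cyclic_index_two n hn3 T hn hcl
  refine ⟨C, hC, hC2, fun huC => ?_⟩
  haveI : C.Normal := Subgroup.normal_of_index_eq_two hC2
  have hcent : centralizer ({u} : Set T) = ⊤ := by
    refine eq_top_iff.2 fun g _ => mem_centralizer_singleton_iff.2 ?_
    have hg : g * u * g⁻¹ ∈ C := Normal.conj_mem inferInstance u huC g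
    have := Cfsg.Lib.Invol.eq_of_pow_two_group_cyclic hC hg huC
      (by rw [Cfsg.Lib.Invol.orderOf_conj_eq, hu]) hu
    exact (mul_inv_eq_iff_eq_mul.1 this)
  rw [hcent, card_top] at hc
  omega

/-- A subgroup of index 2 avoiding such an involution is cyclic or dihedral, or has only one involution. -/
theorem cycDih_or_unique (hT : IsPGroup 2 T) {u : T} (hu : orderOf u = 2)
    (hc : Nat.card (centralizer ({u} : Set T)) ≤ 4) {S : Subgroup T} (hS : S.index = 2) (huS : u ∉ S) :
    Cfsg.Lib.GW.CycDih S ∨ ∃ w ∈ S, orderOf w = 2 ∧ ∀ x ∈ S, orderOf x = 2 → x = w := by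
  haveI : Fact (Nat.Prime 2) := ⟨Nat.prime_two⟩
  by_cases h8 : Nat.card T < 8
  · left
    have h1 : Nat.card T = 2 * Nat.card S := by
      rw [← S.card_mul_index, hS, mul_comm]
    obtain ⟨j, hj⟩ := IsPGroup.iff_card.1 (hT.to_subgroup S)
    have hj1 : j ≤ 1 := by
      by_contra h
      have : 2 ^ 2 ≤ 2 ^ j := Nat.pow_le_pow_right two_pos (by omega)
      rw [← hj] at this
      omega
    haveI : IsCyclic S := by
      rcases (show j = 0 ∨ j = 1 by omega) with rfl | rfl
      · haveI : Subsingleton S := (Nat.card_eq_one_iff_unique.1 (by simpa using hj)).1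
        infer_instance
      · exact isCyclic_of_prime_card (p := 2) (by simpa using hj)
    exact Cfsg.Lib.GW.CycDih.of_isCyclic
  obtain ⟨C, hC, hC2, huC⟩ := exists_cyclic_of_small hT hu hc (by omega)
  by_cases hCS : C ≤ S
  · left
    have heq : C = S := Subgroup.eq_of_le_of_card_ge hCS (by
      have h1 := S.card_mul_index
      have h2 := C.card_mul_index
      rw [hS] at h1
      rw [hC2] at h2
      omega)
    haveI : IsCyclic S := heq ▸ hC
    exact Cfsg.Lib.GW.CycDih.of_isCyclic
  haveI : C.Normal := Subgroup.normal_of_index_eq_two hC2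
  obtain ⟨⟨g, hgC⟩, hgen⟩ := IsCyclic.exists_generator (α := C)
  have hgS : g ∉ S := by
    intro hgS
    refine hCS fun c hc => ?_
    obtain ⟨k, hk⟩ := hgen ⟨c, hc⟩
    have : g ^ k = c := congrArg Subtype.val hk
    exact this ▸ zpow_mem hgS k
  have huu : u * u = 1 := Cfsg.Lib.Invol.inv_mul_self hu
  have hcomm : ∀ a ∈ C, ∀ b ∈ C, a * b = b * a := fun a ha b hb => by
    letI := hC.commGroup
    exact congrArg Subtype.val (mul_comm (⟨a, ha⟩ : C) ⟨b, hb⟩)
  have hconjC : ∀ c ∈ C, u * c * u ∈ C := fun c hc => by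
    have := Subgroup.Normal.conj_mem (inferInstance : C.Normal) c hc u
    rwa [Cfsg.Lib.Invol.inv_eq_self hu] at this
  -- elements of `C` commuting with `u` square to one
  have hfix : ∀ c ∈ C, u * c * u = c → c * c = 1 := by
    intro c hc' hcu
    by_contra hne
    have hmem : ∀ x ∈ ({1, c, c * c, u, c * u} : Set T), x ∈ centralizer ({u} : Set T) := by
      have hcu' : c * u = u * c := by
        calc c * u = u * c * u * u := by rw [hcu]
          _ = u * c := by rw [mul_assoc, huu, mul_one]
      have hmc : c ∈ centralizer ({u} : Set T) := mem_centralizer_singleton_iff.2 hcu'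
      have hmu : u ∈ centralizer ({u} : Set T) := mem_centralizer_singleton_iff.2 rfl
      rintro x (rfl | rfl | rfl | rfl | rfl)
      exacts [one_mem _, hmc, mul_mem hmc hmc, hmu, mul_mem hmc hmu]
    have hc1 : c ≠ 1 := fun h => hne (by rw [h, mul_one])
    have hcc : c ≠ c * c := fun h => hc1 (mul_eq_left.1 h.symm)
    have hout : ∀ y ∈ C, y ≠ u := fun y hy h => huC (h ▸ hy)
    have houtc : ∀ y ∈ C, y ≠ c * u := fun y hy h =>
      huC (by
        have := mul_mem (inv_mem hc') hy
        rwa [h, inv_mul_cancel_left] at this)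
    have h5 : ({1, c, c * c, u, c * u} : Set T).ncard = 5 := by
      rw [Set.ncard_insert_of_notMem, Set.ncard_insert_of_notMem, Set.ncard_insert_of_notMem,
        Set.ncard_pair]
      · intro h; exact hc1 (mul_eq_right.1 h.symm)
      · simp [hout _ (mul_mem hc' hc'), houtc _ (mul_mem hc' hc')]
      · simp [hcc, hout _ hc', houtc _ hc']
      · simp [hc1.symm, Ne.symm hne, hout _ (one_mem C), houtc _ (one_mem C)]
    have := Set.ncard_le_ncard (show ({1, c, c * c, u, c * u} : Set T) ⊆ (centralizer ({u} : Set T) : Set T)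
      from hmem)
    rw [h5, ← Nat.card_coe_set_eq] at this
    exact absurd (this.trans hc) (by norm_num)
  set ε := g * (u * g * u) with hε
  have hεC : ε ∈ C := mul_mem hgC (hconjC g hgC)
  have hεu : u * ε * u = ε := by
    calc u * ε * u = (u * g * u) * (u * u * g * u * u) := by
          simp only [hε, mul_assoc, huu]
          simp [← mul_assoc, huu]
      _ = (u * g * u) * g := by rw [huu, one_mul, mul_assoc g, huu, mul_one]
      _ = ε := hcomm _ (hconjC g hgC) _ hgC
  have hε2 : ε * ε = 1 := hfix ε hεC hεu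
  have hpow : ∀ k : ℤ, g ^ k * (u * g ^ k * u) = ε ^ k := by
    intro k
    have h1 : u * g ^ k * u = (u * g * u) ^ k := by
      have := (conj_zpow (a := u) (b := g) (i := k)).symm
      rwa [Cfsg.Lib.Invol.inv_eq_self hu] at this
    rw [h1, hε, (show Commute g (u * g * u) from hcomm _ hgC _ (hconjC g hgC)).mul_zpow]
  -- the elements of `S` outside `C`
  have hsq : ∀ x ∈ S, x ∉ C → x * x = ε := by
    intro x hx hxC
    have hxu : x * u ∈ C := by
      rw [Subgroup.mul_mem_iff_of_index_two hC2]
      exact iff_of_false hxC huC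
    obtain ⟨k, hk⟩ := hgen ⟨x * u, hxu⟩
    have hk' : g ^ k = x * u := congrArg Subtype.val hk
    have hx' : x = g ^ k * u := by rw [hk', mul_assoc, huu, mul_one]
    rcases Int.even_or_odd k with ⟨j, rfl⟩ | ⟨j, rfl⟩
    · exfalso
      refine huS ?_
      have h1 : g ^ (j + j) ∈ S := by
        rw [zpow_add]; exact Subgroup.mul_self_mem_of_index_two hS _
      have := mul_mem (inv_mem h1) hx
      rwa [hx', inv_mul_cancel_left] at this
    · have h1 : ε ^ (2 * j + 1) = ε := by
        rw [zpow_add, zpow_mul, zpow_two, hε2, one_zpow, one_mul, zpow_one]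
      rw [hx', ← h1, ← hpow]
      group
  by_cases hε1 : ε = 1
  · left
    refine ⟨(C ⊓ S).subgroupOf S, ?_, ?_, fun x hx => ?_⟩
    · haveI := hC
      haveI : IsCyclic ↥(C ⊓ S : Subgroup T) :=
        isCyclic_of_injective (inclusion inf_le_left) (inclusion_injective _)
      exact (subgroupOfEquivOfLe inf_le_right).isCyclic.2 inferInstance
    · rw [← relIndex, inf_relIndex_right]
      have h1 : C.relIndex S ∣ 2 := hC2 ▸ relIndex_dvd_index_of_normal C S
      exact Nat.le_of_dvd two_pos h1
    · refine Subtype.ext ?_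
      show (x : T) * x = 1
      rw [hsq x x.2 fun h => hx (mem_subgroupOf.2 ⟨h, x.2⟩), hε1]
  · right
    refine ⟨ε, ?_, Cfsg.Lib.Invol.orderOf_eq_two_of hε1 hε2, fun x hx hx2 => ?_⟩
    · obtain ⟨x, hxS, hxC⟩ : ∃ x ∈ S, x ∉ C := by
        by_contra hall
        push Not at hall
        have heq : S = C := Subgroup.eq_of_le_of_card_ge hall (by
          have h1 := S.card_mul_index
          have h2 := C.card_mul_index
          rw [hS] at h1
          rw [hC2] at h2
          omega)
        exact hCS heq.ge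
      rw [← hsq x hxS hxC]
      exact mul_mem hxS hxS
    · by_cases hxC : x ∈ C
      · exact Cfsg.Lib.Invol.eq_of_pow_two_group_cyclic hC hxC hεC hx2
          (Cfsg.Lib.Invol.orderOf_eq_two_of hε1 hε2)
      · exact absurd (by rw [← hsq x hx hxC]; exact Cfsg.Lib.Invol.inv_mul_self hx2) hε1

end Cfsg.Lib.Wagner
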