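import Cfsg.Agent.Lib.Wagner.Regular
import Cfsg.Agent.Lib.Wagner.SmallCent
import Cfsg.Agent.Lib.GW.Shape
import Cfsg.Agent.Lib.GW.Main
import Cfsg.Agent.Lib.ZStar.Main
import Cfsg.Agent.Lib.Dickson.CentralizerCard
import Cfsg.Agent.S0205

/-!
# An involution with two fixed points normalising `H` with point stabilizers of odd order

Then the Sylow 2-subgroups of `H` are cyclic or dihedral and the theorem of Gorenstein and Walter
identifies a normal subgroup `PSL₂(|Ω| - 1)`.
-/

set_option autoImplicit false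
set_option linter.unusedSectionVars false
set_option linter.style.haveILetI false
set_option maxHeartbeats 400000

namespace Cfsg.Lib.Wagner

open MulAction Cfsg.Lib.Plane

universe u v

variable {G : Type u} [Group G] {Ω : Type v} [MulAction G Ω]

/-- The conclusion of the second part. -/
def HasPSL (H : Subgroup G) (Ω : Type v) : Prop :=
  ∃ (N : Subgroup ↥H) (F : Type) (_ : Field F) (_ : Fintype F), N.Normal ∧
    Fintype.card F + 1 = Nat.card Ω ∧ Nonempty (↥N ≃* Matrix.ProjectiveSpecialLinearGroup (Fin 2) F)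

theorem isSyl_inf [Finite G] {p : ℕ} [Fact p.Prime] {T K N : Subgroup G} [N.Normal] (hT : IsSyl p T K)
    (hNK : N ≤ K) : IsSyl p (T ⊓ N) N := by
  obtain ⟨R, hR⟩ := exists_isSyl p N
  obtain ⟨k, -, hle⟩ := exists_cj_le hT hR.isPGroup (hR.le.trans hNK)
  have hle' : cj k R ≤ T ⊓ N := le_inf hle fun x hx => (mem_cj_normal (g := k)).1 (cj_mono hR.le hx)
  refine isSyl_of_card hR (hT.isPGroup.to_le inf_le_left) inf_le_right (le_antisymm ?_ ?_)
  · exact hR.card_le (hT.isPGroup.to_le inf_le_left) inf_le_right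
  · rw [← card_cj k R]
    exact Subgroup.card_le_of_le hle'

variable [Finite G] {H : Subgroup G} (C : Ctx H Ω)
include C

namespace Ctx

theorem of_normal {N : Subgroup G} (hN : N.Normal) (hne : N ≠ ⊥) : Ctx N Ω :=
  ⟨C.faithful, C.three, C.dvd3, C.lt, hN, hne⟩

theorem normal_comm_eq_bot {N : Subgroup G} (hN : N.Normal) (hc : ∀ x ∈ N, ∀ y ∈ N, x * y = y * x) :
    N = ⊥ := by
  by_contra hne
  haveI := C.faithful
  have CN := C.of_normal hN hne
  obtain ⟨a⟩ := C.nonempty
  refine CN.S1_ne_bot a ((Subgroup.eq_bot_iff_forall _).2 fun x hx => ?_)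
  refine FaithfulSMul.eq_of_smul_eq_smul (α := Ω) fun y => ?_
  obtain ⟨k, hk, rfl⟩ := CN.h_transitive a y
  rw [one_smul, ← mul_smul, hc x (mem_S1.1 hx).1 k hk, mul_smul, (mem_S1.1 hx).2]

theorem normal_odd_eq_bot (heven : Even (Nat.card Ω)) {N : Subgroup G} (hN : N.Normal)
    (hodd : Odd (Nat.card N)) : N = ⊥ := by
  by_contra hne
  obtain ⟨a⟩ := C.nonempty
  rw [(C.of_normal hN hne).card_eq_one_mul a] at hodd
  exact Nat.not_odd_iff_even.2 heven (Nat.Odd.of_mul_left hodd)

theorem endgame {a b : Ω} (hab : a ≠ b) (hodd : Odd (Nat.card (S1 H a))) (heven : Even (Nat.card Ω))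
    {u : G} (hu : orderOf u = 2) (hua : u • a = a) (hub : u • b = b)
    (hufix : ∀ x : Ω, u • x = x → x = a ∨ x = b) : HasPSL H Ω ∧ Two H Ω := by
  classical
  haveI := C.normal
  haveI := C.faithful
  haveI := C.finite
  haveI : Fact (Nat.Prime 2) := ⟨Nat.prime_two⟩
  have hn6 : 6 ≤ Nat.card Ω := by
    have := C.lt
    have := C.dvd3
    obtain ⟨j, hj⟩ := heven
    omega
  have huu : u * u = 1 := Cfsg.Lib.Invol.inv_mul_self hu
  have huH : u ∉ H := fun h => by
    have h1 := hodd.of_dvd_nat (Subgroup.orderOf_dvd_natCard _ (mem_S1.2 ⟨h, hua⟩ : u ∈ S1 H a))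
    rw [hu] at h1
    exact Nat.not_odd_iff_even.2 even_two h1
  -- the two-element extension
  set G₁ := H ⊔ Subgroup.zpowers u with hG₁
  have hG1 : ∀ x ∈ G₁, x ∈ H ∨ x * u ∈ H := by
    intro x hx
    obtain ⟨h, hh, z, hz, rfl⟩ := Subgroup.mem_sup_of_normal_left.1 hx
    obtain ⟨i, rfl⟩ := (mem_powers_iff_mem_zpowers.2 hz : z ∈ Submonoid.powers u)
    show h * u ^ i ∈ H ∨ h * u ^ i * u ∈ H
    rcases Nat.even_or_odd i with ⟨j, rfl⟩ | ⟨j, rfl⟩
    · exact Or.inl (by rw [← two_mul, pow_mul, pow_two, huu, one_pow, mul_one]; exact hh)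
    · exact Or.inr (by rw [pow_succ, pow_mul, pow_two, huu, one_pow, one_mul, mul_assoc, huu, mul_one]; exact hh)
  have hup : IsPGroup 2 (Subgroup.zpowers u) := IsPGroup.of_card (n := 1) (by rw [Nat.card_zpowers, hu, pow_one])
  obtain ⟨T, hT, huT⟩ := exists_isSyl_ge 2 hup (show Subgroup.zpowers u ≤ G₁ from le_sup_right)
  have huT' : u ∈ T := huT (Subgroup.mem_zpowers u)
  have hS := isSyl_inf hT (show H ≤ G₁ from le_sup_left)
  set S : Subgroup G := T ⊓ H with hSdef
  -- the centralizer of `u` in `T`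
  have hstab : ∀ x ∈ T, x • a = a → x = 1 ∨ x = u := by
    intro x hx hxa
    have key : ∀ y ∈ T, y ∈ H → y • a = a → y = 1 := by
      intro y hy hyH hya
      have h1 : Odd (orderOf y) :=
        hodd.of_dvd_nat (Subgroup.orderOf_dvd_natCard _ (mem_S1.2 ⟨hyH, hya⟩ : y ∈ S1 H a))
      obtain ⟨k, hk⟩ := hT.isPGroup ⟨y, hy⟩
      have hk' : y ^ 2 ^ k = 1 := congrArg Subtype.val hk
      obtain ⟨j, -, hj⟩ := (Nat.dvd_prime_pow Nat.prime_two).1 (orderOf_dvd_of_pow_eq_one hk')
      rw [hj] at h1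
      rcases Nat.eq_zero_or_pos j with rfl | hj'
      · exact orderOf_eq_one_iff.1 (by rw [hj, pow_zero])
      · exact absurd h1 (Nat.not_odd_iff_even.2 (Nat.even_pow.2 ⟨even_two, hj'.ne'⟩))
    rcases hG1 x (hT.le hx) with h | h
    · exact Or.inl (key x hx h hxa)
    · refine Or.inr ?_
      have h1 := key (x * u) (mul_mem hx huT') h (by rw [mul_smul, hua, hxa])
      calc x = x * u * u := by rw [mul_assoc, huu, mul_one]
        _ = u := by rw [h1, one_mul]
  set Cc : Subgroup G := T ⊓ Subgroup.centralizer ({u} : Set G) with hCc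
  have hCc4 : Nat.card Cc ≤ 4 := by
    rw [← card_orb_mul Cc a]
    refine (Nat.mul_le_mul (?_ : _ ≤ 2) (?_ : _ ≤ 2)).trans (by norm_num)
    · rw [Nat.card_coe_set_eq, ← Set.ncard_pair hab]
      refine Set.ncard_le_ncard (fun y hy => ?_) (Set.toFinite _)
      obtain ⟨k, hk, rfl⟩ := hy
      refine hufix _ ?_
      have hc : k * u = u * k := Subgroup.mem_centralizer_singleton_iff.1 hk.2
      rw [← mul_smul, ← hc, mul_smul, hua]
    · refine le_trans ?_ (Set.ncard_pair (show (1 : G) ≠ u from fun h => huH (h ▸ one_mem H))).le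
      rw [← SetLike.coe_sort_coe, Nat.card_coe_set_eq]
      refine Set.ncard_le_ncard (fun x hx => ?_) (Set.toFinite _)
      exact hstab x hx.1.1 hx.2
  set u' : T := ⟨u, huT'⟩ with hu'def
  have hu' : orderOf u' = 2 := by rw [← Subgroup.orderOf_coe]; exact hu
  have hcT : Nat.card (Subgroup.centralizer ({u'} : Set T)) ≤ 4 := by
    refine le_trans (Nat.card_le_card_of_injective (fun x : Subgroup.centralizer ({u'} : Set T) =>
      (⟨((x : T) : G), (x : T).2, Subgroup.mem_centralizer_singleton_iff.2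
        (congrArg Subtype.val (Subgroup.mem_centralizer_singleton_iff.1 x.2))⟩ : Cc)) ?_) hCc4
    intro x y hxy
    exact Subtype.ext (Subtype.ext (congrArg (fun z : Cc => (z : G)) hxy))
  have hST : (H.subgroupOf T).index = 2 := by
    rw [Subgroup.index_eq_two_iff]
    refine ⟨u', fun x => ?_⟩
    rcases hG1 (x : G) (hT.le x.2) with h | h
    · refine Or.inr ⟨h, fun h' => huH ?_⟩
      have := mul_mem (inv_mem h) (show (x : G) * u ∈ H from h')
      rwa [inv_mul_cancel_left] at this
    · refine Or.inl ⟨h, fun h' => huH ?_⟩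
      have := mul_mem (inv_mem (show (x : G) ∈ H from h')) h
      rwa [inv_mul_cancel_left] at this
  set SH : Sylow 2 H := IsPGroup.toSylow
    (hS.isPGroup.of_equiv (Subgroup.subgroupOfEquivOfLe hS.le).symm) hS.not_dvd with hSH
  have hSHc : (SH : Subgroup H) = S.subgroupOf H := IsPGroup.toSylow_coe _ _
  have hoddcore : Cfsg.oddCore H = ⊥ := by
    haveI : (Cfsg.oddCore H).Characteristic := Cfsg.Lib.Core.pPrimeCore_characteristic
    have h1 : Odd (Nat.card ((Cfsg.oddCore H).map H.subtype)) := by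
      rw [Subgroup.card_map_of_injective H.subtype_injective]
      exact Cfsg.Lib.ZStar.odd_card_oddCore
    exact (Subgroup.map_eq_bot_iff_of_injective _ H.subtype_injective).1
      (C.normal_odd_eq_bot heven inferInstance h1)
  have hcd : Cfsg.Lib.GW.CycDih (SH : Subgroup H) := by
    rcases cycDih_or_unique (hT.isPGroup) hu' hcT hST (fun h => huH h) with h | ⟨w, hw, hw2, hwu⟩
    · let f : (SH : Subgroup H) →* ↥(H.subgroupOf T) :=
        { toFun := fun x => ⟨⟨((x : H) : G), (Subgroup.mem_subgroupOf.1 (show (x : H) ∈ S.subgroupOf H from hSHc ▸ x.2)).1⟩, (x : H).2⟩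
          map_one' := rfl
          map_mul' := fun _ _ => rfl }
      refine Cfsg.Lib.GW.CycDih.of_injective f (fun x y hxy => ?_) h
      exact Subtype.ext (Subtype.ext (congrArg (fun z : ↥(H.subgroupOf T) => ((z : T) : G)) hxy))
    · exfalso
      set z : H := ⟨((w : T) : G), hw⟩ with hzdef
      have hz2 : orderOf z = 2 := by
        rw [← Subgroup.orderOf_coe, show ((z : H) : G) = ((w : T) : G) from rfl, Subgroup.orderOf_coe, hw2]
      have hiso := Cfsg.Lib.ZStar.isolated_of_unique_involution SH hz2 (fun x hx hx2 => ?_)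
      · have hzc := Cfsg.Lib.ZStar.mem_center_of_isolated hoddcore hiso
        have hbot : (Subgroup.center H).map H.subtype = ⊥ := by
          refine C.normal_comm_eq_bot inferInstance ?_
          rintro _ ⟨x, hx, rfl⟩ _ ⟨y, -, rfl⟩
          exact congrArg Subtype.val (Subgroup.mem_center_iff.1 hx y).symm
        rw [Subgroup.map_eq_bot_iff_of_injective _ H.subtype_injective] at hbot
        rw [hbot, Subgroup.mem_bot] at hzc
        rw [hzc, orderOf_one] at hz2
        omega
      · rw [hSHc, Subgroup.mem_subgroupOf] at hx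
        have := hwu ⟨(x : G), hx.1⟩ x.2 (by
          rw [← Subgroup.orderOf_coe]; show orderOf (x : G) = 2; rw [Subgroup.orderOf_coe, hx2])
        exact Subtype.ext (congrArg (fun t : T => (t : G)) this)
  have hD := Cfsg.Lib.GW.TwoCycDih.of_sylow SH hcd
  have hHcard : Nat.card H = Nat.card Ω * ((Nat.card Ω - 1) * Nat.card (S2 H a b)) := by
    rw [C.card_eq_one_mul a, C.card_S1_eq hab]
  rcases Cfsg.Lib.GW.shape hD (Cfsg.Lib.GW.gwSections_of_simpleGW Cfsg.Lib.GW.simpleGW hD) hoddcore with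
    h2g | ⟨V, -, -, -, hV⟩ | ⟨E, hEn, hEs, hEna, hgw, -, -, hEmin, -⟩
  · exfalso
    obtain ⟨k, hk⟩ := IsPGroup.iff_card.1 h2g
    have h3 : 3 ∣ 2 ^ k := hk ▸ (C.dvd3.trans (hHcard ▸ dvd_mul_right _ _))
    exact absurd (Nat.prime_three.dvd_of_dvd_pow h3) (by norm_num)
  · exfalso
    have h1 : 6 * (5 * 1) ≤ Nat.card H := by
      rw [hHcard]
      exact Nat.mul_le_mul hn6 (Nat.mul_le_mul (by omega) Nat.card_pos)
    omega
  haveI := hEn
  haveI := hEs
  haveI : E.Characteristic := by
    refine Subgroup.characteristic_iff_map_eq.2 fun φ => ?_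
    have hne : E ≠ ⊥ := fun h => hEna (by subst h; exact ⟨⟨fun x y => Subsingleton.elim _ _⟩⟩)
    have h1 : E ≤ E.map φ.toMonoidHom := hEmin _ (hEn.map _ φ.surjective) (fun h =>
      hne ((Subgroup.map_eq_bot_iff_of_injective E φ.injective).1 h))
    exact (Subgroup.eq_of_le_of_card_ge h1 (Subgroup.card_map_of_injective φ.injective).le).symm
  set E' : Subgroup G := E.map H.subtype with hE'
  haveI hE'n : E'.Normal := inferInstance
  have hE'H : E' ≤ H := Subgroup.map_subtype_le _
  have hE'ne : E' ≠ ⊥ := fun h => hEna (by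
    rw [hE', Subgroup.map_eq_bot_iff_of_injective _ H.subtype_injective] at h
    subst h
    exact ⟨⟨fun x y => Subsingleton.elim _ _⟩⟩)
  have CE := C.of_normal hE'n hE'ne
  have hle1 : S1 E' a ≤ S1 H a := inf_le_inf_right _ hE'H
  have hodd' : Odd (Nat.card (S1 E' a)) := hodd.of_dvd_nat (Subgroup.card_dvd_of_le hle1)
  haveI := Cfsg.Agent.S0205.result (G := S1 E' a) hodd'
  obtain ⟨A, r, hAle, hA⟩ := C.exists_regular (a := a) (N := S1 E' a) (fun x hx => (mem_S1.1 hx).2)
    (fun g hg => by rw [cj_S1, hg]) (CE.S1_ne_bot a)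
  haveI : Fact r.Prime := ⟨hA.prime⟩
  obtain ⟨j, hj⟩ := IsPGroup.iff_card.1 hA.isPGroup
  have hAv : Nat.card A = Nat.card Ω - 1 := hA.card_eq hab.symm
  set n := Nat.card Ω with hn
  set e := Nat.card (S1 E' a) with he
  have hAe : n - 1 ∣ e := hAv ▸ Subgroup.card_dvd_of_le hAle
  have hEe : Nat.card E' = n * e := CE.card_eq_one_mul a
  have hcardE : Nat.card E = Nat.card E' := (Subgroup.card_map_of_injective H.subtype_injective).symm
  rcases hgw with ⟨F, _, _, hFodd, hF3, ⟨iso⟩⟩ | ⟨⟨iso⟩⟩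
  swap
  · exfalso
    have h7 : n * e = 2520 := by
      rw [← hEe, ← hcardE, Nat.card_congr iso.toEquiv, nat_card_alternatingGroup, Nat.card_fin]
      rfl
    have hne : n ≤ 51 := by
      have h8 : n * (n - 1) ≤ 2520 := h7 ▸ Nat.mul_le_mul_left n (Nat.le_of_dvd hodd'.pos hAe)
      by_contra h
      have : 52 * 51 ≤ n * (n - 1) := Nat.mul_le_mul (by omega) (by omega)
      omega
    obtain ⟨i, hi⟩ := hodd'
    obtain ⟨k, hk⟩ := hAe
    rw [hk] at h7 hi
    have h3n : 3 ∣ n := C.dvd3
    obtain ⟨i2, hi2⟩ := heven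
    interval_cases n <;> omega
  set q := Fintype.card F with hq
  obtain ⟨p, hpC⟩ := CharP.exists F
  haveI := hpC
  haveI hp : Fact p.Prime := ⟨(CharP.char_is_prime_or_zero F p).resolve_right (CharP.char_ne_zero_of_finite F p)⟩
  obtain ⟨k, -, hk⟩ := FiniteField.card F p
  have hgcd : Nat.gcd 2 (q - 1) = 2 := Nat.gcd_eq_left (by obtain ⟨i, hi⟩ := hFodd; omega)
  have hord : 2 * (n * e) = q * (q ^ 2 - 1) := by
    rw [← hEe, ← hcardE, Nat.card_congr iso.toEquiv]
    have := Cfsg.Lib.Linear.Two.card_PSL_two (F := F)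
    rwa [← hq, hgcd] at this
  set ι : ↥E' →* Matrix.ProjectiveSpecialLinearGroup (Fin 2) F :=
    iso.toMonoidHom.comp (E.equivMapOfInjective H.subtype H.subtype_injective).symm.toMonoidHom with hι
  have hιi : Function.Injective ι := iso.injective.comp (MulEquiv.injective _)
  set Hs := ((S1 E' a).subgroupOf E').map ι with hHs
  have hHscard : Nat.card Hs = e := by
    rw [hHs, Subgroup.card_map_of_injective hιi,
      Nat.card_congr (Subgroup.subgroupOfEquivOfLe (show S1 E' a ≤ E' from inf_le_left)).toEquiv]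
  -- the point stabilizer is a Borel subgroup
  have hborel : n = q + 1 ∧ 2 * e = q * (q - 1) ∧ r = p := by
    obtain ⟨m, hm⟩ : ∃ m, q = 2 * m + 1 := hFodd
    have hm2 : 2 ≤ m := by omega
    have hsq : q ^ 2 - 1 = (q + 1) * (q - 1) := by rw [← Nat.sq_sub_sq, one_pow]
    rcases Cfsg.Lib.Dickson.card_subgroup_cases (F := F) p Hs with
      ⟨c, hc, hce⟩ | hdiv | hc | ⟨s, l, hs3, -, hc⟩
    · exfalso
      rw [hHscard] at hce
      rcases hce with hce | hce
      swap
      · rw [hce] at hodd'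
        exact Nat.not_odd_iff_even.2 (even_two_mul c) hodd'
      have hce2 : 2 * e ≤ q + 1 := by
        rw [← hq, hgcd] at hc
        rcases hc with hc | hc
        · have := Nat.le_of_dvd (by omega) hc
          omega
        · have := Nat.le_of_dvd (by omega) hc
          omega
      have h1 : n - 1 ≤ e := Nat.le_of_dvd hodd'.pos hAe
      have h2 : 2 * (n * e) ≤ (m + 2) * (2 * m + 2) := by
        calc 2 * (n * e) = n * (2 * e) := by ring
          _ ≤ (m + 2) * (2 * m + 2) := Nat.mul_le_mul (by omega) (by omega)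
      rw [hord, hsq, hm] at h2
      simp only [Nat.add_sub_cancel] at h2
      have h3 : (2 * m + 1) * (2 * m) * (2 * m + 2) ≤ (m + 2) * (2 * m + 2) := by
        refine le_trans (le_of_eq ?_) h2
        ring
      have h4 := Nat.le_of_mul_le_mul_right h3 (by omega)
      nlinarith
    · rw [hHscard, ← hq, hgcd] at hdiv
      obtain ⟨t, ht⟩ := hdiv
      have hn_eq : n = t * (q + 1) := by
        have he0 : 0 < 2 * e := by have := hodd'.pos; omega
        refine Nat.eq_of_mul_eq_mul_left he0 ?_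
        calc 2 * e * n = 2 * (n * e) := by ring
          _ = (q + 1) * (q * (q - 1)) := by rw [hord, hsq]; ring
          _ = 2 * e * (t * (q + 1)) := by rw [ht]; ring
      have ht0 : 1 ≤ t := Nat.pos_of_ne_zero (fun h => by rw [h, zero_mul] at hn_eq; omega)
      have hnq : q ≤ n - 1 := by
        have : 1 * (q + 1) ≤ t * (q + 1) := Nat.mul_le_mul_right _ ht0
        omega
      have hdvd : r ^ j ∣ q * (q - 1) := by
        rw [← hj, hAv, ht]
        exact (hAe.trans (dvd_mul_left e 2)).trans (dvd_mul_right _ t)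
      have hrj : r ^ j = n - 1 := by rw [← hj, hAv]
      have hrp : r = p := by
        by_contra hne
        have hcop : Nat.Coprime (r ^ j) q := by
          rw [hq, hk]
          exact Nat.Coprime.pow j _ ((Nat.coprime_primes hA.prime hp.out).2 hne)
        have h1 := Nat.le_of_dvd (by omega) (hcop.dvd_of_dvd_mul_left hdvd)
        omega
      have hcop : Nat.Coprime (r ^ j) (q - 1) := by
        refine Nat.Coprime.pow_left j (hA.prime.coprime_iff_not_dvd.2 fun h => ?_)
        have h1 : r ∣ q := by rw [hrp, hq, hk]; exact dvd_pow_self p k.pos.ne'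
        have h2 := Nat.dvd_sub h1 h
        rw [show q - (q - 1) = 1 by omega] at h2
        exact hA.prime.ne_one (Nat.dvd_one.1 h2)
      have h2 := Nat.le_of_dvd (by omega) (hcop.dvd_of_dvd_mul_right hdvd)
      have ht1 : t = 1 := by
        by_contra ht'
        have : 2 * (q + 1) ≤ t * (q + 1) := Nat.mul_le_mul_right _ (by omega)
        omega
      rw [ht1, one_mul] at hn_eq
      rw [ht1, mul_one] at ht
      exact ⟨hn_eq, ht.symm, hrp⟩
    · exfalso
      obtain ⟨i, hi⟩ := hodd'
      omega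
    · exfalso
      rw [hHscard] at hc
      refine Nat.not_even_iff_odd.2 hodd' ?_
      rcases hc with ⟨hs, hc⟩ | hc
      · obtain ⟨i, rfl⟩ : ∃ i, s = 2 * i + 1 := ⟨s / 2, by omega⟩
        have h4 : (2 * i + 1) ^ 2 - 1 = 4 * (i * (i + 1)) := by
          rw [show (2 * i + 1) ^ 2 = 4 * (i * (i + 1)) + 1 by ring, Nat.add_sub_cancel]
        rw [h4] at hc
        exact ⟨(2 * i + 1) * (i * (i + 1)), by linarith⟩
      · rw [hc]
        rcases Nat.even_or_odd s with hs | ⟨i, rfl⟩
        · exact hs.mul_right _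
        · refine Even.mul_left ?_ _
          rw [show (2 * i + 1) ^ 2 = 4 * (i * (i + 1)) + 1 by ring, Nat.add_sub_cancel]
          exact ⟨2 * (i * (i + 1)), by ring⟩
  obtain ⟨hnq, heq, hrp⟩ := hborel
  subst hrp
  refine ⟨⟨E, F, inferInstance, inferInstance, hEn, by rw [← hq]; omega, ⟨iso⟩⟩, ?_⟩
  obtain ⟨c, hca, hcb⟩ := C.exists_third a b
  -- semiregularity
  have hAE : A ≤ E' := hAle.trans inf_le_left
  have hfree : S2 E' a b ⊓ stabilizer G c = ⊥ := by
    rw [Subgroup.eq_bot_iff_forall]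
    intro g hg
    obtain ⟨hg2, hgc⟩ := Subgroup.mem_inf.1 hg
    obtain ⟨hgE, hga, hgb⟩ := mem_S2.1 hg2
    obtain ⟨x, hx, hxc⟩ := hA.trans b c hab.symm hca
    have hcomm := hA.commute_of_fix hab.symm hga hgb (mem_stabilizer_iff.1 hgc) hx hxc
    set Aim := (A.subgroupOf E').map ι with hAim
    have hAimc : Nat.card Aim = q := by
      rw [hAim, Subgroup.card_map_of_injective hιi, Nat.card_congr (Subgroup.subgroupOfEquivOfLe hAE).toEquiv,
        hAv, hnq, Nat.add_sub_cancel]
    obtain ⟨P, hP⟩ := ((hA.isPGroup.of_equiv (Subgroup.subgroupOfEquivOfLe hAE).symm).map ι).exists_le_sylow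
    have hPeq : Aim = (P : Subgroup _) := Subgroup.eq_of_le_of_card_ge hP
      (by rw [Cfsg.Lib.Dickson.card_sylow_psl, hAimc])
    have hxne : ι ⟨x, hAE hx⟩ ≠ 1 := by
      intro h
      have h' : x = 1 := congrArg Subtype.val (hιi (h.trans (map_one ι).symm))
      exact hcb (by rw [← hxc, h', one_smul])
    have hgP : ι ⟨g, hgE⟩ ∈ Aim := by
      rw [hPeq, ← Cfsg.Lib.Dickson.centralizer_eq_sylow r P
        (hPeq ▸ Subgroup.mem_map_of_mem ι (show (⟨x, hAE hx⟩ : E') ∈ A.subgroupOf E' from hx)) hxne]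
      refine Subgroup.mem_centralizer_singleton_iff.2 ?_
      rw [← map_mul, ← map_mul]
      exact congrArg ι (Subtype.ext hcomm)
    obtain ⟨y, hy, hyg⟩ := hgP
    have hgA : g ∈ A := by
      have he' : (y : G) = g := congrArg Subtype.val (hιi hyg)
      exact he' ▸ (show (y : G) ∈ A from hy)
    exact hA.free g hgA b hab.symm hgb
  have h1 := card_orb_mul (S2 E' a b) c
  rw [hfree, Subgroup.card_bot, mul_one] at h1
  refine C.two_of_large hab hca hcb ?_
  have h2 : Nat.card ↥(orb (S2 E' a b) c) ≤ Nat.card ↥(orb (S2 H a b) c) := by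
    rw [Nat.card_coe_set_eq, Nat.card_coe_set_eq]
    exact Set.ncard_le_ncard (orb_mono (inf_le_inf_right _ (inf_le_inf_right _ hE'H)) c)
  have h3 : q * (2 * Nat.card (S2 E' a b)) = q * (q - 1) := by
    rw [← heq]
    show _ = 2 * Nat.card (S1 E' a)
    rw [CE.card_S1_eq hab, show Nat.card Ω - 1 = q by omega]
    ring
  have h4 := Nat.eq_of_mul_eq_mul_left (by omega) h3
  omega

end Ctx

end Cfsg.Lib.Wagner
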