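import Cfsg.Agent.Lib.Wagner.Regular
import Cfsg.Agent.S3371
import Cfsg.Agent.S0205
import Cfsg.Agent.Lib.Core.Layer

/-!
# A solvable two-point stabilizer of odd order with a non-trivial three-point stabilizer

The stabilizer of two points acts semilinearly on a line, so every involution in it fixes two points.
-/

set_option autoImplicit false
set_option linter.unusedSectionVars false
set_option linter.style.haveILetI false

namespace Cfsg.Lib.Wagner

open MulAction Cfsg.Lib.Plane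

universe u v

variable {G : Type u} [Group G] {Ω : Type v} [MulAction G Ω]

/-- Half-transitive odd subgroups of the stabilizer of `a, b` are cyclic and semiregular. -/
theorem RegData.semiregular [Finite G] {H : Subgroup G} (C : Ctx H Ω) {E : Subgroup G} {a b : Ω} {p m q : ℕ}
    (R : RegData E a p) (hab : a ≠ b) (hcard : Nat.card E = p ^ m) (hm : Odd m) [Fact q.Prime] (hq : q ≠ 2)
    {Q : Subgroup G} (hQp : IsPGroup q Q) (hQa : ∀ g ∈ Q, g • a = a) (hQb : ∀ g ∈ Q, g • b = b)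
    (hQst : ∀ g : G, g • a = a → g • b = b → cj g Q = Q) :
    IsCyclic Q ∧ ∀ g ∈ Q, ∀ c : Ω, c ≠ a → c ≠ b → g • c = c → g = 1 := by
  classical
  haveI : Fact p.Prime := ⟨R.prime⟩
  haveI := C.finite
  haveI := C.faithful
  letI : CommGroup E := { (inferInstance : Group E) with mul_comm := fun x y => Subtype.ext (R.comm x x.2 y y.2) }
  haveI : Module (ZMod p) (Additive E) :=
    AddCommGroup.zmodModule fun x => Additive.toMul.injective (by
      show (Additive.toMul x) ^ p = 1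
      exact Subtype.ext (R.pow _ (Additive.toMul x).2))
  have hconj : ∀ g ∈ Q, ∀ x : E, g * (x : G) * g⁻¹ ∈ E := fun g hg x =>
    (R.stable g (hQa g hg)).le (conj_mem_cj x.2)
  let cjE : Q → (Additive E →+ Additive E) := fun g =>
    AddMonoidHom.mk' (fun x => Additive.ofMul ⟨_, hconj g g.2 (Additive.toMul x)⟩) fun x y => by
      apply Additive.toMul.injective
      refine Subtype.ext ?_
      show (g : G) * (((Additive.toMul x : E) : G) * ((Additive.toMul y : E) : G)) * (g : G)⁻¹ =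
        (g : G) * ((Additive.toMul x : E) : G) * (g : G)⁻¹ * ((g : G) * ((Additive.toMul y : E) : G) * (g : G)⁻¹)
      group
  have hmul : ∀ (g h : Q) (x : Additive E), cjE (g * h) x = cjE g (cjE h x) := fun g h x => by
    apply Additive.toMul.injective
    refine Subtype.ext ?_
    show ((g : G) * h) * _ * ((g : G) * h)⁻¹ = (g : G) * ((h : G) * _ * (h : G)⁻¹) * (g : G)⁻¹
    group
  have hone : ∀ x : Additive E, cjE 1 x = x := fun x => by
    apply Additive.toMul.injective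
    refine Subtype.ext ?_
    show (1 : G) * _ * (1 : G)⁻¹ = _
    group
  let ρ : Q →* (Additive E ≃ₗ[ZMod p] Additive E) :=
    { toFun := fun g =>
        { (cjE g).toZModLinearMap p with
          invFun := cjE g⁻¹
          left_inv := fun x => by
            show cjE g⁻¹ (cjE g x) = x
            rw [← hmul, inv_mul_cancel, hone]
          right_inv := fun x => by
            show cjE g (cjE g⁻¹ x) = x
            rw [← hmul, mul_inv_cancel, hone] }
      map_one' := LinearEquiv.ext hone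
      map_mul' := fun g h => LinearEquiv.ext fun x => hmul g h x }
  have hρ : ∀ (g : Q) (x : E), (ρ g : Additive E ≃ₗ[ZMod p] Additive E) (Additive.ofMul x) =
      Additive.ofMul (⟨_, hconj g g.2 x⟩ : E) := fun _ _ => rfl
  obtain ⟨c₀, hc₀a, hc₀b⟩ := C.exists_third a b
  obtain ⟨x₀, hx₀, hx₀c⟩ := R.trans b c₀ hab.symm hc₀a
  haveI : Nontrivial E := ⟨⟨x₀, hx₀⟩, 1, fun h => hc₀b (by
    rw [← hx₀c, show x₀ = 1 from congrArg Subtype.val h, one_smul])⟩
  -- moved points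
  have hfix : ∀ g : G, g • a = a → g • b = b → ∀ x ∈ E, g * x = x * g → g • (x • b) = x • b := by
    intro g _ hgb x _ hx
    rw [← mul_smul, hx, mul_smul, hgb]
  have hinj : Function.Injective ρ := by
    rw [injective_iff_map_eq_one]
    intro g hg
    refine Subtype.ext (FaithfulSMul.eq_of_smul_eq_smul (α := Ω) fun y => ?_)
    rw [Subgroup.coe_one, one_smul]
    by_cases hy : y = a
    · rw [hy, hQa g g.2]
    obtain ⟨x, hx, rfl⟩ := R.trans b y hab.symm hy
    refine hfix g (hQa g g.2) (hQb g g.2) x hx ?_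
    have h1 := LinearEquiv.congr_fun hg (Additive.ofMul ⟨x, hx⟩)
    rw [hρ] at h1
    have h2 : (g : G) * x * (g : G)⁻¹ = x := congrArg (fun z : Additive E => ((Additive.toMul z : E) : G)) h1
    exact mul_inv_eq_iff_eq_mul.1 h2
  have hhalf : ∀ v w : Additive E, v ≠ 0 → w ≠ 0 →
      Nat.card {u : Additive E | ∃ g : Q, ρ g v = u} = Nat.card {u : Additive E | ∃ g : Q, ρ g w = u} := by
    intro v w hv hw
    obtain ⟨⟨x, hx⟩, rfl⟩ := Additive.ofMul.surjective v
    obtain ⟨⟨y, hy⟩, rfl⟩ := Additive.ofMul.surjective w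
    have hne : ∀ z : E, Additive.ofMul z ≠ 0 → (z : G) • b ≠ a ∧ (z : G) • b ≠ b := by
      intro z hz
      refine ⟨fun e => hab.symm (MulAction.injective (z : G) (e.trans (R.fixes z z.2).symm)), fun e => hz ?_⟩
      have : (z : G) = 1 := R.free z z.2 b hab.symm e
      rw [show z = 1 from Subtype.ext this]
      rfl
    obtain ⟨g, hga, hgb, hgc⟩ := C.exists_move hab (hne _ hv).1 (hne _ hv).2 (hne _ hw).1 (hne _ hw).2
    have hgE : ∀ z : E, g * (z : G) * g⁻¹ ∈ E := fun z => (R.stable g hga).le (conj_mem_cj z.2)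
    have hgxy : g * x * g⁻¹ = y := by
      have h2 : y⁻¹ * (g * x * g⁻¹) = 1 := by
        refine R.free _ (mul_mem (inv_mem hy) (hgE ⟨x, hx⟩)) b hab.symm ?_
        rw [mul_smul, mul_smul, mul_smul, inv_smul_eq_iff.2 hgb.symm, hgc, inv_smul_smul]
      exact (inv_mul_eq_one.1 h2).symm
    let e : Additive E ≃ Additive E :=
      { toFun := fun z => Additive.ofMul ⟨_, hgE (Additive.toMul z)⟩
        invFun := fun z => Additive.ofMul ⟨g⁻¹ * ((Additive.toMul z : E) : G) * g, by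
          refine (R.stable g⁻¹ (inv_smul_eq_iff.2 hga.symm)).le ?_
          simpa using conj_mem_cj (g := g⁻¹) (Additive.toMul z : E).2⟩
        left_inv := fun z => by
          apply Additive.toMul.injective
          refine Subtype.ext ?_
          show g⁻¹ * (g * _ * g⁻¹) * g = _
          group
        right_inv := fun z => by
          apply Additive.toMul.injective
          refine Subtype.ext ?_
          show g * (g⁻¹ * _ * g) * g⁻¹ = _
          group }
    refine Nat.card_congr (e.subtypeEquiv fun z => ?_)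
    constructor
    · rintro ⟨k, rfl⟩
      have hk : g * (k : G) * g⁻¹ ∈ Q := (hQst g hga hgb).le (conj_mem_cj k.2)
      refine ⟨⟨_, hk⟩, ?_⟩
      rw [hρ, hρ]
      apply Additive.toMul.injective
      refine Subtype.ext ?_
      show (g * (k : G) * g⁻¹) * y * (g * (k : G) * g⁻¹)⁻¹ = g * ((k : G) * x * (k : G)⁻¹) * g⁻¹
      rw [← hgxy]
      group
    · rintro ⟨k, hk⟩
      have hk' : g⁻¹ * (k : G) * g ∈ Q := by
        refine (hQst g⁻¹ (inv_smul_eq_iff.2 hga.symm) (inv_smul_eq_iff.2 hgb.symm)).le ?_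
        simpa using conj_mem_cj (g := g⁻¹) k.2
      refine ⟨⟨_, hk'⟩, e.injective ?_⟩
      rw [← hk, hρ, hρ]
      apply Additive.toMul.injective
      refine Subtype.ext ?_
      show g * ((g⁻¹ * (k : G) * g) * x * (g⁻¹ * (k : G) * g)⁻¹) * g⁻¹ = (k : G) * y * (k : G)⁻¹
      rw [← hgxy]
      group
  obtain ⟨k, hk⟩ := IsPGroup.iff_card.1 hQp
  have hodd : Odd (Nat.card Q) := by
    rw [hk]; exact ((Fact.out : q.Prime).odd_of_ne_two hq).pow
  have hVc : Nat.card (Additive E) = p ^ m := hcard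
  have hnsq : ∀ j, Nat.card (Additive E) = j ^ 2 → False := by
    intro j hj
    rw [hVc] at hj
    obtain ⟨i, -, rfl⟩ := (Nat.dvd_prime_pow R.prime).1 (hj ▸ dvd_pow_self j two_ne_zero : j ∣ p ^ m)
    rw [← pow_mul] at hj
    have := Nat.pow_right_injective R.prime.two_le hj
    exact Nat.not_even_iff_odd.2 hm ⟨i, by omega⟩
  rcases Cfsg.Agent.S3371.result p (V := Additive E) q hQp ρ hinj hhalf with
    ⟨hshape, hsemi⟩ | ⟨h, -⟩ | ⟨h, -⟩ | ⟨h, -⟩
  · constructor
    · rcases hshape with h | ⟨i, ⟨e⟩⟩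
      · exact h
      · exfalso
        refine Nat.not_even_iff_odd.2 hodd ?_
        rw [Nat.card_congr e.toEquiv]
        rcases Nat.eq_zero_or_pos i with rfl | hi
        · haveI : Infinite (QuaternionGroup 0) :=
            Infinite.of_injective (fun z : ℤ => (QuaternionGroup.a z : QuaternionGroup 0))
              fun _ _ hz => QuaternionGroup.a.inj hz
          rw [Nat.card_eq_zero_of_infinite]
          exact ⟨0, rfl⟩
        · haveI : NeZero i := ⟨hi.ne'⟩
          rw [Nat.card_eq_fintype_card, QuaternionGroup.card]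
          exact ⟨2 * i, by omega⟩
    · intro g hg c hca hcb hgc
      obtain ⟨x, hx, rfl⟩ := R.trans b c hab.symm hca
      have hcomm := R.commute_of_fix hab.symm (hQa g hg) (hQb g hg) hgc hx rfl
      refine congrArg Subtype.val (hsemi (Additive.ofMul ⟨x, hx⟩) ?_ ⟨g, hg⟩ ?_)
      · intro h0
        have : x = 1 := congrArg Subtype.val (Additive.ofMul.injective (h0.trans (ofMul_one (α := E)).symm))
        exact hcb (by rw [this, one_smul])
      · rw [hρ]
        apply Additive.toMul.injective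
        refine Subtype.ext ?_
        show g * x * g⁻¹ = x
        rw [hcomm, mul_inv_cancel_right]
  · exact (hnsq p h).elim
  · exact (hnsq p h).elim
  · exact (hnsq 9 h).elim

/-- Every involution of the stabilizer of `a, b` fixes only `a` and `b`. -/
theorem RegData.involution_fix [Finite G] {H : Subgroup G} (C : Ctx H Ω) {E : Subgroup G} {a b : Ω}
    {p m : ℕ} (R : RegData E a p) (hab : a ≠ b) (hp2 : p ≠ 2) (hcard : Nat.card E = p ^ m) (hm : Odd m)
    (hodd : Odd (Nat.card (S2 H a b))) {c₀ : Ω} (hc₀a : c₀ ≠ a) (hc₀b : c₀ ≠ b) (hD : S3 H a b c₀ ≠ ⊥)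
    {u : G} (hu : orderOf u = 2) (hua : u • a = a) (hub : u • b = b) :
    ∀ y : Ω, u • y = y → y = a ∨ y = b := by
  classical
  haveI := C.normal
  haveI := C.faithful
  haveI := C.finite
  haveI : Fact p.Prime := ⟨R.prime⟩
  set K := S2 H a b with hK
  haveI hKsol : Group.IsSolvable K := Cfsg.Agent.S0205.result (G := K) hodd
  have hKst : ∀ g : G, g • a = a → g • b = b → cj g K = K := fun g ha hb => by rw [hK, cj_S2, ha, hb]
  set FK := Cfsg.fittingSubgroup K with hFK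
  haveI : FK.Normal := Cfsg.Lib.Core.fittingSubgroup_normal' K
  haveI hFchar : FK.Characteristic := by
    rw [hFK, Cfsg.Lib.Core.fittingSubgroup_eq_iSup_pCore]
    refine Subgroup.characteristic_iff_map_eq.2 fun φ => ?_
    rw [Subgroup.map_iSup]
    exact iSup_congr fun q => Subgroup.characteristic_iff_map_eq.1 Cfsg.Lib.Core.pCore_characteristic φ
  haveI hFnil : Group.IsNilpotent FK := Cfsg.Lib.Core.fittingSubgroup_isNilpotent K
  set F : Subgroup G := FK.map K.subtype with hF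
  have hFK' : F ≤ K := Subgroup.map_subtype_le _
  have hFst : ∀ g : G, g • a = a → g • b = b → cj g F = F := fun g ha hb => cj_map_char (hKst g ha hb)
  -- cores are cyclic and semiregular
  have hcore : ∀ (q : ℕ) [Fact q.Prime], q ∣ Nat.card FK →
      IsCyclic ↥((Cfsg.pCore q K).map K.subtype) ∧
      ∀ g ∈ (Cfsg.pCore q K).map K.subtype, ∀ c : Ω, c ≠ a → c ≠ b → g • c = c → g = 1 := by
    intro q _ hqd
    refine R.semiregular C hab hcard hm ?_ ((Cfsg.Lib.Core.pCore_isPGroup q K).map _)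
      (fun g hg => (mem_S2.1 (Subgroup.map_subtype_le _ hg)).2.1)
      (fun g hg => (mem_S2.1 (Subgroup.map_subtype_le _ hg)).2.2)
      (fun g ha hb => cj_map_char (hKst g ha hb))
    intro hq2
    rw [hq2] at hqd
    exact Nat.not_odd_iff_even.2 (even_iff_two_dvd.2 (hqd.trans FK.card_subgroup_dvd_card)) hodd
  have hSyl : ∀ (q : ℕ) [Fact q.Prime] (P : Sylow q FK),
      (P : Subgroup FK).map FK.subtype ≤ Cfsg.pCore q K := by
    intro q _ P
    haveI : (P : Subgroup FK).Normal :=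
      ((Group.isNilpotent_of_finite_tfae (G := FK)).out 0 3 rfl rfl).1 hFnil q inferInstance P
    haveI : (P : Subgroup FK).Characteristic := Sylow.characteristic_of_normal P inferInstance
    haveI := Cfsg.Lib.Core.le_pCore (G := K) (p := q) (N := (P : Subgroup FK).map FK.subtype) (P.2.map _)
    exact this
  haveI : IsZGroup FK := by
    refine ⟨fun q hq P => ?_⟩
    haveI : Fact q.Prime := ⟨hq⟩
    by_cases hqd : q ∣ Nat.card FK
    · haveI := (hcore q hqd).1
      haveI : IsCyclic (Cfsg.pCore q K) :=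
        ((Cfsg.pCore q K).equivMapOfInjective K.subtype K.subtype_injective).isCyclic.2 inferInstance
      haveI : IsCyclic ((P : Subgroup FK).map FK.subtype) := Subgroup.isCyclic_of_le (hSyl q P)
      exact ((P : Subgroup FK).equivMapOfInjective FK.subtype FK.subtype_injective).isCyclic.2 inferInstance
    · have h1 : (P : Subgroup FK) = ⊥ := by
        rw [← Subgroup.card_eq_one]
        obtain ⟨j, hj⟩ := IsPGroup.iff_card.1 P.2
        rcases Nat.eq_zero_or_pos j with rfl | hj0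
        · simpa using hj
        · exact absurd ((dvd_pow_self q hj0.ne').trans (hj ▸ (P : Subgroup FK).card_subgroup_dvd_card)) hqd
      rw [h1]
      infer_instance
  haveI : IsCyclic FK := inferInstance
  obtain ⟨⟨zK, hzK⟩, hgen⟩ := IsCyclic.exists_generator (α := FK)
  set z : G := (zK : G) with hz
  have hzF : z ∈ F := ⟨zK, hzK, rfl⟩
  have hFgen : ∀ f ∈ F, ∃ i : ℤ, z ^ i = f := by
    rintro _ ⟨f, hf, rfl⟩
    obtain ⟨i, hi⟩ := hgen ⟨f, hf⟩
    refine ⟨i, ?_⟩
    have h1 : zK ^ i = f := congrArg Subtype.val hi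
    rw [← h1, hz]
    simp
  have hFcomm : ∀ f ∈ F, ∀ f' ∈ F, f * f' = f' * f := by
    intro f hf f' hf'
    obtain ⟨i, rfl⟩ := hFgen f hf
    obtain ⟨j, rfl⟩ := hFgen f' hf'
    exact (Commute.zpow_zpow_self z i j).eq
  have hsemi : ∀ f ∈ F, ∀ c : Ω, c ≠ a → c ≠ b → f • c = c → f = 1 := by
    rintro _ ⟨f, hf, rfl⟩ c hca hcb hfc
    by_contra hne
    obtain ⟨q, hq, hqd⟩ := Nat.exists_prime_and_dvd (show orderOf (⟨f, hf⟩ : FK) ≠ 1 from fun h =>
      hne (by rw [show f = 1 from congrArg Subtype.val (orderOf_eq_one_iff.1 h)]; simp))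
    haveI : Fact q.Prime := ⟨hq⟩
    obtain ⟨d, hd⟩ := hqd
    set x : FK := ⟨f, hf⟩ ^ d with hx
    have hxo : orderOf x = q := by
      rw [hx, orderOf_pow_of_dvd (fun h0 => by
        rw [h0, mul_zero] at hd
        exact (orderOf_pos (⟨f, hf⟩ : FK)).ne' hd) (by rw [hd]; exact dvd_mul_left d q), hd,
        Nat.mul_div_cancel _ (Nat.pos_of_ne_zero fun h0 => by
          rw [h0, mul_zero] at hd
          exact (orderOf_pos (⟨f, hf⟩ : FK)).ne' hd)]
    obtain ⟨P, hP⟩ := (IsPGroup.of_card (p := q) (n := 1) (by rw [Nat.card_zpowers, hxo, pow_one]) :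
      IsPGroup q (Subgroup.zpowers x)).exists_le_sylow
    have hxP := hSyl q P (Subgroup.mem_map_of_mem _ (hP (Subgroup.mem_zpowers x)))
    have h1 := (hcore q (hxo ▸ orderOf_dvd_natCard x)).2 _ (Subgroup.mem_map_of_mem K.subtype hxP) c hca hcb ?_
    · have : x = 1 := Subtype.ext (Subtype.ext h1)
      rw [this, orderOf_one] at hxo
      exact hq.ne_one hxo.symm
    · show ((f : G) ^ d) • c = c
      exact mem_stabilizer_iff.1 (pow_mem (show (f : G) ∈ stabilizer G c from hfc) d)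
  have hcent : ∀ k ∈ K, k * z = z * k → k ∈ F := by
    intro k hk hkz
    refine ⟨⟨k, hk⟩, Cfsg.Lib.Core.centralizer_fitting_le_of_isSolvable (G := K)
      (Subgroup.mem_centralizer_iff.2 fun f hf => Subtype.ext ?_), rfl⟩
    obtain ⟨i, hi⟩ := hFgen (f : G) ⟨f, hf, rfl⟩
    show (f : G) * k = k * f
    rw [← hi]
    exact ((show Commute k z from hkz).zpow_right i).eq.symm
  -- an element moving the generator fixes a vector up to `F`
  obtain ⟨h, hh, hh1⟩ := (S3 H a b c₀).bot_or_exists_ne_one.resolve_left hD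
  have hhK : h ∈ K := S3_le_S2 H a b c₀ hh
  obtain ⟨-, hha, hhb, hhc⟩ := mem_S3.1 hh
  have hhz : h * z ≠ z * h := fun e => hh1 (hsemi h (hcent h hhK e) c₀ hc₀a hc₀b hhc)
  have hconjF : ∀ g : G, g • a = a → g • b = b → ∃ i : ℤ, g * z * g⁻¹ = z ^ i := by
    intro g hga hgb
    obtain ⟨i, hi⟩ := hFgen (g * z * g⁻¹) (by rw [← hFst g hga hgb]; exact conj_mem_cj hzF)
    exact ⟨i, hi.symm⟩
  have hEc : ∀ g : G, g • a = a → ∀ x ∈ E, g * x * g⁻¹ ∈ E := fun g hga x hx => by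
    rw [← R.stable g hga]; exact conj_mem_cj hx
  have hFa : ∀ f ∈ F, f • a = a := fun f hf => (mem_S2.1 (hFK' hf)).2.1
  have hFb : ∀ f ∈ F, f • b = b := fun f hf => (mem_S2.1 (hFK' hf)).2.2
  have hne : ∀ x ∈ E, x ≠ 1 → x • b ≠ a ∧ x • b ≠ b := fun x hx hx1 =>
    ⟨fun e => hab.symm (MulAction.injective x (e.trans (R.fixes x hx).symm)),
      fun e => hx1 (R.free x hx b hab.symm e)⟩
  have hvec : ∀ x ∈ E, x ≠ 1 → ∃ f ∈ F, h * x * h⁻¹ = f * x * f⁻¹ := by
    intro x hx hx1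
    obtain ⟨g, hga, hgb, hgc⟩ := C.exists_move hab hc₀a hc₀b (hne x hx hx1).1 (hne x hx hx1).2
    set k := g * h * g⁻¹ * h⁻¹ with hk
    have hkK : k ∈ K := by
      refine mul_mem ?_ (inv_mem hhK)
      rw [← hKst g hga hgb]
      exact conj_mem_cj hhK
    obtain ⟨i, hi⟩ := hconjF g hga hgb
    obtain ⟨j, hj⟩ := hconjF h hha hhb
    have hkF : k ∈ F := by
      refine hcent k hkK ?_
      have hcommF : ∀ w ∈ F, g * (h * w * h⁻¹) * g⁻¹ = h * (g * w * g⁻¹) * h⁻¹ := by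
        intro w hw
        obtain ⟨e, rfl⟩ := hFgen w hw
        rw [← conj_zpow, ← conj_zpow, ← conj_zpow, ← conj_zpow, hi, hj, ← conj_zpow, ← conj_zpow, hi, hj]
        simp only [← zpow_mul]
        congr 1
        ring
      have hwF : g⁻¹ * (h⁻¹ * z * h) * g ∈ F := by
        have h1 : h⁻¹ * z * h ∈ F := by rw [← mem_cj, hFst h hha hhb]; exact hzF
        rw [← mem_cj, hFst g hga hgb]
        exact h1
      have h2 := hcommF _ hwF
      calc k * z = (g * (h * (g⁻¹ * (h⁻¹ * z * h) * g) * h⁻¹) * g⁻¹) * k := by rw [hk]; group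
        _ = z * k := by rw [h2]; group
    refine ⟨k⁻¹, inv_mem hkF, ?_⟩
    have hfix : (k * h) • (x • b) = x • b := by
      rw [show k * h = g * h * g⁻¹ by rw [hk, inv_mul_cancel_right], ← hgc, mul_smul, mul_smul,
        inv_smul_smul, hhc]
    have hcm := R.commute_of_fix hab.symm (by rw [mul_smul, hha, hFa k hkF]) (by rw [mul_smul, hhb, hFb k hkF])
      hfix hx rfl
    calc h * x * h⁻¹ = k⁻¹ * (k * h * x) * h⁻¹ := by group
      _ = k⁻¹ * (x * (k * h)) * h⁻¹ := by rw [hcm]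
      _ = k⁻¹ * x * k⁻¹⁻¹ := by group
  -- `F` is irreducible
  let Inv : Subgroup G → Prop := fun M => M ≤ E ∧ M ≠ ⊥ ∧ ∀ f ∈ F, ∀ x ∈ M, f * x * f⁻¹ ∈ M
  have hEne : E ≠ ⊥ := by
    obtain ⟨x, hx, hxc⟩ := R.trans b c₀ hab.symm hc₀a
    exact fun h0 => hc₀b (by rw [h0, Subgroup.mem_bot] at hx; rw [← hxc, hx, one_smul])
  have hEinv : Inv E := ⟨le_rfl, hEne, fun f hf x hx => hEc f (hFa f hf) x hx⟩
  obtain ⟨M₀, hM₀, hmin⟩ := Set.Finite.exists_minimal (Set.toFinite {M | Inv M}) ⟨E, hEinv⟩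
  have hirr : ∀ M, Inv M → M = E := by
    intro M hM
    suffices hM₀E : M₀ = E by
      refine le_antisymm hM.1 ?_
      rw [← hM₀E]
      exact hmin hM (hM.1.trans hM₀E.ge)
    obtain ⟨hM₀E, hM₀1, hM₀F⟩ := hM₀
    by_contra hne'
    obtain ⟨x₂, hx₂E, hx₂⟩ := SetLike.exists_of_lt (lt_of_le_of_ne hM₀E hne')
    obtain ⟨x₁, hx₁, hx₁1⟩ := M₀.bot_or_exists_ne_one.resolve_left hM₀1
    have hx₁E := hM₀E hx₁
    have hx₂1 : x₂ ≠ 1 := fun e => hx₂ (e ▸ one_mem _)
    obtain ⟨g, hga, hgb, hgc⟩ := C.exists_move hab (hne x₁ hx₁E hx₁1).1 (hne x₁ hx₁E hx₁1).2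
      (hne x₂ hx₂E hx₂1).1 (hne x₂ hx₂E hx₂1).2
    have hgx : g * x₁ * g⁻¹ = x₂ := by
      have h2 : x₂⁻¹ * (g * x₁ * g⁻¹) = 1 := by
        refine R.free _ (mul_mem (inv_mem hx₂E) (hEc g hga x₁ hx₁E)) b hab.symm ?_
        rw [mul_smul, mul_smul, mul_smul, inv_smul_eq_iff.2 hgb.symm, hgc, inv_smul_smul]
      exact (inv_mul_eq_one.1 h2).symm
    set M₂ := cj g M₀ with hM₂
    have hx₂M : x₂ ∈ M₂ := hgx ▸ conj_mem_cj hx₁
    have hM₂E : M₂ ≤ E := (cj_mono hM₀E).trans (R.stable g hga).le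
    have hM₂F : ∀ f ∈ F, ∀ x ∈ M₂, f * x * f⁻¹ ∈ M₂ := by
      intro f hf x hx
      rw [hM₂, mem_cj]
      have hf' : g⁻¹ * f * g ∈ F := by
        rw [← mem_cj, hFst g hga hgb]; exact hf
      have := hM₀F _ hf' _ (mem_cj.1 hx)
      simpa [mul_assoc] using this
    have hint : M₀ ⊓ M₂ = ⊥ := by
      by_contra hb
      have hle : M₀ ≤ M₀ ⊓ M₂ := hmin ⟨inf_le_left.trans hM₀E, hb, fun f hf x hx =>
        ⟨hM₀F f hf x hx.1, hM₂F f hf x hx.2⟩⟩ inf_le_left
      have h1 : M₀ = M₂ := Subgroup.eq_of_le_of_card_ge (hle.trans inf_le_right) (card_cj g M₀).le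
      exact hx₂ (h1 ▸ hx₂M)
    obtain ⟨f₁, hf₁, e₁⟩ := hvec x₁ hx₁E hx₁1
    obtain ⟨f₂, hf₂, e₂⟩ := hvec x₂ hx₂E hx₂1
    have key : ∀ f ∈ F, ∃ f' ∈ F, f' = f₁ ∧ f' * f = (h * f * h⁻¹) * f₂ := by
      intro f hf
      have hfh : h * f * h⁻¹ ∈ F := by rw [← hFst h hha hhb]; exact conj_mem_cj hf
      have hw : f * x₂ * f⁻¹ ∈ M₂ := hM₂F f hf x₂ hx₂M
      have hyE : x₁ * (f * x₂ * f⁻¹) ∈ E := mul_mem hx₁E (hM₂E hw)
      have hy1 : x₁ * (f * x₂ * f⁻¹) ≠ 1 := fun e => hx₁1 (by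
        have : x₁ ∈ M₀ ⊓ M₂ := Subgroup.mem_inf.2 ⟨hx₁, by rw [eq_inv_of_mul_eq_one_left e]; exact inv_mem hw⟩
        rwa [hint, Subgroup.mem_bot] at this)
      obtain ⟨f', hf', e'⟩ := hvec _ hyE hy1
      set k := (h * f * h⁻¹) * f₂ with hk
      have hkF : k ∈ F := mul_mem hfh hf₂
      have hl : h * (x₁ * (f * x₂ * f⁻¹)) * h⁻¹ = (f₁ * x₁ * f₁⁻¹) * (k * x₂ * k⁻¹) := by
        rw [hk, ← e₁]
        calc h * (x₁ * (f * x₂ * f⁻¹)) * h⁻¹
            = (h * x₁ * h⁻¹) * ((h * f * h⁻¹) * (h * x₂ * h⁻¹) * (h * f * h⁻¹)⁻¹) := by group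
          _ = _ := by rw [e₂]; group
      have hr : f' * (x₁ * (f * x₂ * f⁻¹)) * f'⁻¹ = (f' * x₁ * f'⁻¹) * ((f' * f) * x₂ * (f' * f)⁻¹) := by
        group
      rw [hl, hr] at e'
      have e4 : (f' * x₁ * f'⁻¹)⁻¹ * (f₁ * x₁ * f₁⁻¹) =
          ((f' * f) * x₂ * (f' * f)⁻¹) * (k * x₂ * k⁻¹)⁻¹ := by
        calc (f' * x₁ * f'⁻¹)⁻¹ * (f₁ * x₁ * f₁⁻¹)
            = (f' * x₁ * f'⁻¹)⁻¹ * ((f₁ * x₁ * f₁⁻¹) * (k * x₂ * k⁻¹)) * (k * x₂ * k⁻¹)⁻¹ := by group
          _ = _ := by rw [e']; group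
      have hz0 : (f' * x₁ * f'⁻¹)⁻¹ * (f₁ * x₁ * f₁⁻¹) = 1 := by
        have : (f' * x₁ * f'⁻¹)⁻¹ * (f₁ * x₁ * f₁⁻¹) ∈ M₀ ⊓ M₂ :=
          Subgroup.mem_inf.2 ⟨mul_mem (inv_mem (hM₀F f' hf' x₁ hx₁)) (hM₀F f₁ hf₁ x₁ hx₁), by
            rw [e4]
            exact mul_mem (hM₂F _ (mul_mem hf' hf) x₂ hx₂M) (inv_mem (hM₂F _ hkF x₂ hx₂M))⟩
        rwa [hint, Subgroup.mem_bot] at this
      have hcancel : ∀ s ∈ F, ∀ t ∈ F, ∀ x ∈ E, x ≠ 1 → s * x * s⁻¹ = t * x * t⁻¹ → s = t := by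
        intro s hs t ht x hx hx1 e
        have hfix : (t⁻¹ * s) • (x • b) = x • b := by
          rw [← mul_smul, show t⁻¹ * s * x = t⁻¹ * (s * x * s⁻¹) * s by group, e,
            show t⁻¹ * (t * x * t⁻¹) * s = x * (t⁻¹ * s) by group, mul_smul,
            mul_smul, hFb s hs, inv_smul_eq_iff.2 (hFb t ht).symm]
        exact (inv_mul_eq_one.1 (hsemi _ (mul_mem (inv_mem ht) hs) _ (hne x hx hx1).1 (hne x hx hx1).2 hfix)).symm
      have h5 := inv_mul_eq_one.1 hz0
      refine ⟨f', hf', hcancel f' hf' f₁ hf₁ x₁ hx₁E hx₁1 h5, hcancel _ (mul_mem hf' hf) k hkF x₂ hx₂E hx₂1 ?_⟩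
      rw [hz0] at e4
      exact mul_inv_eq_one.1 e4.symm
    obtain ⟨f', -, rfl, h12⟩ := key 1 (one_mem F)
    rw [mul_one, mul_one, mul_inv_cancel, one_mul] at h12
    obtain ⟨f'', -, rfl, hzz⟩ := key z hzF
    rw [h12] at hzz
    refine hhz (mul_inv_eq_iff_eq_mul.1 (mul_right_cancel (b := f₂) ?_))
    rw [← hzz, hFcomm f₂ hf₂ z hzF]
  have huu : u * u = 1 := Cfsg.Lib.Invol.inv_mul_self hu
  have huinv : u⁻¹ = u := Cfsg.Lib.Invol.inv_eq_self hu
  by_cases huz : u * z = z * u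
  · -- `u` is a scalar
    let Cu : Subgroup G := E ⊓ Subgroup.centralizer ({u} : Set G)
    by_cases hCu : Cu = ⊥
    · intro y hy
      by_cases hya : y = a
      · exact Or.inl hya
      refine Or.inr ?_
      obtain ⟨x, hx, rfl⟩ := R.trans b y hab.symm hya
      have hmem : x ∈ Cu := ⟨hx, Subgroup.mem_centralizer_singleton_iff.2
        (R.commute_of_fix hab.symm hua hub hy hx rfl).symm⟩
      rw [hCu, Subgroup.mem_bot] at hmem
      rw [hmem, one_smul]
    · exfalso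
      have hinv : Inv Cu := by
        refine ⟨inf_le_left, hCu, fun f hf x hx => ⟨hEc f (hFa f hf) x hx.1, ?_⟩⟩
        obtain ⟨i, rfl⟩ := hFgen f hf
        have h1 : Commute u (z ^ i) := (show Commute u z from huz).zpow_right i
        have h2 : Commute u x := (Subgroup.mem_centralizer_singleton_iff.1 hx.2).symm
        exact Subgroup.mem_centralizer_singleton_iff.2 ((h1.mul_right h2).mul_right h1.inv_right).symm
      have h1 := hirr Cu hinv
      have hu1 : u = 1 := by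
        refine FaithfulSMul.eq_of_smul_eq_smul (α := Ω) fun y => ?_
        rw [one_smul]
        by_cases hya : y = a
        · rw [hya, hua]
        obtain ⟨x, hx, rfl⟩ := R.trans b y hab.symm hya
        rw [← h1] at hx
        rw [← mul_smul, ← Subgroup.mem_centralizer_singleton_iff.1 hx.2, mul_smul, hub]
      rw [hu1, orderOf_one] at hu
      omega
  · exfalso
    set f := u * z * u * z⁻¹ with hfdef
    have hfF : f ∈ F := by
      refine mul_mem ?_ (inv_mem hzF)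
      have := conj_mem_cj (g := u) hzF
      rw [hFst u hua hub, huinv] at this
      exact this
    have hf1 : f ≠ 1 := by
      intro e
      refine huz ?_
      have e2 : u * z * u = z := by rwa [hfdef, mul_inv_eq_one] at e
      calc u * z = u * z * u * u := by rw [mul_assoc _ u u, huu, mul_one]
        _ = z * u := by rw [e2]
    have hfu : u * f * u = f⁻¹ := by
      calc u * f * u = u * u * z * u * z⁻¹ * u := by simp only [hfdef, mul_assoc]
        _ = f⁻¹ := by rw [huu, hfdef]; simp [mul_inv_rev, huinv, mul_assoc]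
    have hfo : Odd (orderOf f) := hodd.of_dvd_nat (Subgroup.orderOf_dvd_natCard _ (hFK' hfF))
    have hf2 : f * f ≠ 1 := fun e => by
      have := Nat.le_of_dvd two_pos (orderOf_dvd_of_pow_eq_one (by rwa [pow_two] : f ^ 2 = 1))
      obtain ⟨i, hi⟩ := hfo
      exact hf1 (orderOf_eq_one_iff.1 (by omega))
    have hmul : ∀ (w x y : G), w * (x * y) * w⁻¹ = (w * x * w⁻¹) * (w * y * w⁻¹) := fun w x y => by group
    let σ : G → G := fun x => u * x * u
    have hσE : ∀ x ∈ E, σ x ∈ E := fun x hx => by simpa [σ, huinv] using hEc u hua x hx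
    have hσmul : ∀ x y : G, σ (x * y) = σ x * σ y := fun x y => by
      simpa [σ, huinv] using hmul u x y
    have hσσ : ∀ x : G, σ (σ x) = x := fun x => by
      show u * (u * x * u) * u = x
      rw [← mul_assoc, ← mul_assoc, huu, one_mul, mul_assoc, huu, mul_one]
    have hσinv : ∀ x : G, σ x⁻¹ = (σ x)⁻¹ := fun x => by simp [σ, mul_inv_rev, huinv, mul_assoc]
    have e1 : σ f = f⁻¹ := hfu
    have hσconj : ∀ s x : G, σ (s * x * s⁻¹) = σ s * σ x * (σ s)⁻¹ := fun s x => by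
      rw [hσmul, hσmul, hσinv]
    have hσconj' : ∀ s x : G, σ (s⁻¹ * x * s) = (σ s)⁻¹ * σ x * σ s := fun s x => by
      rw [hσmul, hσmul, hσinv]
    let P : {x : G // x ∈ E ∧ σ x = x} → {x : G // x ∈ E ∧ σ x = x⁻¹} := fun x =>
      ⟨(f * x.1 * f⁻¹) * (f⁻¹ * x.1 * f)⁻¹, by
        have h1 := hEc f (hFa f hfF) x.1 x.2.1
        have h2 := hEc f⁻¹ (hFa _ (inv_mem hfF)) x.1 x.2.1
        rw [inv_inv] at h2
        refine ⟨mul_mem h1 (inv_mem h2), ?_⟩
        rw [hσmul (f * x.1 * f⁻¹), hσinv, hσconj f x.1, hσconj' f x.1, x.2.2, e1]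
        simp only [mul_inv_rev, inv_inv, mul_assoc]⟩
    let N : {x : G // x ∈ E ∧ σ x = x⁻¹} → {x : G // x ∈ E ∧ σ x = x} := fun x =>
      ⟨(f * x.1 * f⁻¹) * (f⁻¹ * x.1 * f)⁻¹, by
        have h1 := hEc f (hFa f hfF) x.1 x.2.1
        have h2 := hEc f⁻¹ (hFa _ (inv_mem hfF)) x.1 x.2.1
        rw [inv_inv] at h2
        refine ⟨mul_mem h1 (inv_mem h2), ?_⟩
        rw [hσmul (f * x.1 * f⁻¹), hσinv, hσconj f x.1, hσconj' f x.1, x.2.2, e1]
        calc (f⁻¹ * x.1⁻¹ * f⁻¹⁻¹) * (f⁻¹⁻¹ * x.1⁻¹ * f⁻¹)⁻¹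
            = (f⁻¹ * x.1 * f)⁻¹ * (f * x.1 * f⁻¹) := by group
          _ = _ := R.comm _ (inv_mem h2) _ h1⟩
    have hker : ∀ x y : G, x ∈ E → y ∈ E →
        (f * x * f⁻¹) * (f⁻¹ * x * f)⁻¹ = (f * y * f⁻¹) * (f⁻¹ * y * f)⁻¹ → x = y := by
      intro x y hx hy e
      have h1x := hEc f (hFa f hfF) x hx
      have h1y := hEc f (hFa f hfF) y hy
      have h2x := hEc f⁻¹ (hFa _ (inv_mem hfF)) x hx
      have h2y := hEc f⁻¹ (hFa _ (inv_mem hfF)) y hy
      rw [inv_inv] at h2x h2y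
      have e2 : f * (y⁻¹ * x) * f⁻¹ = f⁻¹ * (y⁻¹ * x) * f := by
        calc f * (y⁻¹ * x) * f⁻¹ = (f * y * f⁻¹)⁻¹ * ((f * x * f⁻¹) * (f⁻¹ * x * f)⁻¹) * (f⁻¹ * x * f) := by group
          _ = (f * y * f⁻¹)⁻¹ * ((f * y * f⁻¹) * (f⁻¹ * y * f)⁻¹) * (f⁻¹ * x * f) := by rw [e]
          _ = _ := by group
      by_contra hxy
      have hd : y⁻¹ * x ≠ 1 := fun h => hxy (inv_mul_eq_one.1 h).symm
      have hdE := mul_mem (inv_mem hy) hx
      refine hf2 (hsemi (f * f) (mul_mem hfF hfF) _ (hne _ hdE hd).1 (hne _ hdE hd).2 ?_)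
      have e5 : (f * f) * (y⁻¹ * x) = (y⁻¹ * x) * (f * f) := by
        calc (f * f) * (y⁻¹ * x) = f * (f * (y⁻¹ * x) * f⁻¹) * f := by group
          _ = (y⁻¹ * x) * (f * f) := by rw [e2]; group
      rw [← mul_smul (f * f), e5, mul_smul _ (f * f) b, mul_smul f f, hFb f hfF, hFb f hfF]
    have hcardeq : Nat.card {x : G // x ∈ E ∧ σ x = x} = Nat.card {x : G // x ∈ E ∧ σ x = x⁻¹} :=
      le_antisymm (Nat.card_le_card_of_injective P fun x y e =>
          Subtype.ext (hker _ _ x.2.1 y.2.1 (congrArg Subtype.val e)))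
        (Nat.card_le_card_of_injective N fun x y e =>
          Subtype.ext (hker _ _ x.2.1 y.2.1 (congrArg Subtype.val e)))
    have hpodd : Odd p := R.prime.odd_of_ne_two hp2
    have hsq1 : ∀ x ∈ E, x * x = 1 → x = 1 := fun x hx e => by
      obtain ⟨i, hi⟩ := hpodd
      have := R.pow x hx
      rwa [hi, pow_succ, pow_mul, pow_two, e, one_pow, one_mul] at this
    let T : E → {x : G // x ∈ E ∧ σ x = x} × {x : G // x ∈ E ∧ σ x = x⁻¹} := fun x =>
      (⟨(x : G) * σ x, mul_mem x.2 (hσE x x.2), by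
          rw [hσmul, hσσ]; exact R.comm _ (hσE x x.2) _ x.2⟩,
        ⟨(x : G) * (σ x)⁻¹, mul_mem x.2 (inv_mem (hσE x x.2)), by
          rw [hσmul, hσinv, hσσ, mul_inv_rev, inv_inv]⟩)
    have hT : Function.Injective T := by
      intro x y e
      have e1 : (x : G) * σ x = y * σ y := congrArg Subtype.val (congrArg Prod.fst e)
      have e2 : (x : G) * (σ x)⁻¹ = y * (σ y)⁻¹ := congrArg Subtype.val (congrArg Prod.snd e)
      have c : ∀ {s t : G}, s ∈ E → t ∈ E → Commute s t := fun hs ht => R.comm _ hs _ ht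
      have hx2 : (x : G) * x = y * y := by
        have l : ∀ s : E, ((s : G) * σ s) * ((s : G) * (σ s)⁻¹) = (s : G) * s := fun s => by
          rw [(c s.2 (hσE s s.2)).eq, mul_assoc, ← mul_assoc (s : G) s,
            (c (mul_mem s.2 s.2) (inv_mem (hσE s s.2))).eq, mul_inv_cancel_left]
        rw [← l x, ← l y, e1, e2]
      have h3 : ((y : G)⁻¹ * x) * ((y : G)⁻¹ * x) = 1 := by
        rw [mul_assoc, ← mul_assoc (x : G), (c x.2 (inv_mem y.2)).eq, mul_assoc, ← mul_assoc (y : G)⁻¹, hx2]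
        group
      exact Subtype.ext (inv_mul_eq_one.1 (hsq1 _ (mul_mem (inv_mem y.2) x.2) h3)).symm
    have h1 := Nat.card_le_card_of_injective T hT
    have h2 : Nat.card {x : G // x ∈ E ∧ σ x = x} * Nat.card {x : G // x ∈ E ∧ σ x = x⁻¹} ≤ Nat.card E := by
      rw [← Nat.card_prod]
      refine Nat.card_le_card_of_injective (fun z => (⟨z.1.1 * z.2.1, mul_mem z.1.2.1 z.2.2.1⟩ : E)) ?_
      rintro ⟨x, y⟩ ⟨x', y'⟩ e
      have e0 : (x : G) * y = x' * y' := congrArg Subtype.val e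
      have e1 : (x'.1)⁻¹ * x.1 = y'.1 * (y.1)⁻¹ := by
        calc (x'.1)⁻¹ * x.1 = (x'.1)⁻¹ * (x.1 * y.1) * (y.1)⁻¹ := by group
          _ = _ := by rw [e0]; group
      have e2 := congrArg σ e1
      rw [hσmul, hσmul, hσinv, hσinv, x.2.2, x'.2.2, y.2.2, y'.2.2, e1, inv_inv] at e2
      have e3 : (y'.1 * (y.1)⁻¹) * (y'.1 * (y.1)⁻¹) = 1 := by
        nth_rewrite 1 [e2]
        rw [show (y'.1)⁻¹ * y.1 = (y'.1 * (y.1)⁻¹)⁻¹ from by
          rw [mul_inv_rev, inv_inv]; exact R.comm _ (inv_mem y'.2.1) _ y.2.1]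
        group
      have e4 := hsq1 _ (mul_mem y'.2.1 (inv_mem y.2.1)) e3
      rw [e4] at e1
      exact Prod.ext (Subtype.ext (inv_mul_eq_one.1 e1).symm) (Subtype.ext (mul_inv_eq_one.1 e4).symm)
    rw [Nat.card_prod] at h1
    have h3 := le_antisymm h1 h2
    rw [← hcardeq, hcard, ← pow_two] at h3
    obtain ⟨i, -, hi⟩ := (Nat.dvd_prime_pow R.prime).1 (h3 ▸ dvd_pow_self _ two_ne_zero)
    rw [hi, ← pow_mul] at h3
    have := Nat.pow_right_injective R.prime.two_le h3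
    exact Nat.not_even_iff_odd.2 hm ⟨i, by omega⟩

end Cfsg.Lib.Wagner
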