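import Cfsg.Agent.Lib.Wagner.Descent
import Cfsg.Agent.Lib.Wagner.Endgame
import Cfsg.Agent.Lib.Wagner.LineCase
import Cfsg.Agent.S0885

/-!
# No symmetry: point stabilizers of odd order
-/

set_option autoImplicit false
set_option linter.unusedSectionVars false
set_option linter.style.haveILetI false

namespace Cfsg.Lib.Wagner

open MulAction Cfsg.Lib.Plane

universe u v

variable {G : Type u} [Group G] [Finite G] {Ω : Type v} [MulAction G Ω] {H : Subgroup G} (C : Ctx H Ω)
include C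

namespace Ctx

theorem one_lt_S2 {a b : Ω} (hab : a ≠ b) (hodd : Odd (Nat.card (S1 H a)))
    (heven : Even (Nat.card Ω)) : S2 H a b ≠ ⊥ := by
  classical
  intro hbot
  haveI := C.normal
  haveI := C.faithful
  haveI := C.finite
  haveI := Fintype.ofFinite Ω
  haveI := C.h_two
  set f := MulAction.toPermHom H Ω with hf
  haveI : IsMultiplyPretransitive f.range Ω 2 := by
    rw [is_two_pretransitive_iff]
    intro x y z w hxy hzw
    obtain ⟨h, hh, h1, h2⟩ := C.h_exists2 hxy hzw
    exact ⟨⟨f ⟨h, hh⟩, _, rfl⟩, h1, h2⟩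
  have hsharp : ∀ x : Fin 2 ↪ Ω, MulAction.stabilizer f.range x = ⊥ := by
    intro x
    rw [Subgroup.eq_bot_iff_forall]
    rintro ⟨_, h, rfl⟩ hx
    have h0 : (h : G) • x 0 = x 0 := congrArg (fun e : Fin 2 ↪ Ω => e 0) hx
    have h1 : (h : G) • x 1 = x 1 := congrArg (fun e : Fin 2 ↪ Ω => e 1) hx
    obtain ⟨g, hga, hgb⟩ := C.exists2 hab (fun e => absurd (x.injective e) (by decide) : x 0 ≠ x 1)
    have hm : (h : G) ∈ cj g (S2 H a b) := by
      rw [cj_S2, hga, hgb]; exact mem_S2.2 ⟨h.2, h0, h1⟩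
    rw [hbot, show cj g (⊥ : Subgroup G) = ⊥ from Subgroup.map_bot _, Subgroup.mem_bot] at hm
    refine Subtype.ext ?_
    show f h = 1
    rw [show h = 1 from Subtype.ext hm, map_one]
  obtain ⟨p, j, hp, hj, hn, -⟩ := Cfsg.Agent.Perm.sharpTwo_kernel f.range hsharp
    (by have := C.lt; rw [Nat.card_eq_fintype_card] at this; omega)
  rw [← Nat.card_eq_fintype_card] at hn
  have h3 := Nat.prime_three.dvd_of_dvd_pow (hn ▸ C.dvd3)
  have h2 := Nat.prime_two.dvd_of_dvd_pow (hn ▸ even_iff_two_dvd.1 heven)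
  rw [Nat.prime_dvd_prime_iff_eq Nat.prime_three hp] at h3
  rw [Nat.prime_dvd_prime_iff_eq Nat.prime_two hp] at h2
  omega

theorem caseOne (hT : ¬ Two H Ω) (hs : ¬ Sym H Ω) : False := by
  classical
  haveI := C.normal
  haveI := C.faithful
  haveI := C.finite
  haveI := Fintype.ofFinite Ω
  haveI : Fact (Nat.Prime 2) := ⟨Nat.prime_two⟩
  have heven : Even (Nat.card Ω) := by
    rw [← Nat.not_odd_iff_even]; exact fun h => hs (C.sym_of_odd h)
  obtain ⟨a⟩ := C.nonempty
  obtain ⟨b, hba, -⟩ := C.exists_third a a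
  have hab : a ≠ b := hba.symm
  have hoddA := C.odd_S1_of_not_sym hs a
  have hoddK : Odd (Nat.card (S2 H a b)) :=
    hoddA.of_dvd_nat (Subgroup.card_dvd_of_le (S2_le_S1 H a b))
  haveI : Group.IsSolvable (S1 H a) := Cfsg.Agent.S0205.result (G := S1 H a) hoddA
  obtain ⟨E, p, hEle, R⟩ := C.exists_regular (a := a) (N := S1 H a) (fun x hx => (mem_S1.1 hx).2)
    (fun g hg => by rw [cj_S1, hg]) (C.S1_ne_bot a)
  haveI : Fact p.Prime := ⟨R.prime⟩
  obtain ⟨m, hm⟩ := IsPGroup.iff_card.1 R.isPGroup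
  have hv : p ^ m = Nat.card Ω - 1 := by rw [← hm, R.card_eq hba]
  have hn4 := C.lt
  have h3n := C.dvd3
  have hp2 : p ≠ 2 := by
    intro e
    have hodd : Odd (p ^ m) := hm ▸ hoddA.of_dvd_nat (Subgroup.card_dvd_of_le hEle)
    rw [e] at hodd hv
    rcases Nat.eq_zero_or_pos m with rfl | hm0
    · rw [pow_zero] at hv; omega
    · exact Nat.not_odd_iff_even.2 (Nat.even_pow.2 ⟨even_two, hm0.ne'⟩) hodd
  have hmodd : Odd m := by
    rw [← Nat.not_even_iff_odd]
    rintro ⟨i, rfl⟩
    have hsq : (p ^ i * p ^ i) % 3 = (p ^ i % 3) * (p ^ i % 3) % 3 := Nat.mul_mod _ _ _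
    rw [← pow_add, hv] at hsq
    have hlt : p ^ i % 3 < 3 := Nat.mod_lt _ (by norm_num)
    interval_cases (p ^ i % 3) <;> omega
  by_cases hD : ∀ c : Ω, c ≠ a → c ≠ b → S3 H a b c = ⊥
  · -- a Zassenhaus group
    haveI hfaith : FaithfulSMul H Ω :=
      ⟨fun {x y} h => Subtype.ext (FaithfulSMul.eq_of_smul_eq_smul (α := Ω) h)⟩
    have hthree : ∀ (g : H) (x y z : Ω), x ≠ y → y ≠ z → x ≠ z → g • x = x → g • y = y → g • z = z → g = 1 := by
      intro g x y z hxy hyz hxz gx gy gz
      obtain ⟨c, hca, hcb⟩ := C.exists_third a b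
      obtain ⟨k, hka, hkb, hkc⟩ := C.exists3 hab hca.symm hcb.symm hxy hxz hyz
      have hmem : (g : G) ∈ cj k (S3 H a b c) := by
        rw [cj_S3, hka, hkb, hkc]; exact mem_S3.2 ⟨g.2, gx, gy, gz⟩
      rw [hD c hca hcb, show cj k (⊥ : Subgroup G) = ⊥ from Subgroup.map_bot _, Subgroup.mem_bot] at hmem
      exact Subtype.ext hmem
    have hZ : Cfsg.IsZassenhausGroup H Ω := by
      refine ⟨hfaith, C.h_two, hthree, ?_, ?_⟩
      · obtain ⟨g, hg, hg1⟩ := (S2 H a b).bot_or_exists_ne_one.resolve_left (C.one_lt_S2 hab hoddA heven)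
        obtain ⟨hgH, hga, hgb⟩ := mem_S2.1 hg
        exact ⟨⟨g, hgH⟩, fun e => hg1 (congrArg Subtype.val e), a, b, hab, hga, hgb⟩
      · intro N hN hNt
        by_contra hreg
        push Not at hreg
        haveI := hN
        haveI := hNt
        have hcardN : Nat.card N = Nat.card Ω := by
          refine Nat.card_eq_of_bijective (fun g : N => g • a) ⟨fun g g' e => ?_, fun y => exists_smul_eq N a y⟩
          have : g⁻¹ * g' ∈ stabilizer N a := by
            show (g⁻¹ * g') • a = a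
            rw [mul_smul, inv_smul_eq_iff]
            exact e.symm
          rw [hreg a, Subgroup.mem_bot, inv_mul_eq_one] at this
          exact this
        haveI : Fact (Nat.Prime 3) := ⟨Nat.prime_three⟩
        obtain ⟨x, hx⟩ := exists_prime_orderOf_dvd_card' (G := N) 3 (hcardN ▸ h3n)
        obtain ⟨y, hy⟩ := exists_prime_orderOf_dvd_card' (G := N) 2 (hcardN ▸ even_iff_two_dvd.1 heven)
        have hmove : ∀ g : N, g ≠ 1 → g • a ≠ a := fun g hg e => hg (by
          have : g ∈ stabilizer N a := e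
          rwa [hreg a, Subgroup.mem_bot] at this)
        have hx1 : x ≠ 1 := fun e => by rw [e, orderOf_one] at hx; omega
        have hy1 : y ≠ 1 := fun e => by rw [e, orderOf_one] at hy; omega
        obtain ⟨h, hh, ha', hb'⟩ := C.h_exists2 (a := a) (b := x • a) (hmove x hx1).symm (hmove y hy1).symm
        set hH : H := ⟨h, hh⟩ with hHdef
        let c : N := ⟨hH * (x : H) * hH⁻¹, hN.conj_mem _ x.2 _⟩
        have hc : c • a = y • a := by
          show (h * ((x : H) : G) * h⁻¹) • a = y • a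
          rw [mul_smul, mul_smul, inv_smul_eq_iff.2 ha'.symm]
          exact hb'
        have hcy : c = y := by
          have : c⁻¹ * y ∈ stabilizer N a := by
            show (c⁻¹ * y) • a = a
            rw [mul_smul, inv_smul_eq_iff]
            exact hc.symm
          rw [hreg a, Subgroup.mem_bot, inv_mul_eq_one] at this
          exact this
        have h1 : orderOf c = orderOf x := by
          rw [← Subgroup.orderOf_coe, ← Subgroup.orderOf_coe x]
          exact Cfsg.Lib.Invol.orderOf_conj_eq hH (x : H)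
        rw [hcy, hx, hy] at h1
        omega
    have hE' : Nat.card (E.subgroupOf H) = Nat.card E :=
      Nat.card_congr (Subgroup.subgroupOfEquivOfLe (hEle.trans inf_le_left)).toEquiv
    have hKcard : Nat.card ↥(MulAction.stabilizer H a ⊓ MulAction.stabilizer H b : Subgroup H) =
        Nat.card (S2 H a b) :=
      Nat.card_congr ⟨fun g => ⟨(g.1 : G), mem_S2.2 ⟨g.1.2, g.2.1, g.2.2⟩⟩,
        fun g => ⟨⟨g.1, (mem_S2.1 g.2).1⟩, (mem_S2.1 g.2).2.1, (mem_S2.1 g.2).2.2⟩, fun _ => rfl, fun _ => rfl⟩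
    have hnm : Fintype.card Ω = (Nat.card Ω - 1) + 1 := by
      rw [← Nat.card_eq_fintype_card]; omega
    rcases Cfsg.Agent.S0885.result hZ hab (Nat.card Ω - 1) (Nat.card (S2 H a b)) hnm hKcard hoddK
      (E.subgroupOf H) (fun g hg => (mem_S1.1 (hEle (Subgroup.mem_subgroupOf.1 hg))).2)
      (by rw [hE', R.card_eq hba, hnm])
      (fun g hg hg1 c hc => by
        by_contra hca
        exact hg1 (Subtype.ext (R.free g (Subgroup.mem_subgroupOf.1 hg) c hca hc))) with h | ⟨h2, -⟩
    · obtain ⟨c, hca, hcb⟩ := C.exists_third a b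
      refine hT (C.two_of_large hab hca hcb ?_)
      rw [C.card_S2_eq a b c, hD c hca hcb, Subgroup.card_bot, mul_one] at h
      omega
    · obtain ⟨k, hk⟩ := IsPGroup.iff_card.1 h2
      rw [hE', hm] at hk
      rcases Nat.eq_zero_or_pos k with rfl | hk0
      · rw [hv] at hk; omega
      · have hd : 2 ∣ p ^ m := hk ▸ dvd_pow_self 2 hk0.ne'
        exact hp2 ((Nat.prime_dvd_prime_iff_eq Nat.prime_two R.prime).1 (Nat.prime_two.dvd_of_dvd_pow hd)).symm
  push Not at hD
  obtain ⟨c₀, hc₀a, hc₀b, hD₀⟩ := hD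
  set P := stabilizer G a ⊓ stabilizer G b with hP
  have hPeven : 2 ∣ Nat.card P := by
    have h1 := card_orb_mul P c₀
    rw [show orb P c₀ = ({a, b} : Set Ω)ᶜ from ?_, Nat.card_coe_set_eq, Set.ncard_compl,
      Set.ncard_pair hab] at h1
    · rw [← h1]
      exact Dvd.dvd.mul_right (by obtain ⟨i, hi⟩ := heven; omega) _
    ext y
    constructor
    · rintro ⟨k, hk, rfl⟩ h
      obtain ⟨hk1, hk2⟩ := Subgroup.mem_inf.1 hk
      rcases h with h | h
      · exact hc₀a (MulAction.injective k (h.trans (mem_stabilizer_iff.1 hk1).symm))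
      · exact hc₀b (MulAction.injective k (h.trans (mem_stabilizer_iff.1 hk2).symm))
    · intro hy
      simp only [Set.mem_compl_iff, Set.mem_insert_iff, Set.mem_singleton_iff, not_or] at hy
      obtain ⟨k, hk1, hk2, hk3⟩ := C.exists_move hab hc₀a hc₀b hy.1 hy.2
      exact ⟨k, ⟨hk1, hk2⟩, hk3⟩
  obtain ⟨u, hu⟩ := exists_prime_orderOf_dvd_card' (G := P) 2 hPeven
  rw [← Subgroup.orderOf_coe] at hu
  have hua : (u : G) • a = a := (Subgroup.mem_inf.1 u.2).1
  have hub : (u : G) • b = b := (Subgroup.mem_inf.1 u.2).2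
  exact hT (C.endgame hab hoddA heven hu hua hub
    (R.involution_fix C hab hp2 hm hmodd hoddK hc₀a hc₀b hD₀ hu hua hub)).2

end Ctx

end Cfsg.Lib.Wagner
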