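import Cfsg.Agent.Lib.Wagner.Square
import Cfsg.Agent.Lib.Core.Basic

/-!
# The bad element fixes no point of the fixed set of `Y`
-/

set_option autoImplicit false
set_option linter.unusedSectionVars false
set_option linter.style.haveILetI false

namespace Cfsg.Lib.Wagner

open MulAction Cfsg.Lib.Plane

universe u v

/-- If `o x` and `q` fix a point, `o` in a normal group of odd order, then `x` and `q` fix a common point. -/
theorem exists_common_fix {G : Type u} [Group G] [Finite G] {Ω : Type v} [MulAction G Ω] {O : Subgroup G}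
    (hO : Odd (Nat.card O)) {x q o : G} (hx : x * x = 1) (hq : q * q = 1) (hxq : x * q = q * x)
    (hnx : ∀ g ∈ O, x * g * x⁻¹ ∈ O) (hnq : ∀ g ∈ O, q * g * q⁻¹ ∈ O) (ho : o ∈ O) {c : Ω}
    (hp : (o * x) • c = c) (hqc : q • c = c) : ∃ k ∈ O, x • (k • c) = k • c ∧ q • (k • c) = k • c := by
  have hxi : x⁻¹ = x := inv_eq_of_mul_eq_one_right hx
  have hqi : q⁻¹ = q := inv_eq_of_mul_eq_one_right hq
  set p := o * x with hp'
  set d := q * p * q⁻¹ * p⁻¹ with hd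
  have hd' : d = (q * o * q⁻¹) * o⁻¹ := by
    calc d = q * o * (x * q⁻¹) * x⁻¹ * o⁻¹ := by rw [hd, hp']; group
      _ = (q * o * q⁻¹) * o⁻¹ := by rw [hqi, hxq]; group
  have hdO : d ∈ O := hd' ▸ mul_mem (hnq o ho) (inv_mem ho)
  have hdc : d • c = c := by
    simp only [hd, mul_smul, inv_smul_eq_iff.2 hp.symm, inv_smul_eq_iff.2 hqc.symm, hp, hqc]
  have hqd : q * d * q⁻¹ = d⁻¹ := by
    calc q * d * q⁻¹ = (q * q) * o * (q⁻¹ * q⁻¹) * (q * o * q⁻¹)⁻¹ := by rw [hd']; group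
      _ = d⁻¹ := by rw [hd', mul_inv_rev (q * o * q⁻¹), inv_inv, show q⁻¹ * q⁻¹ = 1 by rw [hqi, hq], hq, one_mul, mul_one]
  set r := rt d with hr
  have hrO : r ∈ O := rt_mem hdO
  have hrc : r • c = c := mem_stabilizer_iff.1 (rt_mem (K := stabilizer G c) (mem_stabilizer_iff.2 hdc))
  have hqr : q * r * q⁻¹ = r⁻¹ := by rw [hr, ← rt_conj, hqd, rt_inv]
  have hrr : r * r = d := rt_sq (odd_orderOf_mem hO hdO)
  set p' := r * p with hp1
  have hqp' : q * p' * q⁻¹ = p' := by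
    calc q * p' * q⁻¹ = (q * r * q⁻¹) * (q * p * q⁻¹ * p⁻¹) * p := by rw [hp1]; group
      _ = p' := by rw [hqr, ← hd, ← hrr, hp1]; group
  set e := p' * p' with he
  have he' : e = r * o * (x * (r * o) * x⁻¹) := by rw [he, hp1, hp', hxi]; simp only [mul_assoc]
  have heO : e ∈ O := he' ▸ mul_mem (mul_mem hrO ho) (hnx _ (mul_mem hrO ho))
  have hec : e • c = c := by simp only [he, hp1, mul_smul, hp, hrc]
  set e0 := rt e with he0
  have he0O : e0 ∈ O := rt_mem heO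
  have he0c : e0 • c = c := mem_stabilizer_iff.1 (rt_mem (K := stabilizer G c) (mem_stabilizer_iff.2 hec))
  have he0sq : e0 * e0 = e := rt_sq (odd_orderOf_mem hO heO)
  have hqe0 : q * e0 * q⁻¹ = e0 := by
    rw [he0, ← rt_conj]
    congr 1
    calc q * e * q⁻¹ = (q * p' * q⁻¹) * (q * p' * q⁻¹) := by rw [he]; group
      _ = e := by rw [hqp']
  have hp'e0 : p' * e0 * p'⁻¹ = e0 := by
    rw [he0, ← rt_conj, he]
    congr 1
    group
  set p'' := e0⁻¹ * p' with hp''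
  have hp''2 : p'' * p'' = 1 := by
    calc p'' * p'' = e0⁻¹ * (p' * e0 * p'⁻¹)⁻¹ * (p' * p') := by rw [hp'']; group
      _ = 1 := by rw [hp'e0, ← he, ← he0sq]; group
  set o1 := e0⁻¹ * r * o with ho1
  have ho1O : o1 ∈ O := mul_mem (mul_mem (inv_mem he0O) hrO) ho
  have ho1x : p'' = o1 * x := by rw [hp'', hp1, hp', ho1]; group
  have hqo1 : q * o1 * q⁻¹ = o1 := by
    have h1 : q * p'' * q⁻¹ = p'' := by
      calc q * p'' * q⁻¹ = (q * e0 * q⁻¹)⁻¹ * (q * p' * q⁻¹) := by rw [hp'']; group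
        _ = p'' := by rw [hqe0, hqp']
    have h2 : q * o1 * q⁻¹ = (q * p'' * q⁻¹) * (q * x * q⁻¹)⁻¹ := by rw [ho1x]; group
    rw [h2, h1, show q * x * q⁻¹ = x by rw [← hxq, mul_inv_cancel_right], ho1x, mul_inv_cancel_right]
  have hxo1 : x * o1 * x⁻¹ = o1⁻¹ := by
    rw [ho1x] at hp''2
    rw [hxi, ← mul_left_cancel_iff (a := o1), mul_inv_cancel, ← mul_assoc, ← mul_assoc]
    exact (mul_assoc _ _ _).trans hp''2
  set s := rt o1 with hs
  have hsO : s ∈ O := rt_mem ho1O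
  have hss : s * s = o1 := rt_sq (odd_orderOf_mem hO ho1O)
  have hxs : x * s * x⁻¹ = s⁻¹ := by rw [hs, ← rt_conj, hxo1, rt_inv]
  have hqs : q * s * q⁻¹ = s := by rw [hs, ← rt_conj, hqo1]
  have hp''c : p'' • c = c := by simp only [hp'', hp1, mul_smul, hp, hrc, inv_smul_eq_iff.2 he0c.symm]
  refine ⟨s⁻¹, inv_mem hsO, ?_, ?_⟩
  · calc x • s⁻¹ • c = (x * s⁻¹ * x⁻¹) • x • c := by rw [mul_smul, mul_smul, inv_smul_smul]
      _ = s⁻¹ • (o1 * x) • c := by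
          rw [show x * s⁻¹ * x⁻¹ = (x * s * x⁻¹)⁻¹ by group, hxs, ← mul_smul, ← mul_smul, inv_inv, ← hss]
          group
      _ = s⁻¹ • c := by rw [← ho1x, hp''c]
  · have hqs' : q * s⁻¹ = s⁻¹ * q := by
      have : q * s⁻¹ * q⁻¹ = s⁻¹ := by rw [show q * s⁻¹ * q⁻¹ = (q * s * q⁻¹)⁻¹ by group, hqs]
      exact mul_inv_eq_iff_eq_mul.1 this
    rw [← mul_smul, hqs', mul_smul, hqc]

variable {G : Type u} [Group G] [Finite G] {Ω : Type v} [MulAction G Ω]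

namespace Frame0

variable {H : Subgroup G} {a b : Ω} {P W : Subgroup G} (F : Frame0 H a b P W)
include F

theorem three_pair : ¬ 3 ∣ Nat.card (pairStab H a b) := by
  haveI : Fact (Nat.Prime 3) := ⟨Nat.prime_three⟩
  intro h
  obtain ⟨g, hg⟩ := exists_prime_orderOf_dvd_card' (G := pairStab H a b) 3 h
  obtain ⟨hgH, hgp⟩ := mem_pairStab.1 g.2
  have hord : orderOf (g : G) = 3 := by rw [Subgroup.orderOf_coe]; exact hg
  rcases hgp with ⟨h1, -⟩ | ⟨h1, h2⟩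
  · exact F.three a (hord ▸ Subgroup.orderOf_dvd_natCard _ (mem_S1.2 ⟨hgH, h1⟩))
  · have h3 : ((g : G) ^ 3) • a = b := by
      simp only [pow_succ, pow_zero, one_mul, mul_smul, h1, h2]
    rw [← hord, pow_orderOf_eq_one, one_smul] at h3
    exact F.ne h3

end Frame0

namespace Big

variable {H : Subgroup G} {a b : Ω} {P W : Subgroup G} (B : Big H a b P W)
variable {T0 : Subgroup G} (D : TData H a b W T0)
variable {X₁ X₂ : Subgroup G} {e₁ e₂ w : G} (Q : Sq4 H a b W T0 X₁ X₂ e₁ e₂ w)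
include B D Q

/-- Every point of the fixed set of `Y` is moved to a hyperplane's fixed set by an element centralizing `Y`. -/
theorem to_hyper {c : Ω} (hc : c ∈ fx (X₁ ⊓ X₂) Ω) (hca : c ≠ a) (hcb : c ≠ b) :
    ∃ θ ∈ S2 H a b, (∀ y ∈ X₁ ⊓ X₂, θ * y = y * θ) ∧ ∃ K, Good W K a b ∧ X₁ ⊓ X₂ ≤ K ∧ θ • c ∈ fx K Ω := by
  haveI : Fact (Nat.Prime 2) := ⟨Nat.prime_two⟩
  haveI := B.ctx.normal
  have F := B.frame
  set Y := X₁ ⊓ X₂ with hY
  have hYW : Y ≤ W := B.Y_le D Q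
  obtain ⟨c₁, hc₁, hc₁a, hc₁b⟩ := Q.good₁.fix
  obtain ⟨g, hga, hgb, hgc⟩ := B.ctx.exists_move F.ne hc₁a hc₁b hca hcb
  obtain ⟨h, hh, -, hhW⟩ := F.exists_pair_conj (Or.inl ⟨hga, hgb⟩)
  have hgW : cj g W = cj h⁻¹ W := by
    conv_rhs => rw [← hhW]
    rw [cj_cj, inv_mul_cancel_left]
  have hYS3 : Y ≤ S3 H a b c := le_inf (hYW.trans F.W_le_S2) (mem_fx_iff_le.1 hc)
  obtain ⟨Q', hQ', hYQ⟩ := exists_isSyl_ge 2 (F.W_pgroup.to_le hYW) hYS3
  have hXS3 : cj g X₁ ≤ S3 H a b c := by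
    have h1 := cj_mono (g := g) (show X₁ ≤ S3 H a b c₁ from
      le_inf (Q.good₁.le.trans F.W_le_S2) (mem_fx_iff_le.1 hc₁))
    rwa [cj_S3, hga, hgb, hgc] at h1
  obtain ⟨d, hd, hdle⟩ := exists_cj_le hQ' (cj_pgroup (F.W_pgroup.to_le Q.good₁.le)) hXS3
  obtain ⟨k, hk, hkP⟩ := exists_cj_le F.syl hQ'.isPGroup (hQ'.le.trans (S3_le_S2 H a b c))
  obtain ⟨hdH, hda, hdb, hdc⟩ := mem_S3.1 hd
  obtain ⟨hkH, hka, hkb⟩ := mem_S2.1 hk
  have hk1 : k ∈ S1 H a := S2_le_S1 H a b hk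
  obtain ⟨n, hn, hnW, hnA⟩ := F.ctrl0 (Y : Set G) (hYW.trans F.le) k hk1 fun y hy => hkP (conj_mem_cj (hYQ hy))
  have hn2 := F.normalizer_fix hn hnW
  obtain ⟨hnH, hna, hnb⟩ := mem_S2.1 hn2
  -- the hyperplane
  set K := cj (k * d * g) X₁ with hK
  have hKW : K ≤ W := by
    intro y hy
    have hmem : k * d * h⁻¹ ∈ S1 H a :=
      mul_mem (mul_mem hk1 (S2_le_S1 H a b (S3_le_S2 H a b c hd))) (inv_mem (S2_le_S1 H a b hh))
    have hy' : (k * d * h⁻¹)⁻¹ * y * (k * d * h⁻¹) ∈ W := by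
      have h1 : y ∈ cj (k * d) (cj g W) := by
        rw [cj_cj]; exact cj_mono Q.good₁.le hy
      rw [hgW, cj_cj, mem_cj] at h1
      exact h1
    have hyP : y ∈ P := by
      refine hkP ?_
      have h2 : cj (k * d * g) X₁ ≤ cj k Q' := by
        rw [mul_assoc, ← cj_cj]
        refine cj_mono ?_
        rw [← cj_cj]
        exact hdle
      exact h2 hy
    have := F.strong F.syl.isPGroup F.sylA.le F.le hmem hy' (by
      rwa [show k * d * h⁻¹ * ((k * d * h⁻¹)⁻¹ * y * (k * d * h⁻¹)) * (k * d * h⁻¹)⁻¹ = y by group])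
    rwa [show k * d * h⁻¹ * ((k * d * h⁻¹)⁻¹ * y * (k * d * h⁻¹)) * (k * d * h⁻¹)⁻¹ = y by group] at this
  have hkc : k • c ≠ a ∧ k • c ≠ b := F.pair_fix (Or.inl ⟨hka, hkb⟩) hca hcb
  have hKfix : k • c ∈ fx K Ω := by
    rw [hK, mem_fx_cj, mul_inv_rev, mul_inv_rev, mul_smul, mul_smul, inv_smul_smul,
      inv_smul_eq_iff.2 hdc.symm, inv_smul_eq_iff.2 hgc.symm]
    exact hc₁
  have hKg : Good W K a b := ⟨hKW, by rw [hK, card_cj]; exact Q.good₁.card, k • c, hKfix, hkc⟩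
  have hKeq := F.good_eq hKg hKfix hkc.1 hkc.2
  have hnW' : cj n⁻¹ W = W := by
    conv_lhs => rw [← hnW]
    rw [cj_cj, inv_mul_cancel, cj_one]
  refine ⟨n⁻¹ * k, mul_mem (inv_mem hn2) hk, fun y hy => ?_, cj n⁻¹ K,
    F.good_map hnW' (Or.inl ⟨inv_smul_eq_iff.2 hna.symm, inv_smul_eq_iff.2 hnb.symm⟩) hKg, ?_, ?_⟩
  · have e := hnA y hy
    calc n⁻¹ * k * y = n⁻¹ * (k * y * k⁻¹) * k := by group
      _ = n⁻¹ * (n * y * n⁻¹) * k := by rw [e]
      _ = y * (n⁻¹ * k) := by group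
  · intro y hy
    rw [mem_cj, inv_inv, hnA y hy, ← hKeq]
    refine Subgroup.mem_inf.2 ⟨?_, ?_⟩
    · refine F.strong F.syl.isPGroup F.sylA.le F.le hk1 (hYW hy) (hkP (conj_mem_cj (hYQ hy)))
    · show (k * y * k⁻¹) • k • c = k • c
      rw [mul_smul, mul_smul, inv_smul_smul, hc y hy]
  · rw [mem_fx_cj, inv_inv, mul_smul, smul_inv_smul]
    exact hKfix

/-- The bad element fixes no point of the fixed set of `Y`. -/
theorem u3_free {c : Ω} (hc : c ∈ fx (X₁ ⊓ X₂) Ω) : (w * (e₁ * e₂)) • c ≠ c := by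
  classical
  haveI : Fact (Nat.Prime 2) := ⟨Nat.prime_two⟩
  haveI := B.ctx.normal
  haveI := B.ctx.finite
  have F := B.frame
  obtain ⟨h1W, h2W, h3W⟩ := B.e_memW D Q
  obtain ⟨hu, huW⟩ := B.W_mul D Q.w_mem Q.w_not h3W
  set u := w * (e₁ * e₂) with hu_def
  set Y := X₁ ⊓ X₂ with hY
  have hYW : Y ≤ W := B.Y_le D Q
  intro huc
  obtain ⟨hua, hub⟩ := B.T0_swap D hu huW
  have hca : c ≠ a := fun e => F.ne (by rw [← hua, ← e, huc, e])
  have hcb : c ≠ b := fun e => F.ne.symm (by rw [← hub, ← e, huc, e])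
  set CM := pairStab H a b ⊓ Subgroup.centralizer (Y : Set G) with hCM
  have hCMN : CM ≤ Subgroup.normalizer (Y : Set G) := inf_le_right.trans (centralizer_le_normalizer' Y)
  have hT0CM : T0 ≤ CM := le_inf (D.syl.le.trans inf_le_left)
    fun t ht => Subgroup.mem_centralizer_iff.2 fun y hy => B.T0_comm D (D.le (hYW hy)) ht
  obtain ⟨S, hS, hT0S⟩ := exists_isSyl_ge 2 D.syl.isPGroup hT0CM
  have hWS : W ≤ S := D.le.trans hT0S
  have hYR : ∀ y ∈ Y, y ∈ S ⊓ S2 H a b := fun y hy => Subgroup.mem_inf.2 ⟨hWS (hYW hy), F.W_le_S2 (hYW hy)⟩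
  obtain ⟨ts, hts, htsW⟩ := B.exists_swap_mem D
  obtain ⟨htsa, htsb⟩ := B.T0_swap D hts htsW
  have hfus0 : ∀ v ∈ W, ∀ g ∈ CM, g • a = a ∧ g • b = b → g * v * g⁻¹ ∈ S →
      ∃ n ∈ CM, cj n W = W ∧ n * v * n⁻¹ = g * v * g⁻¹ := by
    intro v hv g hg hgab hgv
    obtain ⟨hgp, hgC⟩ := Subgroup.mem_inf.1 hg
    have hgS : g ∈ S2 H a b := mem_S2.2 ⟨(mem_pairStab.1 hgp).1, hgab⟩
    have hgv2 : g * v * g⁻¹ ∈ S ⊓ S2 H a b :=
      Subgroup.mem_inf.2 ⟨hgv, mul_mem (mul_mem hgS (F.W_le_S2 hv)) (inv_mem hgS)⟩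
    obtain ⟨n, hn, hnW, hnA⟩ := F.ctrl (R := S ⊓ S2 H a b) (hS.isPGroup.to_le inf_le_left)
      (inf_le_right.trans (S2_le_S1 H a b)) (le_inf hWS F.W_le_S2) (A := insert v (Y : Set G))
      (Set.insert_subset (Subgroup.mem_inf.2 ⟨hWS hv, F.W_le_S2 hv⟩) hYR) (S2_le_S1 H a b hgS) (by
        rintro x (rfl | hx)
        · exact hgv2
        · rw [← (Subgroup.mem_centralizer_iff.1 hgC x hx), mul_inv_cancel_right]
          exact hYR x hx)
    refine ⟨n, Subgroup.mem_inf.2 ⟨S2_le_pairStab H a b (F.normalizer_fix hn hnW),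
      Subgroup.mem_centralizer_iff.2 fun y hy => ?_⟩, hnW, hnA v (Set.mem_insert _ _)⟩
    have h := hnA y (Set.mem_insert_of_mem _ hy)
    rw [← (Subgroup.mem_centralizer_iff.1 hgC y hy), mul_inv_cancel_right, mul_inv_eq_iff_eq_mul] at h
    exact h.symm
  have hfus : ∀ v ∈ W, ∀ g ∈ CM, g * v * g⁻¹ ∈ S → ∃ n ∈ CM, cj n W = W ∧ n * v * n⁻¹ = g * v * g⁻¹ := by
    intro v hv g hg hgv
    rcases (mem_pairStab.1 (Subgroup.mem_inf.1 hg).1).2 with h | h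
    · exact hfus0 v hv g hg h hgv
    · obtain ⟨n, hn, hnW, hnv⟩ := hfus0 v hv (ts * g) (mul_mem (hT0CM hts) hg)
        ⟨by rw [mul_smul, h.1, htsb], by rw [mul_smul, h.2, htsa]⟩
        (by rw [show ts * g * v * (ts * g)⁻¹ = ts * (g * v * g⁻¹) * ts⁻¹ by group]
            exact mul_mem (mul_mem (hT0S hts) hgv) (inv_mem (hT0S hts)))
      refine ⟨ts⁻¹ * n, mul_mem (inv_mem (hT0CM hts)) hn, ?_, ?_⟩
      · rw [← cj_cj, hnW]
        exact cj_of_commute fun y hy => B.T0_comm D (inv_mem hts) (D.le hy)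
      · calc ts⁻¹ * n * v * (ts⁻¹ * n)⁻¹ = ts⁻¹ * (n * v * n⁻¹) * ts := by group
          _ = g * v * g⁻¹ := by rw [hnv]; group
  have h4 : ∃ W₀ : Subgroup G, W₀ ≤ W ∧ Nat.card W ≤ 4 * Nat.card W₀ ∧ fx Y Ω ⊆ fx W₀ Ω :=
    ⟨Y, hYW, (B.card_Y D Q).ge, le_rfl⟩
  obtain ⟨O, hOA, hOodd, hOinv, hOmax, hOV, hVsyl⟩ := img_core hCMN
    (fun h => F.three_pair (h.trans (Subgroup.card_dvd_of_le inf_le_left))) hS hWS F.sq h4 hfus
  set A := img Y Ω CM with hA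
  set V := img Y Ω W with hV
  set C2 := S2 H a b ⊓ Subgroup.centralizer (Y : Set G) with hC2
  have hC2CM : C2 ≤ CM := inf_le_inf_right _ (S2_le_pairStab H a b)
  have hWC2 : W ≤ C2 := le_inf F.W_le_S2 fun x hx => Subgroup.mem_centralizer_iff.2 fun y hy =>
    F.comm y (hYW hy) x hx
  have hWN : W ≤ Subgroup.normalizer (Y : Set G) := hWC2.trans (hC2CM.trans hCMN)
  set ι : G → Equiv.Perm ↥(fxSub Y Ω) := fun g => if hg : g ∈ CM then fxHom Y Ω ⟨g, hCMN hg⟩ else 1 with hι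
  have hιd : ∀ g (hg : g ∈ CM), ι g = fxHom Y Ω ⟨g, hCMN hg⟩ := fun g hg => dif_pos hg
  have hιv : ∀ g (_ : g ∈ CM) (x : ↥(fxSub Y Ω)), ((ι g x : ↥(fxSub Y Ω)) : Ω) = g • (x : Ω) :=
    fun g hg x => by rw [hιd g hg]; rfl
  have hιA : ∀ g, g ∈ CM → ι g ∈ A := fun g hg => by rw [hιd g hg]; exact mem_img_of hg _
  have hOnorm : ∀ g, g ∈ CM → ∀ o ∈ O, ι g * o * (ι g)⁻¹ ∈ O := fun g hg o ho => by
    have h := hOinv (ι g) (cj_eq_self fun τ hτ => mul_mem (mul_mem (hιA g hg) hτ) (inv_mem (hιA g hg)))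
    rw [← h]; exact conj_mem_cj ho
  have ha : a ∈ fx Y Ω := fun y hy => F.mem_fa y (hYW hy)
  have hb : b ∈ fx Y Ω := fun y hy => F.mem_fb y (hYW hy)
  have hιmul : ∀ g k, g ∈ CM → k ∈ CM → ι (g * k) = ι g * ι k := fun g k hg hk => by
    rw [hιd g hg, hιd k hk, hιd _ (mul_mem hg hk)]
    exact map_mul (fxHom Y Ω) ⟨g, hCMN hg⟩ ⟨k, hCMN hk⟩
  have hιinv : ∀ g, g ∈ CM → ι g⁻¹ = (ι g)⁻¹ := fun g hg => by
    rw [hιd g hg, hιd _ (inv_mem hg)]
    exact map_inv (fxHom Y Ω) ⟨g, hCMN hg⟩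
  have hι1 : ι 1 = 1 := by rw [hιd 1 (one_mem _)]; exact map_one (fxHom Y Ω)
  have hιconj : ∀ g k, g ∈ CM → k ∈ CM → ι g * ι k * (ι g)⁻¹ = ι (g * k * g⁻¹) := fun g k hg hk => by
    rw [hιmul (g * k) g⁻¹ (mul_mem hg hk) (inv_mem hg), hιmul g k hg hk, hιinv g hg]
  have hιsq : ∀ g, g ∈ CM → g * g = 1 → ι g * ι g = 1 := fun g hg e => by rw [← hιmul g g hg hg, e, hι1]
  have hιmem : ∀ (K : Subgroup G) g, g ∈ CM → g ∈ K → ι g ∈ img Y Ω K := fun K g hg hgK => by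
    rw [hιd g hg]; exact mem_img_of hgK _
  -- the odd core is induced by elements fixing `a` and `b`
  have hOlift : ∀ o ∈ O, ∃ g, ∃ hg : g ∈ C2, o = ι g := by
    intro o ho
    obtain ⟨g, hgn, hg, e⟩ := exists_of_mem_img (hOA ho)
    obtain ⟨hgp, hgC⟩ := Subgroup.mem_inf.1 hg
    refine ⟨g, Subgroup.mem_inf.2 ⟨mem_S2.2 ⟨(mem_pairStab.1 hgp).1, ?_⟩, hgC⟩, by rw [hιd g hg]; exact e⟩
    rcases (mem_pairStab.1 hgp).2 with h | h
    · exact h
    exfalso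
    obtain ⟨j, hj⟩ := hOodd.of_dvd_nat (Subgroup.orderOf_dvd_natCard O ho)
    have hga : (⟨a, ha⟩ : ↥(fxSub Y Ω)) = o (o ⟨a, ha⟩) := by
      rw [e]; exact Subtype.ext (by simp only [fxHom_apply, h.1, h.2])
    have h2 : (o * o) ⟨a, ha⟩ = (⟨a, ha⟩ : ↥(fxSub Y Ω)) := hga.symm
    have hpow : ∀ i : ℕ, ((o * o) ^ i) ⟨a, ha⟩ = (⟨a, ha⟩ : ↥(fxSub Y Ω)) := fun i => by
      induction i with
      | zero => rfl
      | succ i ih => rw [pow_succ, Equiv.Perm.mul_apply, h2, ih]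
    have h3 : (o ^ orderOf o) ⟨a, ha⟩ = (⟨a, ha⟩ : ↥(fxSub Y Ω)) := by rw [pow_orderOf_eq_one]; rfl
    rw [hj, pow_succ', pow_mul, pow_two, Equiv.Perm.mul_apply, hpow j, e] at h3
    exact F.ne ((congrArg Subtype.val h3).symm.trans h.1)
  -- decomposition of the elements fixing `a` and `b`
  have hdec : ∀ θ (hθ : θ ∈ C2), ∃ o ∈ O, ∃ v, ∃ hv : v ∈ W, ∃ n, ∃ hn : n ∈ C2, cj n W = W ∧
      ι θ = o * ι v * ι n := by
    intro θ hθ
    set σ := ι θ with hσ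
    obtain ⟨l, hl, hlV⟩ := exists_cj_eq hVsyl (show IsSyl 2 (cj σ V) (O ⊔ V) by
      rw [← hOV σ (hιA θ (hC2CM hθ))]; exact isSyl_cj hVsyl σ)
    rw [cj_cj] at hlV
    have hVn : V ≤ Subgroup.normalizer (O : Set (Equiv.Perm ↥(fxSub Y Ω))) := fun p hp => by
      obtain ⟨g, hgn, hg, rfl⟩ := exists_of_mem_img hp
      exact mem_normalizer_iff_cj.2 (cj_eq_self fun o ho => by
        have h := hOnorm g (hC2CM (hWC2 hg)) o ho
        rwa [hιd g (hC2CM (hWC2 hg))] at h)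
    rw [sup_comm, ← SetLike.mem_coe, Subgroup.coe_mul_of_left_le_normalizer_right V O hVn] at hl
    obtain ⟨v, hv, o, ho, hlv⟩ := hl
    change v * o = l at hlv
    have hoV : cj (o * σ) V = V := by
      have h1 := hlV
      rw [← hlv, mul_assoc, ← cj_cj] at h1
      have h2 : cj v V = V := cj_eq_self fun x hx => mul_mem (mul_mem hv hx) (inv_mem hv)
      exact Subgroup.map_injective (MulAut.conj v).injective (h1.trans h2.symm)
    obtain ⟨go, hgo, ego⟩ := hOlift o ho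
    set θ1 := go * θ with hθ1
    have hθ1C : θ1 ∈ C2 := mul_mem hgo hθ
    have eθ1 : ι θ1 = o * σ := by rw [hιmul go θ (hC2CM hgo) (hC2CM hθ), ← ego]
    -- the preimage of `V`
    let L : Subgroup G :=
      { carrier := {g | ∃ hg : g ∈ C2, ι g ∈ V}
        one_mem' := ⟨one_mem C2, by rw [hι1]; exact one_mem V⟩
        mul_mem' := by
          rintro g k ⟨hg, hgV⟩ ⟨hk, hkV⟩
          exact ⟨mul_mem hg hk, by rw [hιmul g k (hC2CM hg) (hC2CM hk)]; exact mul_mem hgV hkV⟩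
        inv_mem' := by
          rintro g ⟨hg, hgV⟩
          exact ⟨inv_mem hg, by rw [hιinv g (hC2CM hg)]; exact inv_mem hgV⟩ }
    have hWL : W ≤ L := fun g hg => ⟨hWC2 hg, hιmem W g (hC2CM (hWC2 hg)) hg⟩
    obtain ⟨R, hR, hWR⟩ := exists_isSyl_ge 2 F.W_pgroup hWL
    have hconjL : cj θ1 W ≤ L := by
      rintro _ ⟨y, hy, rfl⟩
      refine ⟨mul_mem (mul_mem hθ1C (hWC2 hy)) (inv_mem hθ1C), ?_⟩
      rw [← hoV, ← eθ1]
      refine ⟨ι y, hιmem W y (hC2CM (hWC2 hy)) hy, ?_⟩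
      show ι θ1 * ι y * (ι θ1)⁻¹ = _
      rw [hιconj θ1 y (hC2CM hθ1C) (hC2CM (hWC2 hy))]
      rfl
    obtain ⟨k, ⟨hk, hkV⟩, hkle⟩ := exists_cj_le hR (cj_pgroup F.W_pgroup) hconjL
    rw [cj_cj] at hkle
    obtain ⟨vk, hvkn, hvk, evk⟩ := exists_of_mem_img hkV
    have hn : k * θ1 ∈ C2 := mul_mem hk hθ1C
    have hnW : cj (k * θ1) W = W := F.cj_eq_of_le hR.isPGroup
      (fun g hg => S2_le_S1 H a b (Subgroup.mem_inf.1 (hR.le hg).1).1) hWR
      (S2_le_S1 H a b (Subgroup.mem_inf.1 hn).1) hkle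
    refine ⟨o⁻¹, inv_mem ho, vk⁻¹, inv_mem hvk, k * θ1, hn, hnW, ?_⟩
    rw [hιmul k θ1 (hC2CM hk) (hC2CM hθ1C), eθ1, hιinv vk (hC2CM (hWC2 hvk)),
      show ι k = ι vk by rw [evk, hιd vk (hC2CM (hWC2 hvk))]]
    group
  -- the odd part of the centralizer of `W`
  set K0 := S2 H a b ⊓ Subgroup.centralizer (W : Set G) with hK0
  have hK0C2 : K0 ≤ C2 := inf_le_inf_left _ (Subgroup.centralizer_le hYW)
  have hWK0 : W ≤ K0 := le_inf F.W_le_S2 fun x hx => Subgroup.mem_centralizer_iff.2 fun y hy => F.comm y hy x hx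
  have hWsyl : IsSyl 2 W K0 := by
    obtain ⟨R, hR, hWR⟩ := exists_isSyl_ge 2 F.W_pgroup hWK0
    rwa [Subgroup.eq_of_le_of_card_ge hWR (B.card_le_W Q.good₁ hR.isPGroup (hR.le.trans inf_le_left)
      (hR.le.trans (inf_le_right.trans (Subgroup.centralizer_le Q.good₁.le))))]
  obtain ⟨R0, hR0K, hR0odd, hR0dec, hR0inv⟩ := exists_odd_part hWsyl
    fun y hy k hk => (Subgroup.mem_centralizer_iff.1 (Subgroup.mem_inf.1 hk).2 y hy).symm
  set R0b := img Y Ω R0 with hR0b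
  have hR0bA : R0b ≤ A := img_mono ((hR0K.trans hK0C2).trans hC2CM)
  have hR0bodd : Odd (Nat.card R0b) :=
    hR0odd.of_dvd_nat (card_img_dvd R0 (((hR0K.trans hK0C2).trans hC2CM).trans hCMN))
  have hR0conj : ∀ g (hg : g ∈ CM), cj g K0 = K0 → ∀ τ ∈ R0b, ι g * τ * (ι g)⁻¹ ∈ R0b := by
    intro g hg hgK τ hτ
    obtain ⟨r, hrn, hr, rfl⟩ := exists_of_mem_img hτ
    have hr' : g * r * g⁻¹ ∈ R0 := hR0inv g hgK ▸ conj_mem_cj hr
    have hrC : r ∈ CM := hC2CM (hK0C2 (hR0K hr))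
    rw [show fxHom Y Ω ⟨r, hrn⟩ = ι r from (hιd r hrC).symm, hιconj g r hg hrC]
    exact hιmem R0 _ (mul_mem (mul_mem hg hrC) (inv_mem hg)) hr'
  have hK0conj : ∀ g : G, cj g W = W → (g • a = a ∧ g • b = b) ∨ (g • a = b ∧ g • b = a) → cj g K0 = K0 := by
    intro g hgW hgab
    refine cj_eq_self fun k hk => ?_
    obtain ⟨hkS, hkC⟩ := Subgroup.mem_inf.1 hk
    refine Subgroup.mem_inf.2 ⟨?_, Subgroup.mem_centralizer_iff.2 fun y hy => ?_⟩
    · have h1 := conj_mem_cj (g := g) hkS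
      rw [cj_S2] at h1
      rcases hgab with ⟨g1, g2⟩ | ⟨g1, g2⟩
      · rwa [g1, g2] at h1
      · rwa [g1, g2, S2_comm] at h1
    · have hy' : g⁻¹ * y * g ∈ W := by rw [← mem_cj, hgW]; exact hy
      calc y * (g * k * g⁻¹) = g * ((g⁻¹ * y * g) * k) * g⁻¹ := by group
        _ = g * (k * (g⁻¹ * y * g)) * g⁻¹ := by rw [Subgroup.mem_centralizer_iff.1 hkC _ hy']
        _ = g * k * g⁻¹ * y := by group
  have hR0O : R0b ≤ O := by
    have hn : R0b ≤ Subgroup.normalizer (O : Set (Equiv.Perm ↥(fxSub Y Ω))) := fun τ hτ => by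
      obtain ⟨r, hrn, hr, rfl⟩ := exists_of_mem_img hτ
      exact mem_normalizer_iff_cj.2 (cj_eq_self fun o ho => by
        have h := hOnorm r (hC2CM (hK0C2 (hR0K hr))) o ho
        rwa [hιd r (hC2CM (hK0C2 (hR0K hr)))] at h)
    have hcoe : ∀ τ, τ ∈ O ⊔ R0b → ∃ o ∈ O, ∃ r ∈ R0b, τ = o * r := fun τ hτ => by
      rw [← SetLike.mem_coe, Subgroup.coe_mul_of_right_le_normalizer_left O R0b hn] at hτ
      obtain ⟨o, ho, r, hr, e⟩ := hτ
      exact ⟨o, ho, r, hr, e.symm⟩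
    refine le_trans le_sup_right (hOmax (O ⊔ R0b) (sup_le hOA hR0bA) ?_ fun σ hσ => ?_)
    · have h1 : Nat.card ↥(O ⊔ R0b) ∣ Nat.card O * Nat.card R0b := by
        set N := Subgroup.normalizer (O : Set (Equiv.Perm ↥(fxSub Y Ω))) with hN
        have h := Cfsg.Lib.Core.card_sup_dvd_mul (R0b.subgroupOf N) (O.subgroupOf N)
        rw [← Subgroup.subgroupOf_sup hn Subgroup.le_normalizer,
          Nat.card_congr (Subgroup.subgroupOfEquivOfLe (sup_le hn Subgroup.le_normalizer)).toEquiv,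
          Nat.card_congr (Subgroup.subgroupOfEquivOfLe hn).toEquiv,
          Nat.card_congr (Subgroup.subgroupOfEquivOfLe (Subgroup.le_normalizer : O ≤ N)).toEquiv] at h
        rwa [sup_comm, mul_comm]
      exact (hOodd.mul hR0bodd).of_dvd_nat h1
    · refine cj_eq_self fun τ hτ => ?_
      obtain ⟨o, ho, r, hr, rfl⟩ := hcoe τ hτ
      rw [show σ * (o * r) * σ⁻¹ = (σ * o * σ⁻¹) * (σ * r * σ⁻¹) by group]
      have hσO : σ * o * σ⁻¹ ∈ O := by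
        obtain ⟨g, hgn, hg, rfl⟩ := exists_of_mem_img hσ
        rw [← hιd g hg]
        exact hOnorm g hg o ho
      refine mul_mem (Subgroup.mem_sup_left hσO) ?_
      -- conjugation of the odd part
      obtain ⟨g, hgn, hg, rfl⟩ := exists_of_mem_img hσ
      rw [← hιd g hg]
      have key : ∀ θ (hθ : θ ∈ C2), ι θ * r * (ι θ)⁻¹ ∈ O ⊔ R0b := by
        intro θ hθ
        obtain ⟨o', ho', v, hv, n, hn', hnW, e⟩ := hdec θ hθ
        have h1 : ι n * r * (ι n)⁻¹ ∈ R0b := hR0conj n (hC2CM hn')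
          (hK0conj n hnW (Or.inl (mem_S2.1 (Subgroup.mem_inf.1 hn').1).2)) r hr
        have h2 := hR0conj v (hC2CM (hWC2 hv)) (hK0conj v
          (cj_eq_self fun y hy => mul_mem (mul_mem hv hy) (inv_mem hv))
          (Or.inl (mem_S2.1 (F.W_le_S2 hv)).2)) _ h1
        rw [e]
        rw [show o' * ι v * ι n * r *
            (o' * ι v * ι n)⁻¹ = o' * (ι v *
            (ι n * r * (ι n)⁻¹) * (ι v)⁻¹) * o'⁻¹ by group]
        exact mul_mem (mul_mem (Subgroup.mem_sup_left ho') (Subgroup.mem_sup_right h2))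
          (inv_mem (Subgroup.mem_sup_left ho'))
      obtain ⟨hgp, hgC⟩ := Subgroup.mem_inf.1 hg
      rcases (mem_pairStab.1 hgp).2 with h | h
      · exact key g (Subgroup.mem_inf.2 ⟨mem_S2.2 ⟨(mem_pairStab.1 hgp).1, h⟩, hgC⟩)
      · have hg' : ts * g ∈ C2 := Subgroup.mem_inf.2 ⟨mem_S2.2 ⟨mul_mem (B.T0_mem_H D hts) (mem_pairStab.1 hgp).1,
          by rw [mul_smul, h.1, htsb], by rw [mul_smul, h.2, htsa]⟩, mul_mem (Subgroup.mem_inf.1 (hT0CM hts)).2 hgC⟩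
        have h1 := key (ts * g) hg'
        have hts' : ι ts * ι ts = 1 := hιsq ts (hT0CM hts) (B.T0_sq D ts hts)
        obtain ⟨o1, ho1, r1, hr1, e1⟩ := hcoe _ h1
        have h2 := mul_mem (Subgroup.mem_sup_left (hOnorm ts (hT0CM hts) o1 ho1) : _ ∈ O ⊔ R0b)
          (Subgroup.mem_sup_right (hR0conj ts (hT0CM hts) (hK0conj ts
            (cj_of_commute fun y hy => B.T0_comm D hts (D.le hy)) (Or.inr ⟨htsa, htsb⟩)) r1 hr1))
        rw [show ι ts * o1 * (ι ts)⁻¹ * (ι ts * r1 * (ι ts)⁻¹) =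
            ι ts * (o1 * r1) * (ι ts)⁻¹ by group, ← e1, hιmul ts g (hT0CM hts) hg,
          show ι ts * (ι ts * ι g * r * (ι ts * ι g)⁻¹) *
            (ι ts)⁻¹ = (ι ts * ι ts) * (ι g * r * (ι g)⁻¹) *
              (ι ts * ι ts)⁻¹ by group, hts', one_mul, inv_one, mul_one] at h2
        exact h2
  -- the bad element is central modulo `O`
  set q3 := ι u with hq3
  have hq3W : ∀ v (hv : v ∈ W), ι v * q3 * (ι v)⁻¹ = q3 := fun v hv => by
    rw [hq3, hιconj v u (hC2CM (hWC2 hv)) (hT0CM hu), B.T0_comm D (D.le hv) hu, mul_inv_cancel_right]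
  have hcentral : ∀ θ (hθ : θ ∈ C2), ∃ o ∈ O,
      ι θ * q3 * (ι θ)⁻¹ = o * q3 := by
    intro θ hθ
    obtain ⟨o, ho, v, hv, n, hn, hnW, e⟩ := hdec θ hθ
    obtain ⟨hnS, hnC⟩ := Subgroup.mem_inf.1 hn
    obtain ⟨hnH, hna, hnb⟩ := mem_S2.1 hnS
    have hKWn : cj n (pairStab H a b ⊓ Subgroup.centralizer (W : Set G)) =
        pairStab H a b ⊓ Subgroup.centralizer (W : Set G) := by
      refine cj_eq_self fun z hz => ?_
      obtain ⟨hzp, hzc⟩ := Subgroup.mem_inf.1 hz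
      refine Subgroup.mem_inf.2 ⟨mul_mem (mul_mem (S2_le_pairStab H a b hnS) hzp)
        (inv_mem (S2_le_pairStab H a b hnS)), Subgroup.mem_centralizer_iff.2 fun y hy => ?_⟩
      have hy' : n⁻¹ * y * n ∈ W := by rw [← mem_cj, hnW]; exact hy
      calc y * (n * z * n⁻¹) = n * ((n⁻¹ * y * n) * z) * n⁻¹ := by group
        _ = n * (z * (n⁻¹ * y * n)) * n⁻¹ := by rw [Subgroup.mem_centralizer_iff.1 hzc _ hy']
        _ = n * z * n⁻¹ * y := by group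
    have h3 := isSyl_cj D.syl n
    rw [hKWn] at h3
    obtain ⟨l₁, hl₁, hlT⟩ := exists_cj_eq D.syl h3
    rw [cj_cj] at hlT
    obtain ⟨l, hl, hlT'⟩ : ∃ l ∈ K0, cj (l * n) T0 = T0 := by
      obtain ⟨hlp, hlc⟩ := Subgroup.mem_inf.1 hl₁
      rcases (mem_pairStab.1 hlp).2 with h1 | h1
      · exact ⟨l₁, Subgroup.mem_inf.2 ⟨mem_S2.2 ⟨(mem_pairStab.1 hlp).1, h1⟩, hlc⟩, hlT⟩
      · refine ⟨ts * l₁, Subgroup.mem_inf.2 ⟨mem_S2.2 ⟨mul_mem (B.T0_mem_H D hts) (mem_pairStab.1 hlp).1,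
          by rw [mul_smul, h1.1, htsb], by rw [mul_smul, h1.2, htsa]⟩,
          mul_mem (Subgroup.mem_inf.1 (D.syl.le hts)).2 hlc⟩, ?_⟩
        rw [mul_assoc, ← cj_cj, hlT]
        exact cj_eq_self fun y hy => mul_mem (mul_mem hts hy) (inv_mem hts)
    obtain ⟨hlS, hlC⟩ := Subgroup.mem_inf.1 hl
    obtain ⟨-, hla, hlb⟩ := mem_S2.1 hlS
    set m := l * n with hm
    have hmC : m ∈ C2 := mul_mem (hK0C2 hl) hn
    have hmW : cj m W = W := by
      rw [hm, ← cj_cj, hnW]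
      exact cj_of_commute fun y hy => (Subgroup.mem_centralizer_iff.1 hlC y hy).symm
    set u' := m * u * m⁻¹ with hu'
    have hu'T : u' ∈ T0 := hlT' ▸ conj_mem_cj hu
    have hu'W : u' ∉ W := fun h => huW (by
      have h' : u' ∈ cj m W := hmW.symm ▸ h
      rw [mem_cj, hu', show m⁻¹ * (m * u * m⁻¹) * m = u by group] at h'
      exact h')
    -- `u'` is bad for the three hyperplanes
    have hbad : ∀ {K : Subgroup G}, Good W K a b → Y ≤ K → ¬ Gd K Ω u' := by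
      intro K hK hYK hgd
      have hmW' : cj m⁻¹ W = W := by
        conv_lhs => rw [← hmW]
        rw [cj_cj, inv_mul_cancel, cj_one]
      obtain ⟨hmS, hmY⟩ := Subgroup.mem_inf.1 hmC
      obtain ⟨-, hma, hmb⟩ := mem_S2.1 hmS
      have hK' := F.good_map hmW' (Or.inl ⟨inv_smul_eq_iff.2 hma.symm, inv_smul_eq_iff.2 hmb.symm⟩) hK
      refine B.u3_bad D Q hK' (fun y hy => ?_) ?_
      · rw [mem_cj, inv_inv, ← Subgroup.mem_centralizer_iff.1 hmY y hy, mul_inv_cancel_right]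
        exact hYK hy
      · have h := hgd.map m⁻¹
        rwa [hu', inv_inv, show m⁻¹ * (m * u * m⁻¹) * m = u by group] at h
    have hu'Y : u' * u ∈ Y := Subgroup.mem_inf.2
      ⟨B.not_gd_mul D Q.good₁ hu'T hu'W (hbad Q.good₁ inf_le_left) hu huW (B.u3_bad D Q Q.good₁ inf_le_left),
        B.not_gd_mul D Q.good₂ hu'T hu'W (hbad Q.good₂ inf_le_right) hu huW (B.u3_bad D Q Q.good₂ inf_le_right)⟩
    have hm1 : ι m * q3 * (ι m)⁻¹ = q3 := by
      rw [hq3, hιconj m u (hC2CM hmC) (hT0CM hu)]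
      refine Equiv.ext fun d => Subtype.ext ?_
      rw [hιv u (hT0CM hu), hιv _ (mul_mem (mul_mem (hC2CM hmC) (hT0CM hu)) (inv_mem (hC2CM hmC)))]
      show u' • (d : Ω) = u • (d : Ω)
      have e : u' = u' * u * u := by rw [mul_assoc, B.T0_sq D u hu, mul_one]
      rw [e, mul_smul]
      have : u • (d : Ω) ∈ fx Y Ω :=
        smul_mem_fx_of_commute (fun y hy => B.T0_comm D hu (D.le (hYW hy))) d.2
      exact this _ hu'Y
    obtain ⟨w0, hw0, r, hr, el⟩ := hR0dec l hl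
    have hrC : r ∈ CM := hC2CM (hK0C2 (hR0K hr))
    have hw0C : w0 ∈ CM := hC2CM (hWC2 hw0)
    have elι : ι l = ι w0 * ι r := by
      rw [← hιmul w0 r hw0C hrC, el]
    have hrO : ι r ∈ O := hR0O (hιmem R0 r hrC hr)
    -- `n = l⁻¹ m`
    set N := ι n with hN
    set L := ι l with hL
    set Vv := ι v with hVv
    set Rr := ι r with hRr
    set W0 := ι w0 with hW0
    have hm1' : L * N * q3 * (L * N)⁻¹ = q3 := by
      rw [hL, hN, ← hιmul l n (hC2CM (hK0C2 hl)) (hC2CM hn)]; exact hm1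
    have hW0q : W0⁻¹ * q3 * W0 = q3 := by
      have h := hq3W w0 hw0
      rw [mul_inv_eq_iff_eq_mul] at h
      rw [mul_assoc, ← h, inv_mul_cancel_left]
    have hn1 : N * q3 * N⁻¹ = Rr⁻¹ * q3 * Rr := by
      calc N * q3 * N⁻¹ = L⁻¹ * (L * N * q3 * (L * N)⁻¹) * L := by group
        _ = L⁻¹ * q3 * L := by rw [hm1']
        _ = Rr⁻¹ * (W0⁻¹ * q3 * W0) * Rr := by rw [elι]; group
        _ = Rr⁻¹ * q3 * Rr := by rw [hW0q]
    set o1 := Rr⁻¹ * (q3 * Rr * q3⁻¹) with ho1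
    have ho1O : o1 ∈ O := mul_mem (inv_mem hrO) (hOnorm u (hT0CM hu) _ hrO)
    have hn2 : N * q3 * N⁻¹ = o1 * q3 := by rw [hn1, ho1]; group
    set o2 := Vv * o1 * Vv⁻¹ with ho2
    have ho2O : o2 ∈ O := hOnorm v (hC2CM (hWC2 hv)) _ ho1O
    refine ⟨o * o2 * (q3 * o⁻¹ * q3⁻¹),
      mul_mem (mul_mem ho ho2O) (hOnorm u (hT0CM hu) _ (inv_mem ho)), ?_⟩
    rw [e]
    calc o * Vv * N * q3 * (o * Vv * N)⁻¹ = o * (Vv * (N * q3 * N⁻¹) * Vv⁻¹) * o⁻¹ := by group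
      _ = o * (o2 * (Vv * q3 * Vv⁻¹)) * o⁻¹ := by rw [hn2, ho2]; group
      _ = _ := by rw [show Vv * q3 * Vv⁻¹ = q3 from hq3W v hv]; group
  -- the contradiction
  obtain ⟨θ, hθS, hθY, K, hK, hYK, hθc⟩ := B.to_hyper D Q hc hca hcb
  have hθC : θ ∈ C2 := Subgroup.mem_inf.2 ⟨hθS, Subgroup.mem_centralizer_iff.2 fun y hy => (hθY y hy).symm⟩
  obtain ⟨o, ho, e⟩ := hcentral θ hθC
  obtain ⟨x, hxK, hxY⟩ : ∃ x ∈ K, x ∉ Y := SetLike.not_le_iff_exists.1 fun h => by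
    have h1 := Subgroup.card_le_of_le h
    have h2 : 4 * Nat.card Y = Nat.card W := B.card_Y D Q
    have h3 := hK.card
    have : 0 < Nat.card W := Nat.card_pos
    omega
  have hxW : x ∈ W := hK.le hxK
  set c' : ↥(fxSub Y Ω) := ⟨θ • c, fun y hy => hθc y (hYK hy)⟩ with hc'
  have hxc' : ι x • c' = c' := Subtype.ext ((hιv x (hC2CM (hWC2 hxW)) c').trans (hθc x hxK))
  have hpc' : (o * q3) • c' = c' := by
    rw [← e, hq3, hιconj θ u (hC2CM hθC) (hT0CM hu)]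
    refine Subtype.ext ?_
    refine (hιv _ (mul_mem (mul_mem (hC2CM hθC) (hT0CM hu)) (inv_mem (hC2CM hθC))) c').trans ?_
    show (θ * u * θ⁻¹) • (θ • c) = θ • c
    rw [mul_smul, mul_smul, inv_smul_smul, huc]
  obtain ⟨k, hk, hkq, hkx⟩ := exists_common_fix hOodd (x := q3) (q := ι x)
    (hιsq u (hT0CM hu) (B.T0_sq D u hu))
    (hιsq x (hC2CM (hWC2 hxW)) (F.sq x hxW))
    (by rw [hq3, ← hιmul u x (hT0CM hu) (hC2CM (hWC2 hxW)), ← hιmul x u (hC2CM (hWC2 hxW)) (hT0CM hu),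
      B.T0_comm D hu (D.le hxW)])
    (hOnorm u (hT0CM hu)) (hOnorm x (hC2CM (hWC2 hxW))) ho hpc' hxc'
  refine B.u3_bad D Q hK hYK ⟨((k • c' : ↥(fxSub Y Ω)) : Ω), ?_, (hιv u (hT0CM hu) _).symm.trans (congrArg Subtype.val hkq)⟩
  have hlt : Y ≠ Y ⊔ Subgroup.zpowers x := fun e => hxY (e.ge (Subgroup.mem_sup_right (Subgroup.mem_zpowers x)))
  have h5 := two_mul_card_le_of_lt (le_sup_left : Y ≤ Y ⊔ Subgroup.zpowers x) hlt
  have h7 : 4 * Nat.card Y = Nat.card W := B.card_Y D Q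
  have e' : Y ⊔ Subgroup.zpowers x = K := Subgroup.eq_of_le_of_card_ge
    (sup_le hYK (Subgroup.zpowers_le.2 hxK)) (by have := hK.card; omega)
  rw [← e', fx_sup_zpowers]
  exact ⟨(k • c').2, (hιv x (hC2CM (hWC2 hxW)) _).symm.trans (congrArg Subtype.val hkx)⟩

end Big

end Cfsg.Lib.Wagner
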