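import Cfsg.Agent.Lib.Plane.Orbits

/-!
# Conjugate subgroups, fixed sets, and Sylow bookkeeping for groups acting on a set
-/

set_option autoImplicit false
set_option linter.unusedSectionVars false
set_option linter.style.haveILetI false

namespace Cfsg.Lib.Wagner

open MulAction Cfsg.Lib.Plane
open scoped Pointwise

variable {G : Type*} [Group G] {Ω : Type*} [MulAction G Ω]

/-- The conjugate `g U g⁻¹`. -/
abbrev cj (g : G) (U : Subgroup G) : Subgroup G := U.map (MulAut.conj g).toMonoidHom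

theorem mem_cj {g x : G} {U : Subgroup G} : x ∈ cj g U ↔ g⁻¹ * x * g ∈ U := by
  rw [Subgroup.mem_map]
  constructor
  · rintro ⟨u, hu, rfl⟩
    simpa [mul_assoc] using hu
  · intro h
    exact ⟨_, h, by simp [mul_assoc]⟩

theorem conj_mem_cj {g x : G} {U : Subgroup G} (h : x ∈ U) : g * x * g⁻¹ ∈ cj g U :=
  ⟨x, h, rfl⟩

theorem cj_one (U : Subgroup G) : cj 1 U = U := by
  ext x; rw [mem_cj]; simp

theorem cj_cj (g k : G) (U : Subgroup G) : cj g (cj k U) = cj (g * k) U := by
  ext x; simp only [mem_cj, mul_inv_rev, mul_assoc]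

theorem cj_mono {g : G} {U V : Subgroup G} (h : U ≤ V) : cj g U ≤ cj g V := Subgroup.map_mono h

theorem cj_inf (g : G) (U V : Subgroup G) : cj g (U ⊓ V) = cj g U ⊓ cj g V :=
  Subgroup.map_inf U V _ (MulAut.conj g).injective

theorem card_cj (g : G) (U : Subgroup G) : Nat.card (cj g U) = Nat.card U :=
  Subgroup.card_map_of_injective (MulAut.conj g).injective

theorem cj_pgroup {p : ℕ} {g : G} {U : Subgroup G} (h : IsPGroup p U) : IsPGroup p (cj g U) :=
  h.map _

theorem cj_le_iff {g : G} {U V : Subgroup G} : cj g U ≤ V ↔ U ≤ cj g⁻¹ V := by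
  constructor
  · intro h x hx
    rw [mem_cj, inv_inv]
    exact h (conj_mem_cj hx)
  · intro h x hx
    have h1 := mem_cj.1 (h (mem_cj.1 hx))
    rw [inv_inv] at h1
    simpa [mul_assoc] using h1

theorem mem_normalizer_iff_cj [Finite G] {g : G} {U : Subgroup G} :
    g ∈ Subgroup.normalizer (U : Set G) ↔ cj g U = U := by
  rw [Subgroup.mem_normalizer_iff_map_conj_eq]
  rfl

theorem cj_eq_self [Finite G] {g : G} {U : Subgroup G} (h : ∀ u ∈ U, g * u * g⁻¹ ∈ U) : cj g U = U := by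
  refine Subgroup.eq_of_le_of_card_ge ?_ (card_cj g U).ge
  rintro _ ⟨u, hu, rfl⟩
  exact h u hu

theorem cj_of_commute {g : G} {U : Subgroup G} (h : ∀ u ∈ U, Commute g u) : cj g U = U := by
  ext x
  rw [mem_cj]
  constructor <;> intro hx
  · have h1 := h _ hx
    have : x = g * (g⁻¹ * x * g) * g⁻¹ := by group
    rw [this, h1.eq, mul_inv_cancel_right]
    exact hx
  · rwa [((h x hx).inv_left).eq, inv_mul_cancel_right]

/-- The points fixed by all elements of `U`. -/
def fx (U : Subgroup G) (Ω : Type*) [MulAction G Ω] : Set Ω := {x | ∀ u ∈ U, u • x = x}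

theorem mem_fx {U : Subgroup G} {x : Ω} : x ∈ fx U Ω ↔ ∀ u ∈ U, u • x = x := Iff.rfl

theorem mem_fx_iff_le {U : Subgroup G} {x : Ω} : x ∈ fx U Ω ↔ U ≤ stabilizer G x := Iff.rfl

theorem fx_anti {U V : Subgroup G} (h : U ≤ V) : fx V Ω ⊆ fx U Ω := fun _ hx u hu => hx u (h hu)

theorem mem_fx_cj {g : G} {U : Subgroup G} {x : Ω} : x ∈ fx (cj g U) Ω ↔ g⁻¹ • x ∈ fx U Ω := by
  constructor
  · intro h u hu
    have h1 := h _ (conj_mem_cj (g := g) hu)
    rw [mul_smul, mul_smul, smul_eq_iff_eq_inv_smul] at h1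
    exact h1
  · rintro h _ ⟨u, hu, rfl⟩
    show (g * u * g⁻¹) • x = x
    rw [mul_smul, mul_smul, h u hu, smul_inv_smul]

theorem smul_mem_fx [Finite G] {g : G} {U : Subgroup G} (hg : g ∈ Subgroup.normalizer (U : Set G))
    {x : Ω} (hx : x ∈ fx U Ω) : g • x ∈ fx U Ω := by
  rw [← mem_normalizer_iff_cj.1 hg, mem_fx_cj, inv_smul_smul]
  exact hx

theorem smul_mem_fx_of_commute {g : G} {U : Subgroup G} (hg : ∀ u ∈ U, Commute g u)
    {x : Ω} (hx : x ∈ fx U Ω) : g • x ∈ fx U Ω := by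
  intro u hu
  rw [← mul_smul, ← (hg u hu).eq, mul_smul, hx u hu]

/-- Two Sylow subgroups of `K` are conjugate in `K`; more generally a `p`-subgroup moves into one. -/
theorem exists_cj_le [Finite G] {p : ℕ} [Fact p.Prime] {X R K : Subgroup G} (hX : IsSyl p X K)
    (hR : IsPGroup p R) (hRK : R ≤ K) : ∃ k ∈ K, cj k R ≤ X := by
  obtain ⟨S, hS⟩ := (hR.of_equiv (Subgroup.subgroupOfEquivOfLe hRK).symm).exists_le_sylow
  set T : Sylow p K := IsPGroup.toSylow
    (hX.isPGroup.of_equiv (Subgroup.subgroupOfEquivOfLe hX.le).symm) hX.not_dvd with hT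
  obtain ⟨k, hk⟩ := MulAction.exists_smul_eq K S T
  refine ⟨k, k.2, ?_⟩
  rintro _ ⟨r, hr, rfl⟩
  have h1 := Subgroup.smul_mem_pointwise_smul (⟨r, hRK hr⟩ : K) (MulAut.conj k) (S : Subgroup K)
    (hS (show (⟨r, hRK hr⟩ : K) ∈ R.subgroupOf K from hr))
  have h2 : MulAut.conj k • (S : Subgroup K) = X.subgroupOf K := by
    rw [← Sylow.coe_subgroup_smul]
    have h3 := congrArg (fun U : Sylow p K => (U : Subgroup K)) hk
    simp only [hT, IsPGroup.toSylow_coe] at h3
    exact h3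
  rw [h2] at h1
  exact h1

theorem exists_cj_eq [Finite G] {p : ℕ} [Fact p.Prime] {X R K : Subgroup G} (hX : IsSyl p X K)
    (hR : IsSyl p R K) : ∃ k ∈ K, cj k R = X := by
  obtain ⟨k, hk, hle⟩ := exists_cj_le hX hR.isPGroup hR.le
  refine ⟨k, hk, Subgroup.eq_of_le_of_card_ge hle ?_⟩
  rw [card_cj]
  exact hR.card_le hX.isPGroup hX.le

theorem isSyl_of_card [Finite G] {p : ℕ} [Fact p.Prime] {X R K : Subgroup G} (hX : IsSyl p X K)
    (hR : IsPGroup p R) (hRK : R ≤ K) (hc : Nat.card R = Nat.card X) : IsSyl p R K := by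
  refine ⟨hRK, hR, fun hd => hX.not_dvd ?_⟩
  have h1 := card_eq_mul_relIndex hX.le
  rw [card_eq_mul_relIndex hRK, hc] at h1
  rwa [← Nat.eq_of_mul_eq_mul_left Nat.card_pos h1]

theorem isSyl_cj [Finite G] {p : ℕ} [Fact p.Prime] {X K : Subgroup G} (hX : IsSyl p X K) (g : G) :
    IsSyl p (cj g X) (cj g K) := by
  refine ⟨cj_mono hX.le, cj_pgroup hX.isPGroup, fun hd => hX.not_dvd ?_⟩
  have h1 := card_eq_mul_relIndex (cj_mono (g := g) hX.le)
  rw [card_cj, card_cj, card_eq_mul_relIndex hX.le] at h1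
  rwa [Nat.eq_of_mul_eq_mul_left Nat.card_pos h1]

theorem dvd_card_iff_isSyl_ne_bot [Finite G] {p : ℕ} [Fact p.Prime] {X K : Subgroup G}
    (hX : IsSyl p X K) : p ∣ Nat.card K ↔ X ≠ ⊥ := by
  constructor
  · rintro h rfl
    rw [card_eq_mul_relIndex hX.le, Subgroup.card_bot, one_mul] at h
    exact hX.not_dvd h
  · intro h
    haveI := (Subgroup.nontrivial_iff_ne_bot X).2 h
    obtain ⟨k, hk⟩ := IsPGroup.iff_card.1 hX.isPGroup
    have hk0 : k ≠ 0 := fun h0 => by
      have h2 := Finite.one_lt_card (α := X)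
      rw [hk, h0, pow_zero] at h2
      omega
    exact (dvd_pow_self p hk0).trans (hk ▸ Subgroup.card_dvd_of_le hX.le)

/-- A power of an element whose order is a power of `p` and which lies in the same cosets. -/
theorem exists_p_part [Finite G] (p : ℕ) [hp : Fact p.Prime] (g : G) :
    ∃ m : ℕ, m.Coprime p ∧ ∃ k : ℕ, (g ^ m) ^ p ^ k = 1 := by
  obtain ⟨k, m, hm, hkm⟩ := Nat.exists_eq_pow_mul_and_not_dvd (orderOf_pos g).ne' p hp.out.ne_one
  refine ⟨m, ((Nat.Prime.coprime_iff_not_dvd hp.out).2 hm).symm, k, ?_⟩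
  rw [← pow_mul, mul_comm, ← hkm, pow_orderOf_eq_one]

/-- A characteristic subgroup of `K` is stable under the normaliser of `K`. -/
theorem cj_map_char [Finite G] {K : Subgroup G} {J : Subgroup K} [hJ : J.Characteristic] {g : G}
    (hg : cj g K = K) : cj g (J.map K.subtype) = J.map K.subtype := by
  let φ : MulAut K := (MulEquiv.subgroupMap (MulAut.conj g) K).trans (MulEquiv.subgroupCongr hg)
  refine cj_eq_self ?_
  rintro _ ⟨x, hx, rfl⟩
  exact ⟨φ x, Subgroup.characteristic_iff_le_comap.1 hJ φ hx, rfl⟩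

/-- A prime dividing the relative order of a normalising element divides the index. -/
theorem dvd_index_of_pow_mem [Finite G] {p : ℕ} [Fact p.Prime] {S : Subgroup G} {g : G}
    (hg : g ∈ Subgroup.normalizer (S : Set G)) (hgp : g ^ p ∈ S) (hgS : g ∉ S) : p ∣ S.index := by
  set N := Subgroup.normalizer (S : Set G) with hN
  haveI : (S.subgroupOf N).Normal := Subgroup.normal_in_normalizer
  have hord : orderOf (QuotientGroup.mk (⟨g, hg⟩ : N) : N ⧸ S.subgroupOf N) = p := by
    refine orderOf_eq_prime ?_ ?_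
    · rw [← QuotientGroup.mk_pow, QuotientGroup.eq_one_iff]
      exact hgp
    · rw [Ne, QuotientGroup.eq_one_iff]
      exact hgS
  have h1 : p ∣ S.relIndex N := by
    rw [← hord, Subgroup.relIndex, Subgroup.index_eq_card]
    exact orderOf_dvd_natCard _
  exact h1.trans (Dvd.intro _ (Subgroup.relIndex_mul_index (Subgroup.le_normalizer (H := S))))

end Cfsg.Lib.Wagner
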