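import Cfsg.Agent.Lib.Invol.Isolated
import Cfsg.Agent.Lib.Plane.Orbits

/-!
# Fixed points of a four group normalising a transitive group of odd order

If the four group `{1, x, y, x y}` fixes only the point `b` in the orbit of `b` under the group `O` of
odd order, then the orbit has `f_x f_y f_(x y)` points, `f` counting fixed points.
-/

set_option autoImplicit false
set_option linter.unusedSectionVars false
set_option linter.style.haveILetI false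

namespace Cfsg.Lib.Wagner

open MulAction Cfsg.Lib.Plane

variable {G : Type*} [Group G] [Finite G]

/-- The square root of an element of odd order in its cyclic group. -/
noncomputable def rt (g : G) : G := g ^ ((orderOf g + 1) / 2)

theorem rt_mem {K : Subgroup G} {g : G} (hg : g ∈ K) : rt g ∈ K := pow_mem hg _

theorem rt_sq {g : G} (hg : Odd (orderOf g)) : rt g * rt g = g := by
  obtain ⟨j, hj⟩ := hg
  rw [rt, ← pow_add, show (orderOf g + 1) / 2 + (orderOf g + 1) / 2 = orderOf g + 1 by omega, pow_succ,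
    pow_orderOf_eq_one, one_mul]

theorem rt_conj (x g : G) : rt (x * g * x⁻¹) = x * rt g * x⁻¹ := by
  rw [rt, rt, Cfsg.Lib.Invol.orderOf_conj_eq, conj_pow]

theorem rt_inv (g : G) : rt g⁻¹ = (rt g)⁻¹ := by rw [rt, rt, orderOf_inv, inv_pow]

/-- The elements of `O` inverted by `x`. -/
def InvIn (O : Subgroup G) (x : G) (g : G) : Prop := g ∈ O ∧ x * g * x⁻¹ = g⁻¹

variable {O : Subgroup G} (hO : Odd (Nat.card O))
include hO

theorem odd_orderOf_mem {g : G} (hg : g ∈ O) : Odd (orderOf g) :=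
  hO.of_dvd_nat (Subgroup.orderOf_dvd_natCard O hg)

theorem eq_of_sq_eq {g h : G} (hg : g ∈ O) (hh : h ∈ O) (e : g * g = h * h) : g = h :=
  Cfsg.Lib.Invol.odd_sq_inj (odd_orderOf_mem hO hg) (odd_orderOf_mem hO hh) e

theorem exists_dec {x g : G} (hx : x * x = 1) (hn : ∀ g ∈ O, x * g * x⁻¹ ∈ O) (hg : g ∈ O) :
    x * (g * (rt ((x * g * x⁻¹)⁻¹ * g))⁻¹) * x⁻¹ = g * (rt ((x * g * x⁻¹)⁻¹ * g))⁻¹ ∧
      InvIn O x (rt ((x * g * x⁻¹)⁻¹ * g)) := by
  have hxi : x⁻¹ = x := inv_eq_of_mul_eq_one_right hx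
  set d := (x * g * x⁻¹)⁻¹ * g with hd
  have hdO : d ∈ O := mul_mem (inv_mem (hn g hg)) hg
  have hdx : x * d * x⁻¹ = d⁻¹ := by
    have e : x * (x * g * x⁻¹) * x⁻¹ = g := by
      rw [hxi, show x * (x * g * x) * x = (x * x) * g * (x * x) by group, hx, one_mul, mul_one]
    calc x * d * x⁻¹ = (x * (x * g * x⁻¹) * x⁻¹)⁻¹ * (x * g * x⁻¹) := by rw [hd]; simp [mul_assoc]
      _ = d⁻¹ := by rw [e, hd]; group
  have hs := rt_sq (odd_orderOf_mem hO hdO)
  have hi : x * rt d * x⁻¹ = (rt d)⁻¹ := by rw [← rt_conj, hdx, rt_inv]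
  refine ⟨?_, rt_mem hdO, hi⟩
  calc x * (g * (rt d)⁻¹) * x⁻¹ = (x * g * x⁻¹) * (x * rt d * x⁻¹)⁻¹ := by group
    _ = (g * d⁻¹) * rt d := by rw [hi, hd]; group
    _ = g * (rt d)⁻¹ := by
        conv_lhs => enter [1, 2]; rw [← hs]
        group

/-- `|O| = |C(x)| · |I(x)|`. -/
theorem card_dec {x : G} (hx : x * x = 1) (hn : ∀ g ∈ O, x * g * x⁻¹ ∈ O) :
    Nat.card O = Nat.card {g : G // g ∈ O ∧ x * g * x⁻¹ = g} * Nat.card {g : G // InvIn O x g} := by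
  rw [← Nat.card_prod]
  refine (Nat.card_eq_of_bijective (fun p => (⟨p.1.1 * p.2.1, mul_mem p.1.2.1 p.2.2.1⟩ : O)) ⟨?_, ?_⟩).symm
  · rintro ⟨⟨c, hc, hcx⟩, i, hi, hix⟩ ⟨⟨c', hc', hcx'⟩, i', hi', hix'⟩ e
    have e0 : c * i = c' * i' := congrArg Subtype.val e
    have e1 : c * i⁻¹ = c' * i'⁻¹ := by
      calc c * i⁻¹ = x * (c * i) * x⁻¹ := by
            rw [show x * (c * i) * x⁻¹ = (x * c * x⁻¹) * (x * i * x⁻¹) by group, hcx, hix]
        _ = x * (c' * i') * x⁻¹ := by rw [e0]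
        _ = c' * i'⁻¹ := by rw [show x * (c' * i') * x⁻¹ = (x * c' * x⁻¹) * (x * i' * x⁻¹) by group, hcx', hix']
    have e2 : i * i = i' * i' := by
      calc i * i = (c * i⁻¹)⁻¹ * (c * i) := by group
        _ = i' * i' := by rw [e0, e1]; group
    obtain rfl := eq_of_sq_eq hO hi hi' e2
    obtain rfl := mul_right_cancel e0
    rfl
  · rintro ⟨g, hg⟩
    obtain ⟨h1, h2⟩ := exists_dec hO hx hn hg
    exact ⟨(⟨_, mul_mem hg (inv_mem h2.1), h1⟩, ⟨_, h2⟩), Subtype.ext (inv_mul_cancel_right _ _)⟩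

/-- The order formula of a four group acting on a group of odd order. -/
theorem four_formula {x y : G} (hx : x * x = 1) (hy : y * y = 1) (hxy : x * y = y * x)
    (hnx : ∀ g ∈ O, x * g * x⁻¹ ∈ O) (hny : ∀ g ∈ O, y * g * y⁻¹ ∈ O) :
    Nat.card O * Nat.card {g : G // g ∈ O ∧ x * g * x⁻¹ = g ∧ y * g * y⁻¹ = g} ^ 2 =
      Nat.card {g : G // g ∈ O ∧ x * g * x⁻¹ = g} * Nat.card {g : G // g ∈ O ∧ y * g * y⁻¹ = g} *
        Nat.card {g : G // g ∈ O ∧ (x * y) * g * (x * y)⁻¹ = g} := by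
  classical
  set z := x * y with hz
  have hzz : z * z = 1 := by
    rw [hz, mul_assoc, ← mul_assoc y, ← hxy, mul_assoc x y, hy, mul_one, hx]
  have hyx : y * x = z := hxy.symm
  have hzc : ∀ g : G, z * g * z⁻¹ = x * (y * g * y⁻¹) * x⁻¹ := fun g => by rw [hz]; group
  have hzc' : ∀ g : G, z * g * z⁻¹ = y * (x * g * x⁻¹) * y⁻¹ := fun g => by rw [← hyx]; group
  have hnz : ∀ g ∈ O, z * g * z⁻¹ ∈ O := fun g hg => by rw [hzc]; exact hnx _ (hny g hg)
  -- the fixed points of `x` (or `y`) split under `z`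
  have split : ∀ w : G, (∀ g ∈ O, w * g * w⁻¹ ∈ O) → w * z = z * w →
      Nat.card {g : G // g ∈ O ∧ w * g * w⁻¹ = g} =
        Nat.card {g : G // g ∈ O ∧ w * g * w⁻¹ = g ∧ z * g * z⁻¹ = g} *
          Nat.card {g : G // InvIn O z g ∧ w * g * w⁻¹ = g} := by
    intro w _ hwz
    set Cw : Subgroup G := O ⊓ Subgroup.centralizer ({w} : Set G) with hCw
    have hmem : ∀ g, g ∈ Cw ↔ g ∈ O ∧ w * g * w⁻¹ = g := fun g => by
      rw [hCw, Subgroup.mem_inf, Subgroup.mem_centralizer_singleton_iff, mul_inv_eq_iff_eq_mul]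
      exact and_congr_right fun _ => eq_comm
    have hodd : Odd (Nat.card Cw) := hO.of_dvd_nat (Subgroup.card_dvd_of_le inf_le_left)
    have hn : ∀ g ∈ Cw, z * g * z⁻¹ ∈ Cw := fun g hg => by
      obtain ⟨h1, h2⟩ := (hmem g).1 hg
      refine (hmem _).2 ⟨hnz g h1, ?_⟩
      calc w * (z * g * z⁻¹) * w⁻¹ = (w * z) * g * (w * z)⁻¹ := by group
        _ = z * (w * g * w⁻¹) * z⁻¹ := by rw [hwz]; group
        _ = z * g * z⁻¹ := by rw [h2]
    rw [← Nat.card_congr (Equiv.subtypeEquivRight hmem), card_dec hodd hzz hn]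
    congr 1
    · exact Nat.card_congr (Equiv.subtypeEquivRight fun g => by rw [hmem, and_assoc])
    · exact Nat.card_congr (Equiv.subtypeEquivRight fun g => by
        simp only [InvIn, hmem]; tauto)
  have hxz : x * z = z * x := by rw [hz, mul_assoc, ← hxy, ← mul_assoc]
  have hyz : y * z = z * y := by rw [hz, ← mul_assoc, ← hxy, mul_assoc]
  have hV : ∀ w : G, (w = x ∨ w = y) →
      Nat.card {g : G // g ∈ O ∧ w * g * w⁻¹ = g ∧ z * g * z⁻¹ = g} =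
        Nat.card {g : G // g ∈ O ∧ x * g * x⁻¹ = g ∧ y * g * y⁻¹ = g} := by
    intro w hw
    refine Nat.card_congr (Equiv.subtypeEquivRight fun g => and_congr_right fun _ => ?_)
    rcases hw with rfl | rfl
    · refine ⟨fun ⟨h1, h2⟩ => ⟨h1, ?_⟩, fun ⟨h1, h2⟩ => ⟨h1, by rw [hzc, h2, h1]⟩⟩
      rwa [hzc', h1] at h2
    · refine ⟨fun ⟨h1, h2⟩ => ⟨?_, h1⟩, fun ⟨h1, h2⟩ => ⟨h2, by rw [hzc, h2, h1]⟩⟩
      rwa [hzc, h1] at h2
  -- the elements inverted by `z`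
  have key : Nat.card {g : G // InvIn O z g} = Nat.card {g : G // InvIn O z g ∧ x * g * x⁻¹ = g} *
      Nat.card {g : G // InvIn O z g ∧ y * g * y⁻¹ = g} := by
    rw [← Nat.card_prod]
    refine (Nat.card_eq_of_bijective (fun p => (⟨p.1.1 * p.2.1 * p.1.1, ?_⟩ : {g : G // InvIn O z g})) ⟨?_, ?_⟩).symm
    · refine ⟨mul_mem (mul_mem p.1.2.1.1 p.2.2.1.1) p.1.2.1.1, ?_⟩
      calc z * (p.1.1 * p.2.1 * p.1.1) * z⁻¹
          = (z * p.1.1 * z⁻¹) * (z * p.2.1 * z⁻¹) * (z * p.1.1 * z⁻¹) := by group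
        _ = _ := by rw [p.1.2.1.2, p.2.2.1.2]; group
    · rintro ⟨⟨p, ⟨hp, hpz⟩, hpx⟩, q, ⟨hq, hqz⟩, hqy⟩ ⟨⟨p', ⟨hp', hpz'⟩, hpx'⟩, q', ⟨hq', hqz'⟩, hqy'⟩ e
      have e0 : p * q * p = p' * q' * p' := congrArg Subtype.val e
      have hinv : ∀ w : G, z * w * z⁻¹ = w⁻¹ → y * w * y⁻¹ = w → x * w * x⁻¹ = w⁻¹ := fun w h1 h2 => by
        rw [← h1, hzc, h2]
      have hj : ∀ u w : G, x * u * x⁻¹ = u → x * w * x⁻¹ = w⁻¹ → x * (u * w * u) * x⁻¹ = u * w⁻¹ * u :=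
        fun u w h1 h2 => by
          calc x * (u * w * u) * x⁻¹ = (x * u * x⁻¹) * (x * w * x⁻¹) * (x * u * x⁻¹) := by group
            _ = _ := by rw [h1, h2]
      have e1 : p * q⁻¹ * p = p' * q'⁻¹ * p' := by
        rw [← hj p q hpx (hinv q hqz hqy), e0, hj p' q' hpx' (hinv q' hqz' hqy')]
      have hi : p * q * p ∈ O := mul_mem (mul_mem hp hq) hp
      have hm : p * p * (p * q * p)⁻¹ = p' * p' * (p * q * p)⁻¹ := by
        refine eq_of_sq_eq hO (mul_mem (mul_mem hp hp) (inv_mem hi)) (mul_mem (mul_mem hp' hp') (inv_mem hi)) ?_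
        calc p * p * (p * q * p)⁻¹ * (p * p * (p * q * p)⁻¹) = (p * q⁻¹ * p) * (p * q * p)⁻¹ := by group
          _ = (p' * q'⁻¹ * p') * (p' * q' * p')⁻¹ := by rw [e1, e0]
          _ = p' * p' * (p * q * p)⁻¹ * (p' * p' * (p * q * p)⁻¹) := by rw [e0]; group
      have hpp := eq_of_sq_eq hO hp hp' (mul_right_cancel hm)
      subst hpp
      obtain rfl : q = q' := mul_left_cancel (mul_right_cancel e0)
      rfl
    · rintro ⟨i, hi, hiz⟩
      set j := x * i * x⁻¹ with hj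
      have hjO : j ∈ O := hnx i hi
      have hjz : z * j * z⁻¹ = j⁻¹ := by
        calc z * j * z⁻¹ = (z * x) * i * (z * x)⁻¹ := by rw [hj]; group
          _ = x * (z * i * z⁻¹) * x⁻¹ := by rw [← hxz]; group
          _ = j⁻¹ := by rw [hiz, hj]; group
      have hxi : x⁻¹ = x := inv_eq_of_mul_eq_one_right hx
      have hji : x * j * x⁻¹ = i := by
        rw [hj, hxi, show x * (x * i * x) * x = (x * x) * i * (x * x) by group, hx, one_mul, mul_one]
      set s := rt (j * i⁻¹) with hs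
      have hsO : s ∈ O := rt_mem (mul_mem hjO (inv_mem hi))
      have hss : s * s = j * i⁻¹ := rt_sq (odd_orderOf_mem hO (mul_mem hjO (inv_mem hi)))
      have hxs : x * s * x⁻¹ = s⁻¹ := by
        rw [hs, ← rt_conj, show x * (j * i⁻¹) * x⁻¹ = (x * j * x⁻¹) * (x * i * x⁻¹)⁻¹ by group, hji, ← hj,
          ← rt_inv, show (j * i⁻¹)⁻¹ = i * j⁻¹ by group]
      have hzs : z * s * z⁻¹ = i⁻¹ * s⁻¹ * i := by
        rw [hs, ← rt_conj, ← rt_inv, show z * (j * i⁻¹) * z⁻¹ = (z * j * z⁻¹) * (z * i * z⁻¹)⁻¹ by group, hjz,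
          hiz, show i⁻¹ * rt (j * i⁻¹)⁻¹ * i = i⁻¹ * rt (j * i⁻¹)⁻¹ * i⁻¹⁻¹ by group, ← rt_conj,
          show j⁻¹ * i⁻¹⁻¹ = i⁻¹ * (j * i⁻¹)⁻¹ * i⁻¹⁻¹ by group]
      set m := s * i with hm
      have hmO : m ∈ O := mul_mem hsO hi
      have hmz : z * m * z⁻¹ = m⁻¹ := by
        calc z * m * z⁻¹ = (z * s * z⁻¹) * (z * i * z⁻¹) := by rw [hm]; group
          _ = m⁻¹ := by rw [hzs, hiz, hm]; group
      have hmx : x * m * x⁻¹ = m := by
        calc x * m * x⁻¹ = (x * s * x⁻¹) * (x * i * x⁻¹) := by rw [hm]; group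
          _ = s⁻¹ * (s * s * i) := by rw [hxs, ← hj, hss]; group
          _ = m := by rw [hm]; group
      set p := rt m with hp
      have hpO : p ∈ O := rt_mem hmO
      have hpz : z * p * z⁻¹ = p⁻¹ := by rw [hp, ← rt_conj, hmz, rt_inv]
      have hpx : x * p * x⁻¹ = p := by rw [hp, ← rt_conj, hmx]
      have hpp : p * p = m := rt_sq (odd_orderOf_mem hO hmO)
      set q := p⁻¹ * i * p⁻¹ with hq
      have hqO : q ∈ O := mul_mem (mul_mem (inv_mem hpO) hi) (inv_mem hpO)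
      have hqz : z * q * z⁻¹ = q⁻¹ := by
        calc z * q * z⁻¹ = (z * p * z⁻¹)⁻¹ * (z * i * z⁻¹) * (z * p * z⁻¹)⁻¹ := by rw [hq]; group
          _ = q⁻¹ := by rw [hpz, hiz, hq]; group
      have hqx : x * q * x⁻¹ = q⁻¹ := by
        calc x * q * x⁻¹ = (x * p * x⁻¹)⁻¹ * (x * i * x⁻¹) * (x * p * x⁻¹)⁻¹ := by rw [hq]; group
          _ = p⁻¹ * ((j * i⁻¹) * i) * p⁻¹ := by rw [hpx, ← hj]; group
          _ = p⁻¹ * ((p * p) * i⁻¹ * (p * p)) * p⁻¹ := by rw [← hss, hpp, hm]; group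
          _ = q⁻¹ := by rw [hq]; group
      have hqy : y * q * y⁻¹ = q := by
        have hy' : y = x * z := by rw [hz, ← mul_assoc, hx, one_mul]
        calc y * q * y⁻¹ = x * (z * q * z⁻¹) * x⁻¹ := by rw [hy']; group
          _ = (x * q * x⁻¹)⁻¹ := by rw [hqz]; group
          _ = q := by rw [hqx, inv_inv]
      exact ⟨(⟨p, ⟨hpO, hpz⟩, hpx⟩, ⟨q, ⟨hqO, hqz⟩, hqy⟩), Subtype.ext (show p * q * p = i by rw [hq]; group)⟩
  rw [card_dec hO hzz hnz, split x hnx hxz, split y hny hyz, hV x (Or.inl rfl), hV y (Or.inr rfl), key]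
  ring

omit hO

variable {Ω : Type*} [MulAction G Ω]

/-- The centralizer of an involution is transitive on its fixed points in an orbit. -/
theorem fixed_in_orbit (hO : Odd (Nat.card O)) {b : Ω} {x g : G} (hx : x * x = 1)
    (hn : ∀ g ∈ O, x * g * x⁻¹ ∈ O) (hb : x • b = b) (hg : g ∈ O) (hfix : x • (g • b) = g • b) :
    ∃ c ∈ O, x * c * x⁻¹ = c ∧ c • b = g • b := by
  obtain ⟨h1, h2⟩ := exists_dec hO hx hn hg
  refine ⟨_, mul_mem hg (inv_mem h2.1), h1, ?_⟩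
  have hmem : (x * g * x⁻¹)⁻¹ * g ∈ stabilizer G b := by
    rw [mem_stabilizer_iff, mul_smul, inv_smul_eq_iff, mul_smul, mul_smul, inv_smul_eq_iff.2 hb.symm, hfix]
  rw [mul_smul, inv_smul_eq_iff.2 (mem_stabilizer_iff.1 (rt_mem hmem)).symm]

theorem card_fix_mul (hO : Odd (Nat.card O)) {b : Ω} {x : G} (hx : x * x = 1)
    (hn : ∀ g ∈ O, x * g * x⁻¹ ∈ O) (hb : x • b = b) :
    {c ∈ orb O b | x • c = c}.ncard *
      Nat.card {g : G // g ∈ O ⊓ stabilizer G b ∧ x * g * x⁻¹ = g} =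
      Nat.card {g : G // g ∈ O ∧ x * g * x⁻¹ = g} := by
  set Cx : Subgroup G := O ⊓ Subgroup.centralizer ({x} : Set G) with hCx
  have hmem : ∀ g, g ∈ Cx ↔ g ∈ O ∧ x * g * x⁻¹ = g := fun g => by
    rw [hCx, Subgroup.mem_inf, Subgroup.mem_centralizer_singleton_iff, mul_inv_eq_iff_eq_mul]
    exact and_congr_right fun _ => eq_comm
  rw [← Nat.card_congr (Equiv.subtypeEquivRight hmem), ← card_orb_mul Cx b]
  congr 1
  · rw [Nat.card_coe_set_eq]
    congr 1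
    ext c
    constructor
    · rintro ⟨⟨g, hg, rfl⟩, hfix⟩
      obtain ⟨k, hk, hkx, hkb⟩ := fixed_in_orbit hO hx hn hb hg hfix
      exact ⟨k, (hmem k).2 ⟨hk, hkx⟩, hkb⟩
    · rintro ⟨g, hg, rfl⟩
      obtain ⟨h1, h2⟩ := (hmem g).1 hg
      refine ⟨⟨g, h1, rfl⟩, ?_⟩
      rw [← mul_smul, show x * g = x * g * x⁻¹ * x by group, h2, mul_smul, hb]
  · exact Nat.card_congr (Equiv.subtypeEquivRight fun g => by
      simp only [Subgroup.mem_inf, hmem]; tauto)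

/-- The counting formula for a four group with one fixed point. -/
theorem four_count (hO : Odd (Nat.card O)) {b : Ω} {x y : G} (hx : x * x = 1) (hy : y * y = 1)
    (hxy : x * y = y * x) (hnx : ∀ g ∈ O, x * g * x⁻¹ ∈ O) (hny : ∀ g ∈ O, y * g * y⁻¹ ∈ O)
    (hxb : x • b = b) (hyb : y • b = b)
    (honly : ∀ c ∈ orb O b, x • c = c → y • c = c → c = b) :
    Nat.card ↥(orb O b) = {c ∈ orb O b | x • c = c}.ncard * {c ∈ orb O b | y • c = c}.ncard *
      {c ∈ orb O b | (x * y) • c = c}.ncard := by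
  set D : Subgroup G := O ⊓ stabilizer G b with hD
  have hstab : ∀ {w : G}, w • b = b → (∀ g ∈ O, w * g * w⁻¹ ∈ O) → ∀ g ∈ D, w * g * w⁻¹ ∈ D := by
    intro w hw hn g hg
    obtain ⟨h1, h2⟩ := Subgroup.mem_inf.1 hg
    refine Subgroup.mem_inf.2 ⟨hn g h1, ?_⟩
    rw [mem_stabilizer_iff, mul_smul, mul_smul, inv_smul_eq_iff.2 hw.symm, mem_stabilizer_iff.1 h2, hw]
  have hzb : (x * y) • b = b := by rw [mul_smul, hyb, hxb]
  have hzz : (x * y) * (x * y) = 1 := by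
    rw [mul_assoc, ← mul_assoc y, ← hxy, mul_assoc x y, hy, mul_one, hx]
  have hnz : ∀ g ∈ O, (x * y) * g * (x * y)⁻¹ ∈ O := fun g hg => by
    rw [show (x * y) * g * (x * y)⁻¹ = x * (y * g * y⁻¹) * x⁻¹ by group]; exact hnx _ (hny g hg)
  have h1 := four_formula hO hx hy hxy hnx hny
  have h2 := four_formula (O := D) (hO.of_dvd_nat (Subgroup.card_dvd_of_le inf_le_left)) hx hy hxy
    (hstab hxb hnx) (hstab hyb hny)
  -- the common fixed elements fix `b`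
  have hV : Nat.card {g : G // g ∈ O ∧ x * g * x⁻¹ = g ∧ y * g * y⁻¹ = g} =
      Nat.card {g : G // g ∈ D ∧ x * g * x⁻¹ = g ∧ y * g * y⁻¹ = g} := by
    refine Nat.card_congr (Equiv.subtypeEquivRight fun g =>
      ⟨fun ⟨hg, hgx, hgy⟩ => ⟨Subgroup.mem_inf.2 ⟨hg, mem_stabilizer_iff.2 ?_⟩, hgx, hgy⟩,
        fun ⟨hg, h⟩ => ⟨(Subgroup.mem_inf.1 hg).1, h⟩⟩)
    refine honly _ ⟨g, hg, rfl⟩ ?_ ?_
    · rw [← mul_smul, show x * g = x * g * x⁻¹ * x by group, hgx, mul_smul, hxb]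
    · rw [← mul_smul, show y * g = y * g * y⁻¹ * y by group, hgy, mul_smul, hyb]
  rw [← card_orb_mul O b, ← card_fix_mul hO hx hnx hxb, ← card_fix_mul hO hy hny hyb,
    ← card_fix_mul hO hzz hnz hzb, hV] at h1
  have hpos : 0 < Nat.card D * Nat.card {g : G // g ∈ D ∧ x * g * x⁻¹ = g ∧ y * g * y⁻¹ = g} ^ 2 := by
    refine Nat.mul_pos Nat.card_pos (pow_pos ?_ 2)
    haveI : Nonempty {g : G // g ∈ D ∧ x * g * x⁻¹ = g ∧ y * g * y⁻¹ = g} := ⟨⟨1, one_mem D, by group, by group⟩⟩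
    exact Nat.card_pos
  refine Nat.eq_of_mul_eq_mul_right hpos ?_
  rw [← mul_assoc, h1, h2]
  ring

end Cfsg.Lib.Wagner
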