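import Cfsg.Agent.Lib.Wagner.Conj
import Cfsg.Agent.Lib.Invol.Isolated
import Cfsg.Agent.Lib.ZStar.Main

/-!
# A small exponent two subgroup with controlled fusion is normal modulo the odd core
-/

set_option autoImplicit false
set_option linter.unusedSectionVars false
set_option linter.style.haveILetI false

namespace Cfsg.Lib.Wagner

open Cfsg.Lib.Plane

universe u

variable {A : Type u} [Group A] [Finite A]

/-- A central Sylow 2-subgroup of `K` has a complement of odd order invariant under the normalizer of `K`. -/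
theorem exists_odd_part {K W : Subgroup A} (hW : IsSyl 2 W K) (hc : ∀ w ∈ W, ∀ k ∈ K, k * w = w * k) :
    ∃ R : Subgroup A, R ≤ K ∧ Odd (Nat.card R) ∧ (∀ k ∈ K, ∃ w ∈ W, ∃ r ∈ R, k = w * r) ∧
      ∀ g : A, cj g K = K → cj g R = R := by
  haveI : Fact (Nat.Prime 2) := ⟨Nat.prime_two⟩
  set S : Sylow 2 K := IsPGroup.toSylow
    (hW.isPGroup.of_equiv (Subgroup.subgroupOfEquivOfLe hW.le).symm) hW.not_dvd with hS
  have hSc : (S : Subgroup K) = W.subgroupOf K := IsPGroup.toSylow_coe _ _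
  have hle : Subgroup.normalizer ((S : Subgroup K) : Set K) ≤ Subgroup.centralizer ((S : Subgroup K) : Set K) := by
    intro k _
    rw [Subgroup.mem_centralizer_iff]
    intro w hw
    have hw' : w ∈ W.subgroupOf K := hSc ▸ hw
    exact Subtype.ext (hc w (Subgroup.mem_subgroupOf.1 hw') k k.2).symm
  have hcomp := MonoidHom.ker_transferSylow_isComplement' S hle
  set R₀ := (MonoidHom.transferSylow S hle).ker with hR₀
  set R := R₀.map K.subtype with hR
  have hodd : Odd (Nat.card R₀) := by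
    rw [← Nat.not_even_iff_odd, even_iff_two_dvd]
    intro h
    refine S.not_dvd_index ?_
    rwa [hcomp.index_eq_card]
  have hdec : ∀ k ∈ K, ∃ w ∈ W, ∃ r ∈ R, k = w * r := by
    intro k hk
    obtain ⟨⟨w, r⟩, hwr⟩ := hcomp.symm.2 ⟨k, hk⟩
    exact ⟨_, Subgroup.mem_subgroupOf.1 (hSc ▸ w.2 : (w : K) ∈ W.subgroupOf K), _, ⟨_, r.2, rfl⟩,
      (congrArg Subtype.val hwr).symm⟩
  have hoddR : Odd (Nat.card R) := by
    rwa [hR, Subgroup.card_map_of_injective K.subtype_injective]
  refine ⟨R, Subgroup.map_subtype_le _, hoddR, hdec, fun g hg => cj_eq_self fun x hx => ?_⟩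
  have hgx : g * x * g⁻¹ ∈ K := hg ▸ conj_mem_cj (Subgroup.map_subtype_le _ hx)
  obtain ⟨w, hw, r, hr, e⟩ := hdec _ hgx
  set N := Nat.card R with hN
  have h1 : (g * x * g⁻¹) ^ N = 1 := by
    rw [conj_pow, orderOf_dvd_iff_pow_eq_one.1 (Subgroup.orderOf_dvd_natCard R hx),
      mul_one, mul_inv_cancel]
  have h2 : r ^ N = 1 := orderOf_dvd_iff_pow_eq_one.1 (Subgroup.orderOf_dvd_natCard R hr)
  rw [e, (show Commute w r from (hc w hw r (Subgroup.map_subtype_le _ hr)).symm).mul_pow, h2, mul_one] at h1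
  obtain ⟨j, hj⟩ := hW.isPGroup ⟨w, hw⟩
  have hj' : w ^ 2 ^ j = 1 := by simpa using congrArg Subtype.val hj
  have hw1 : w = 1 := orderOf_eq_one_iff.1 (Nat.eq_one_of_dvd_coprimes
    ((Nat.coprime_two_left.2 hoddR).pow_left j) (orderOf_dvd_of_pow_eq_one hj') (orderOf_dvd_of_pow_eq_one h1))
  rw [e, hw1, one_mul]
  exact hr

/-- A group acting on a group of order at most four and prime to three fixes a non-trivial element. -/
theorem exists_fixed_of_four {V : Subgroup A} (h3 : ¬ 3 ∣ Nat.card A) (hsq : ∀ x ∈ V, x * x = 1)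
    (h4 : Nat.card V ≤ 4) (hV : V ≠ ⊥) :
    ∃ z ∈ V, z ≠ 1 ∧ ∀ n : A, cj n V = V → n * z * n⁻¹ = z := by
  classical
  haveI : Fact (Nat.Prime 2) := ⟨Nat.prime_two⟩
  have hp : IsPGroup 2 V := fun x => ⟨1, Subtype.ext (by
    rw [pow_one, SubmonoidClass.coe_pow, pow_two]; exact hsq x x.2)⟩
  obtain ⟨e, he⟩ := IsPGroup.iff_card.1 hp
  set N := Subgroup.normalizer (V : Set A) with hN
  let act : MulAction N {v : V // v ≠ 1} :=
    { smul := fun n v => ⟨⟨(n : A) * (v.1 : A) * (n : A)⁻¹, (Subgroup.mem_normalizer_iff.1 n.2 _).1 v.1.2⟩,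
        fun h => v.2 (Subtype.ext (conj_eq_one_iff.1 (congrArg Subtype.val h)))⟩
      one_smul := fun v => Subtype.ext (Subtype.ext (by
        show ((1 : N) : A) * (v.1 : A) * ((1 : N) : A)⁻¹ = v.1
        simp))
      mul_smul := fun m n v => Subtype.ext (Subtype.ext (by
        show ((m * n : N) : A) * (v.1 : A) * ((m * n : N) : A)⁻¹ =
          (m : A) * ((n : A) * (v.1 : A) * (n : A)⁻¹) * (m : A)⁻¹
        simp [mul_assoc])) }
  haveI := Fintype.ofFinite V
  have hcard : Nat.card {v : V // v ≠ 1} = Nat.card V - 1 := by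
    rw [Nat.card_eq_fintype_card, Fintype.card_subtype_compl, Fintype.card_subtype_eq, Nat.card_eq_fintype_card]
  have hs : Nat.card {v : V // v ≠ 1} = 1 ∨ Nat.card {v : V // v ≠ 1} = 3 := by
    have h1 : 1 < Nat.card V := (Subgroup.one_lt_card_iff_ne_bot V).2 hV
    rw [he] at h4 h1
    have : e ≤ 2 := by
      by_contra h
      have := Nat.pow_le_pow_right two_pos (show 3 ≤ e by omega)
      omega
    rcases e with _ | _ | _ | e <;> simp_all
  set φ := MulAction.toPermHom N {v : V // v ≠ 1} with hφ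
  have hrange : IsPGroup 2 φ.range := by
    have h6 : Nat.card φ.range ∣ 6 := by
      refine (Subgroup.card_subgroup_dvd_card φ.range).trans ?_
      rw [Nat.card_perm]
      rcases hs with h | h <;> rw [h] <;> decide
    have hn3 : ¬ 3 ∣ Nat.card φ.range := fun h =>
      h3 ((h.trans (Subgroup.card_range_dvd φ)).trans N.card_subgroup_dvd_card)
    have h2 : Nat.card φ.range = 1 ∨ Nat.card φ.range = 2 := by
      have := Nat.le_of_dvd (by norm_num) h6
      interval_cases h : Nat.card φ.range <;> simp_all (config := {decide := true})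
    rcases h2 with h | h
    · exact IsPGroup.of_card (n := 0) (by rw [h, pow_zero])
    · exact IsPGroup.of_card (n := 1) (by rw [h, pow_one])
  obtain ⟨v, hv⟩ := hrange.nonempty_fixed_point_of_prime_not_dvd_card {v : V // v ≠ 1}
    (by rcases hs with h | h <;> rw [h] <;> decide)
  refine ⟨v.1, v.1.2, fun h => v.2 (Subtype.ext h), fun n hn => ?_⟩
  exact congrArg (fun w : {v : V // v ≠ 1} => (w.1 : A))
    (hv ⟨φ ⟨n, mem_normalizer_iff_cj.2 hn⟩, ⟨_, rfl⟩⟩)

/-- A subgroup of exponent two and order at most four whose fusion is controlled by its normalizer. -/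
theorem oddCore_sup_normal (h3 : ¬ 3 ∣ Nat.card A) {S V : Subgroup A} (hS : IsSyl 2 S ⊤) (hVS : V ≤ S)
    (hsq : ∀ x ∈ V, x * x = 1) (h4 : Nat.card V ≤ 4)
    (hfus : ∀ v ∈ V, ∀ g : A, g * v * g⁻¹ ∈ S → ∃ n : A, cj n V = V ∧ n * v * n⁻¹ = g * v * g⁻¹) :
    (Cfsg.oddCore A ⊔ V).Normal := by
  classical
  haveI : Fact (Nat.Prime 2) := ⟨Nat.prime_two⟩
  set O := Cfsg.oddCore A with hO
  by_cases hV : V = ⊥
  · rw [hV, sup_bot_eq]; infer_instance
  obtain ⟨z, hzV, hz1, hzfix⟩ := exists_fixed_of_four h3 hsq h4 hV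
  have hord : ∀ v ∈ V, v ≠ 1 → orderOf v = 2 := fun v hv h1 =>
    orderOf_eq_prime (by rw [pow_two]; exact hsq v hv) h1
  set Ss : Sylow 2 A := IsPGroup.toSylow hS.isPGroup (by
    have := hS.not_dvd; rwa [Subgroup.relIndex_top_right] at this) with hSs
  have hSsc : (Ss : Subgroup A) = S := IsPGroup.toSylow_coe _ _
  have hiso : Cfsg.IsIsolatedInvolution z := Invol.isolated_of_sylow Ss (hord z hzV hz1) fun g hg => by
    obtain ⟨n, hn, e⟩ := hfus z hzV g (hSsc ▸ hg)
    rw [← e, hzfix n hn]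
  set π₁ := QuotientGroup.mk' O with hπ₁
  set zq := π₁ z with hzq
  have hcent : zq ∈ Subgroup.center (A ⧸ O) := by
    refine Subgroup.mem_center_iff.2 fun q => ?_
    obtain ⟨g, rfl⟩ := QuotientGroup.mk'_surjective O q
    have h := (QuotientGroup.eq_one_iff _).2 (ZStar.zStarHolds A z hiso g)
    have h' : π₁ (z * g * z⁻¹ * g⁻¹) = 1 := h
    simp only [map_mul, map_inv] at h'
    rw [mul_inv_eq_one, mul_inv_eq_iff_eq_mul] at h'
    exact h'.symm
  set Z := Subgroup.zpowers zq with hZ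
  have hZc : Z ≤ Subgroup.center (A ⧸ O) := Subgroup.zpowers_le.2 hcent
  haveI : Z.Normal := ⟨fun x hx g => by
    rw [(Subgroup.mem_center_iff.1 (hZc hx)) g, mul_inv_cancel_right]; exact hx⟩
  set π₂ := QuotientGroup.mk' Z with hπ₂
  set π : A →* (A ⧸ O) ⧸ Z := π₂.comp π₁ with hπ
  have hsurj : Function.Surjective π :=
    (QuotientGroup.mk'_surjective Z).comp (QuotientGroup.mk'_surjective O)
  have hker : ∀ x : A, π x = 1 → x ∈ O ⊔ V := by
    intro x hx
    have h1 : π₁ x ∈ Z := (QuotientGroup.eq_one_iff _).1 hx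
    obtain ⟨i, hi⟩ := Subgroup.mem_zpowers_iff.1 h1
    rw [hzq, ← map_zpow] at hi
    have h2 : (z ^ i)⁻¹ * x ∈ O := QuotientGroup.eq.1 hi
    have h5 : x = z ^ i * ((z ^ i)⁻¹ * x) := by group
    rw [h5]
    exact mul_mem (Subgroup.mem_sup_right (zpow_mem hzV i)) (Subgroup.mem_sup_left h2)
  have hzq2 : orderOf zq = 2 := by
    refine orderOf_eq_prime (by rw [pow_two, hzq, ← map_mul, hsq z hzV, map_one]) fun h => ?_
    exact ZStar.notMem_oddCore (hord z hzV hz1) ((QuotientGroup.eq_one_iff _).1 h)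
  -- the quotient has trivial odd core
  have hQ : Cfsg.oddCore ((A ⧸ O) ⧸ Z) = ⊥ := by
    set M := (Cfsg.oddCore ((A ⧸ O) ⧸ Z)).comap π₂ with hM
    have hZM : Z ≤ M := fun x hx => by
      rw [hM, Subgroup.mem_comap, show π₂ x = 1 from (QuotientGroup.eq_one_iff _).2 hx]; exact one_mem _
    have hsyl : IsSyl 2 Z M := by
      refine ⟨hZM, IsPGroup.of_card (n := 1) (by rw [hZ, Nat.card_zpowers, hzq2, pow_one]), fun hd => ?_⟩
      have hcard : Z.relIndex M = Nat.card (Cfsg.oddCore ((A ⧸ O) ⧸ Z)) := by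
        calc Z.relIndex M = ((⊥ : Subgroup ((A ⧸ O) ⧸ Z)).comap π₂).relIndex M := by
              rw [MonoidHom.comap_bot, hπ₂, QuotientGroup.ker_mk']
          _ = _ := by
              rw [hM, Subgroup.relIndex_comap,
                Subgroup.map_comap_eq_self_of_surjective (QuotientGroup.mk'_surjective Z), Subgroup.relIndex_bot_left]
      rw [hcard] at hd
      exact Nat.not_even_iff_odd.2 ZStar.odd_card_oddCore (even_iff_two_dvd.2 hd)
    obtain ⟨R, hRM, hRodd, hRdec, hRinv⟩ := exists_odd_part hsyl fun w hw k _ =>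
      (Subgroup.mem_center_iff.1 (hZc hw)) k
    haveI hMn : M.Normal := inferInstance
    have hR : R.Normal := ⟨fun x hx g => by
      rw [← hRinv g (cj_eq_self fun y hy => hMn.conj_mem y hy g)]
      exact conj_mem_cj hx⟩
    have hbot : Cfsg.oddCore (A ⧸ O) = ⊥ := Core.pPrimeCore_quotient_eq_bot
    have hR1 : R = ⊥ := le_bot_iff.1 (hbot ▸ ZStar.le_oddCore hR hRodd)
    refine (Subgroup.eq_bot_iff_forall _).2 fun q hq => ?_
    obtain ⟨y, rfl⟩ := QuotientGroup.mk'_surjective Z q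
    obtain ⟨w, hw, r, hr, e⟩ := hRdec y hq
    rw [hR1, Subgroup.mem_bot] at hr
    rw [e, hr, mul_one]
    exact (QuotientGroup.eq_one_iff _).2 hw
  -- the images of the elements of `V` are central
  have hcentral : ∀ v ∈ V, π v ∈ Subgroup.center ((A ⧸ O) ⧸ Z) := by
    intro v hv
    by_cases hv1 : π v = 1
    · rw [hv1]; exact one_mem _
    refine ZStar.mem_center_of_isolated hQ (Invol.isolated_of_sylow (Ss.mapSurjective hsurj)
      (orderOf_eq_prime (by rw [pow_two, ← map_mul, hsq v hv, map_one]) hv1) fun q hq => ?_)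
    obtain ⟨g, rfl⟩ := hsurj q
    rw [← map_inv, ← map_mul, ← map_mul] at hq ⊢
    replace hq : π (g * v * g⁻¹) ∈ ((Ss.mapSurjective hsurj : Sylow 2 _) : Subgroup ((A ⧸ O) ⧸ Z)) := hq
    rw [Sylow.coe_mapSurjective, hSsc] at hq
    obtain ⟨s, hs, hsg⟩ := hq
    have h1 : s⁻¹ * (g * v * g⁻¹) ∈ O ⊔ V := hker _ (by rw [map_mul, map_inv, hsg, inv_mul_cancel])
    have hgS : g * v * g⁻¹ ∈ S ⊔ O := by
      obtain ⟨o, ho, w, hw, e⟩ := Subgroup.mem_sup_of_normal_left.1 h1
      rw [show g * v * g⁻¹ = s * (o * w) by rw [e]; group]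
      exact mul_mem (Subgroup.mem_sup_left hs) (mul_mem (Subgroup.mem_sup_right ho) (Subgroup.mem_sup_left (hVS hw)))
    have hSO : IsSyl 2 S (S ⊔ O) := by
      refine ⟨le_sup_left, hS.isPGroup, fun hd => hS.not_dvd (hd.trans ?_)⟩
      exact Dvd.intro _ (Subgroup.relIndex_mul_relIndex S (S ⊔ O) ⊤ le_sup_left le_top)
    obtain ⟨k, hk, hkle⟩ := exists_cj_le hSO
      (show IsPGroup 2 (Subgroup.zpowers (g * v * g⁻¹)) from IsPGroup.of_card (n := 1) (by
        rw [Nat.card_zpowers, Invol.orderOf_conj_eq, pow_one]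
        exact hord v hv fun h => hv1 (by rw [h, map_one])))
      (Subgroup.zpowers_le.2 hgS)
    obtain ⟨t, ht, o, ho, rfl⟩ := Subgroup.mem_sup_of_normal_right.1 hk
    have h2 : (o * g) * v * (o * g)⁻¹ ∈ S := by
      have h3 := hkle (conj_mem_cj (g := t * o) (Subgroup.mem_zpowers _))
      have := mul_mem (mul_mem (inv_mem ht) h3) ht
      simpa [mul_assoc] using this
    obtain ⟨n, hn, e⟩ := hfus v hv _ h2
    have hv' : n * v * n⁻¹ ∈ V := hn ▸ conj_mem_cj hv
    have hoq : π o = 1 := by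
      show π₂ (π₁ o) = 1
      rw [show π₁ o = 1 from (QuotientGroup.eq_one_iff _).2 ho, map_one]
    have e1 : π (g * v * g⁻¹) = π (n * v * n⁻¹) := by
      rw [e]; simp only [map_mul, map_inv, hoq, one_mul, inv_one, mul_one, mul_inv_rev]
    rw [e1]
    have hne : π (n * v * n⁻¹) ≠ 1 := by
      rw [← e1]
      simpa using hv1
    -- `V` has image of order at most two
    set Vq := V.map π with hVq
    have hzker : π z = 1 := (QuotientGroup.eq_one_iff _).2 (Subgroup.mem_zpowers zq)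
    have hsmall : Nat.card Vq ≤ 2 := by
      have h6 : Nat.card Vq * Nat.card (π.comp V.subtype).ker = Nat.card V := by
        rw [hVq, show V.map π = (π.comp V.subtype).range by rw [MonoidHom.range_comp, V.range_subtype],
          ← Subgroup.index_ker, mul_comm, Subgroup.card_mul_index]
      have h7 : 1 < Nat.card (π.comp V.subtype).ker := (Subgroup.one_lt_card_iff_ne_bot _).2 fun hb => hz1 (by
        have hm : (⟨z, hzV⟩ : V) ∈ (π.comp V.subtype).ker := hzker
        rw [hb, Subgroup.mem_bot] at hm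
        exact congrArg Subtype.val hm)
      nlinarith
    by_contra hne'
    have hsub : ({1, π v, π (n * v * n⁻¹)} : Set ((A ⧸ O) ⧸ Z)) ⊆ Vq := by
      rintro x (rfl | rfl | rfl)
      exacts [one_mem Vq, ⟨v, hv, rfl⟩, ⟨_, hv', rfl⟩]
    have h8 := Set.ncard_le_ncard hsub
    rw [Set.ncard_insert_of_notMem (by
      simp only [Set.mem_insert_iff, Set.mem_singleton_iff, not_or]
      exact ⟨Ne.symm hv1, Ne.symm hne⟩), Set.ncard_pair (Ne.symm hne')] at h8
    have h9 : (Vq : Set ((A ⧸ O) ⧸ Z)).ncard = Nat.card Vq := (Nat.card_coe_set_eq _).symm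
    omega
  refine ⟨fun x hx g => ?_⟩
  obtain ⟨o, ho, v, hv, rfl⟩ := Subgroup.mem_sup_of_normal_left.1 hx
  rw [show g * (o * v) * g⁻¹ = (g * o * g⁻¹) * ((g * v * g⁻¹ * v⁻¹) * v) by group]
  refine mul_mem (Subgroup.mem_sup_left ((inferInstance : O.Normal).conj_mem o ho g))
    (mul_mem (hker _ ?_) (Subgroup.mem_sup_right hv))
  simp only [map_mul, map_inv]
  rw [Subgroup.mem_center_iff.1 (hcentral v hv) (π g)]
  group

end Cfsg.Lib.Wagner
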