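import Cfsg.Agent.Lib.Wagner.Frame
import Cfsg.Agent.Lib.Wagner.Isolation
import Cfsg.Agent.Lib.Wagner.FourFormula

/-!
# The image of a centralizer on a fixed set and its odd core
-/

set_option autoImplicit false
set_option linter.unusedSectionVars false
set_option linter.style.haveILetI false

namespace Cfsg.Lib.Wagner

open MulAction Cfsg.Lib.Plane

universe u v

variable {G : Type u} [Group G] [Finite G] {Ω : Type v} [MulAction G Ω]

/-- The fixed set of `Y` as a set acted on by its normalizer. -/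
def fxSub (Y : Subgroup G) (Ω : Type v) [MulAction G Ω] :
    SubMulAction ↥(Subgroup.normalizer (Y : Set G)) Ω :=
  invSet _ (fx Y Ω) (fun _ hk _ hx => smul_mem_fx hk hx)

/-- The action of the normalizer on the fixed set. -/
def fxHom (Y : Subgroup G) (Ω : Type v) [MulAction G Ω] :
    ↥(Subgroup.normalizer (Y : Set G)) →* Equiv.Perm ↥(fxSub Y Ω) :=
  toPermHom _ _

theorem fxHom_apply {Y : Subgroup G} (g : ↥(Subgroup.normalizer (Y : Set G))) (x : ↥(fxSub Y Ω)) :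
    ((fxHom Y Ω g x : ↥(fxSub Y Ω)) : Ω) = (g : G) • (x : Ω) := rfl

/-- The image of a subgroup of the normalizer on the fixed set. -/
def img (Y : Subgroup G) (Ω : Type v) [MulAction G Ω] (K : Subgroup G) :
    Subgroup (Equiv.Perm ↥(fxSub Y Ω)) :=
  (K.subgroupOf (Subgroup.normalizer (Y : Set G))).map (fxHom Y Ω)

theorem mem_img_of {Y K : Subgroup G} {g : G} (hg : g ∈ K) (hn : g ∈ Subgroup.normalizer (Y : Set G)) :
    fxHom Y Ω ⟨g, hn⟩ ∈ img Y Ω K := ⟨⟨g, hn⟩, hg, rfl⟩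

theorem exists_of_mem_img {Y K : Subgroup G} {σ : Equiv.Perm ↥(fxSub Y Ω)} (h : σ ∈ img Y Ω K) :
    ∃ (g : G) (hn : g ∈ Subgroup.normalizer (Y : Set G)), g ∈ K ∧ σ = fxHom Y Ω ⟨g, hn⟩ := by
  obtain ⟨⟨g, hn⟩, hg, rfl⟩ := h
  exact ⟨g, hn, hg, rfl⟩

theorem img_mono {Y K L : Subgroup G} (h : K ≤ L) : img Y Ω K ≤ img Y Ω L :=
  Subgroup.map_mono fun _ hx => h hx

theorem mem_normalizer_of_commute {Y : Subgroup G} {g : G} (h : ∀ u ∈ Y, g * u = u * g) :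
    g ∈ Subgroup.normalizer (Y : Set G) :=
  mem_normalizer_iff_cj.2 (cj_of_commute h)

theorem centralizer_le_normalizer' (Y : Subgroup G) :
    Subgroup.centralizer (Y : Set G) ≤ Subgroup.normalizer (Y : Set G) := fun _ hg =>
  mem_normalizer_of_commute fun u hu => (Subgroup.mem_centralizer_iff.1 hg u hu).symm

theorem card_img_dvd {Y : Subgroup G} (K : Subgroup G) (hK : K ≤ Subgroup.normalizer (Y : Set G)) :
    Nat.card (img Y Ω K) ∣ Nat.card K := by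
  refine (Subgroup.card_map_dvd _ _).trans ?_
  rw [Nat.card_congr (Subgroup.subgroupOfEquivOfLe hK).toEquiv]

theorem isSyl_sup {A : Type*} [Group A] [Finite A] {O V : Subgroup A} [O.Normal] (hO : Odd (Nat.card O))
    (hV : IsPGroup 2 V) : IsSyl 2 V (O ⊔ V) := by
  refine ⟨le_sup_right, hV, fun hd => ?_⟩
  have h1 : Nat.card V * V.relIndex (O ⊔ V) ∣ Nat.card O * Nat.card V := by
    rw [← card_eq_mul_relIndex le_sup_right, card_eq_mul_relIndex (le_sup_left : O ≤ O ⊔ V)]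
    refine Nat.mul_dvd_mul_left _ ?_
    rw [sup_comm, Subgroup.relIndex_sup_right]
    exact Subgroup.relIndex_dvd_card O V
  rw [mul_comm (Nat.card O)] at h1
  exact Nat.not_even_iff_odd.2 hO
    (even_iff_two_dvd.2 (hd.trans (Nat.dvd_of_mul_dvd_mul_left Nat.card_pos h1)))

variable [Finite Ω]

/-- The odd core of the image of a group with controlled fusion of `W`. -/
theorem img_core {Y K S W : Subgroup G} (hKN : K ≤ Subgroup.normalizer (Y : Set G))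
    (h3 : ¬ 3 ∣ Nat.card K) (hS : IsSyl 2 S K) (hWS : W ≤ S) (hsq : ∀ x ∈ W, x * x = 1)
    (h4 : ∃ W₀ : Subgroup G, W₀ ≤ W ∧ Nat.card W ≤ 4 * Nat.card W₀ ∧ fx Y Ω ⊆ fx W₀ Ω)
    (hfus : ∀ v ∈ W, ∀ g ∈ K, g * v * g⁻¹ ∈ S → ∃ n ∈ K, cj n W = W ∧ n * v * n⁻¹ = g * v * g⁻¹) :
    ∃ O : Subgroup (Equiv.Perm ↥(fxSub Y Ω)), O ≤ img Y Ω K ∧ Odd (Nat.card O) ∧
      (∀ σ, cj σ (img Y Ω K) = img Y Ω K → cj σ O = O) ∧
      (∀ M : Subgroup (Equiv.Perm ↥(fxSub Y Ω)), M ≤ img Y Ω K → Odd (Nat.card M) →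
        (∀ σ ∈ img Y Ω K, cj σ M = M) → M ≤ O) ∧
      (∀ σ ∈ img Y Ω K, cj σ (O ⊔ img Y Ω W) = O ⊔ img Y Ω W) ∧
      IsSyl 2 (img Y Ω W) (O ⊔ img Y Ω W) := by
  haveI : Fact (Nat.Prime 2) := ⟨Nat.prime_two⟩
  set A := img Y Ω K with hA
  set V := img Y Ω W with hV
  have hVA : V ≤ A := img_mono (hWS.trans hS.le)
  have hWN : W ≤ Subgroup.normalizer (Y : Set G) := (hWS.trans hS.le).trans hKN
  set ψ : ↥K →* Equiv.Perm ↥(fxSub Y Ω) := (fxHom Y Ω).comp (Subgroup.inclusion hKN) with hψ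
  have hψA : ∀ k : K, ψ k ∈ A := fun k => mem_img_of k.2 (hKN k.2)
  set ψA : ↥K →* ↥A := ψ.codRestrict A hψA with hψA'
  have hsurj : Function.Surjective ψA := by
    rintro ⟨σ, hσ⟩
    obtain ⟨g, hn, hg, rfl⟩ := exists_of_mem_img hσ
    exact ⟨⟨g, hg⟩, rfl⟩
  set Ss : Sylow 2 K := IsPGroup.toSylow
    (hS.isPGroup.of_equiv (Subgroup.subgroupOfEquivOfLe hS.le).symm) hS.not_dvd with hSs
  have hSsc : (Ss : Subgroup K) = S.subgroupOf K := IsPGroup.toSylow_coe _ _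
  set S₁ : Subgroup A := (Ss : Subgroup K).map ψA with hS₁
  set V₁ : Subgroup A := V.subgroupOf A with hV₁
  have hsylS : IsSyl 2 S₁ ⊤ := by
    refine ⟨le_top, Ss.isPGroup'.map _, ?_⟩
    rw [Subgroup.relIndex_top_right, hS₁, ← Sylow.coe_mapSurjective hsurj]
    exact (Ss.mapSurjective hsurj).not_dvd_index
  have hsq₁ : ∀ x ∈ V₁, x * x = 1 := by
    rintro ⟨x, hx⟩ hxV
    obtain ⟨g, hn, hg, e⟩ := exists_of_mem_img (Subgroup.mem_subgroupOf.1 hxV)
    refine Subtype.ext ?_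
    show x * x = 1
    rw [show x = fxHom Y Ω ⟨g, hn⟩ from e, ← map_mul]
    convert map_one (fxHom Y Ω)
    exact Subtype.ext (hsq g hg)
  have h4₁ : Nat.card V₁ ≤ 4 := by
    rw [Nat.card_congr (Subgroup.subgroupOfEquivOfLe hVA).toEquiv]
    obtain ⟨W₀, hW₀, hle, hfix⟩ := h4
    set ρ : ↥W →* Equiv.Perm ↥(fxSub Y Ω) := (fxHom Y Ω).comp (Subgroup.inclusion hWN) with hρ
    have hrange : V = ρ.range := by
      ext σ
      constructor
      · intro h
        obtain ⟨g, hn, hg, rfl⟩ := exists_of_mem_img h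
        exact ⟨⟨g, hg⟩, rfl⟩
      · rintro ⟨g, rfl⟩
        exact mem_img_of g.2 (hWN g.2)
    have hker : W₀.subgroupOf W ≤ ρ.ker := fun w hw => Equiv.ext fun x => Subtype.ext
      (hfix x.2 (w : G) hw)
    have h1 : Nat.card ρ.range * Nat.card ρ.ker = Nat.card W := by
      rw [← Subgroup.index_ker, mul_comm, Subgroup.card_mul_index]
    have h2 := Subgroup.card_le_of_le hker
    rw [Nat.card_congr (Subgroup.subgroupOfEquivOfLe hW₀).toEquiv] at h2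
    rw [hrange]
    have h5 : 0 < Nat.card W₀ := Nat.card_pos
    nlinarith
  have hVS₁ : V₁ ≤ S₁ := by
    rintro ⟨x, hx⟩ hxV
    obtain ⟨g, hn, hg, e⟩ := exists_of_mem_img (Subgroup.mem_subgroupOf.1 hxV)
    refine ⟨⟨g, hS.le (hWS hg)⟩, ?_, Subtype.ext e.symm⟩
    show (⟨g, hS.le (hWS hg)⟩ : K) ∈ (Ss : Subgroup K)
    rw [hSsc]; exact hWS hg
  have hfus₁ : ∀ v ∈ V₁, ∀ g : A, g * v * g⁻¹ ∈ S₁ → ∃ n : A, cj n V₁ = V₁ ∧ n * v * n⁻¹ = g * v * g⁻¹ := by
    intro v hv a ha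
    obtain ⟨w, hn, hw, e⟩ := exists_of_mem_img (Subgroup.mem_subgroupOf.1 hv)
    obtain ⟨g, rfl⟩ := hsurj a
    set wK : K := ⟨w, hS.le (hWS hw)⟩ with hwK
    have hv' : v = ψA wK := Subtype.ext e
    subst hv'
    rw [← map_inv, ← map_mul, ← map_mul] at ha
    obtain ⟨s, hs, hsg⟩ := ha
    have hkin : s⁻¹ * (g * wK * g⁻¹) ∈ ψA.ker := by
      rw [MonoidHom.mem_ker, map_mul, map_inv, hsg, inv_mul_cancel]
    have hgS : g * wK * g⁻¹ ∈ ψA.ker ⊔ (Ss : Subgroup K) := by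
      rw [show g * wK * g⁻¹ = s * (s⁻¹ * (g * wK * g⁻¹)) by group]
      exact mul_mem (Subgroup.mem_sup_right hs) (Subgroup.mem_sup_left hkin)
    have hSK : IsSyl 2 (Ss : Subgroup K) (ψA.ker ⊔ Ss) := by
      refine ⟨le_sup_right, Ss.isPGroup', fun hd => Ss.not_dvd_index (hd.trans ?_)⟩
      rw [← Subgroup.relIndex_top_right]
      exact Dvd.intro _ (Subgroup.relIndex_mul_relIndex (Ss : Subgroup K) _ ⊤ le_sup_right le_top)
    have hpg : IsPGroup 2 (Subgroup.zpowers (g * wK * g⁻¹)) := by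
      have h1 := (hS.isPGroup.to_le hWS).of_equiv
        (Subgroup.subgroupOfEquivOfLe (hWS.trans hS.le)).symm
      refine (cj_pgroup (g := g) h1).to_le (Subgroup.zpowers_le.2 (conj_mem_cj ?_))
      exact hw
    obtain ⟨k, hk, hkle⟩ := exists_cj_le hSK hpg (Subgroup.zpowers_le.2 hgS)
    obtain ⟨o, ho, t, ht, rfl⟩ := Subgroup.mem_sup_of_normal_left.1 hk
    -- move the kernel part to the right
    set o' := t⁻¹ * o * t with ho'
    have hok : o' ∈ ψA.ker := (inferInstance : ψA.ker.Normal).conj_mem' o ho t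
    have h2 : (o' * g) * wK * (o' * g)⁻¹ ∈ (Ss : Subgroup K) := by
      have h3 := hkle (conj_mem_cj (g := o * t) (Subgroup.mem_zpowers _))
      have := mul_mem (mul_mem (inv_mem ht) h3) ht
      rw [ho']
      simpa [mul_assoc] using this
    rw [hSsc, Subgroup.mem_subgroupOf] at h2
    obtain ⟨n, hnK, hnW, en⟩ := hfus w hw ((o' * g : K) : G) (o' * g).2 h2
    refine ⟨ψA ⟨n, hnK⟩, cj_eq_self ?_, ?_⟩
    · rintro ⟨x, hx⟩ hxV
      obtain ⟨u, hun, hu, eu⟩ := exists_of_mem_img (Subgroup.mem_subgroupOf.1 hxV)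
      refine Subgroup.mem_subgroupOf.2 ?_
      have hmem : n * u * n⁻¹ ∈ W := hnW ▸ conj_mem_cj hu
      have := mem_img_of (Ω := Ω) (Y := Y) hmem (hWN hmem)
      convert this using 1
      show ψ ⟨n, hnK⟩ * x * (ψ ⟨n, hnK⟩)⁻¹ = _
      rw [show x = fxHom Y Ω ⟨u, hun⟩ from eu]
      show fxHom Y Ω ⟨n, hKN hnK⟩ * _ * (fxHom Y Ω ⟨n, hKN hnK⟩)⁻¹ = _
      rw [← map_inv, ← map_mul, ← map_mul]
      rfl
    · have e2 : (⟨n, hnK⟩ : K) * wK * (⟨n, hnK⟩ : K)⁻¹ = (o' * g) * wK * (o' * g)⁻¹ := Subtype.ext en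
      have e3 := congrArg ψA e2
      simp only [map_mul, map_inv, MonoidHom.mem_ker.1 hok, one_mul, mul_inv_rev, inv_one, mul_one] at e3
      exact e3
  have hnorm := oddCore_sup_normal (fun h => h3 (h.trans (card_img_dvd K hKN))) hsylS hVS₁ hsq₁ h4₁ hfus₁
  set O := (Cfsg.oddCore A).map A.subtype with hO
  have hOA : O ≤ A := Subgroup.map_subtype_le _
  have hOodd : Odd (Nat.card O) := by
    rw [hO, Subgroup.card_map_of_injective A.subtype_injective]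
    exact ZStar.odd_card_oddCore
  have hmax : ∀ M : Subgroup (Equiv.Perm ↥(fxSub Y Ω)), M ≤ A → Odd (Nat.card M) →
      (∀ σ ∈ A, cj σ M = M) → M ≤ O := by
    intro M hM hodd hinv
    have h1 : M.subgroupOf A ≤ Cfsg.oddCore A := by
      refine ZStar.le_oddCore ⟨fun x hx g => ?_⟩ ?_
      · refine Subgroup.mem_subgroupOf.2 ?_
        show (g : Equiv.Perm ↥(fxSub Y Ω)) * x * (g : Equiv.Perm ↥(fxSub Y Ω))⁻¹ ∈ M
        rw [← hinv g g.2]
        exact conj_mem_cj hx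
      · rwa [Nat.card_congr (Subgroup.subgroupOfEquivOfLe hM).toEquiv]
    intro x hx
    exact ⟨⟨x, hM hx⟩, h1 hx, rfl⟩
  have hinvA : ∀ σ ∈ A, cj σ O = O := fun σ hσ => cj_eq_self (by
    rintro _ ⟨x, hx, rfl⟩
    exact ⟨_, (inferInstance : (Cfsg.oddCore A).Normal).conj_mem x hx ⟨σ, hσ⟩, rfl⟩)
  have hinv : ∀ σ, cj σ A = A → cj σ O = O := by
    intro σ hσ
    refine Subgroup.eq_of_le_of_card_ge (hmax _ ?_ ?_ fun τ hτ => ?_) (card_cj σ O).ge
    · conv_rhs => rw [← hσ]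
      exact cj_mono hOA
    · rw [card_cj]; exact hOodd
    · have hτ' : σ⁻¹ * τ * σ ∈ A := by rw [← mem_cj, hσ]; exact hτ
      conv_rhs => rw [← hinvA _ hτ', cj_cj]
      rw [cj_cj]
      congr 1
      group
  have hsup : (Cfsg.oddCore A ⊔ V₁).map A.subtype = O ⊔ V := by
    rw [Subgroup.map_sup, hV₁, Subgroup.map_subgroupOf_eq_of_le hVA]
  refine ⟨O, hOA, hOodd, hinv, hmax, fun σ hσ => cj_eq_self fun x hx => ?_, ?_⟩
  · rw [← hsup] at hx ⊢
    obtain ⟨y, hy, rfl⟩ := hx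
    exact ⟨_, hnorm.conj_mem y hy ⟨σ, hσ⟩, rfl⟩
  · have h1 := isSyl_sup (A := A) (O := Cfsg.oddCore A) ZStar.odd_card_oddCore
      (show IsPGroup 2 V₁ from fun x => ⟨1, Subtype.ext (by
        rw [pow_one, SubmonoidClass.coe_pow, pow_two]; exact hsq₁ x x.2)⟩)
    refine ⟨le_sup_right, ?_, ?_⟩
    · have := h1.isPGroup.map A.subtype
      rwa [hV₁, Subgroup.map_subgroupOf_eq_of_le hVA] at this
    · have h2 := h1.not_dvd
      rwa [← Subgroup.relIndex_map_map_of_injective _ _ A.subtype_injective, hsup, hV₁,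
        Subgroup.map_subgroupOf_eq_of_le hVA] at h2

namespace Frame

variable {H : Subgroup G} {a b : Ω} {P W : Subgroup G} (F : Frame H a b P W)
include F

theorem centralizes {Y : Subgroup G} (hWY : ∀ w ∈ W, ∀ u ∈ Y, w * u = u * w) :
    W ≤ S1 H a ⊓ Subgroup.centralizer (Y : Set G) := fun w hw => Subgroup.mem_inf.2
  ⟨S2_le_S1 H a b (F.W_le_S2 hw), Subgroup.mem_centralizer_iff.2 fun u hu => (hWY w hw u hu).symm⟩

/-- The odd core of the image of the centralizer of `Y` is transitive off `a`. -/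
theorem core (C : Ctx H Ω) {Y : Subgroup G} (hY : Y ≤ P) (hWY : ∀ w ∈ W, ∀ u ∈ Y, w * u = u * w)
    (h4 : ∃ W₀ : Subgroup G, W₀ ≤ W ∧ Nat.card W ≤ 4 * Nat.card W₀ ∧ fx Y Ω ⊆ fx W₀ Ω) :
    ∃ O : Subgroup (Equiv.Perm ↥(fxSub Y Ω)),
      O ≤ img Y Ω (S1 H a ⊓ Subgroup.centralizer (Y : Set G)) ∧ Odd (Nat.card O) ∧
      (∀ σ, cj σ (img Y Ω (S1 H a ⊓ Subgroup.centralizer (Y : Set G))) =
        img Y Ω (S1 H a ⊓ Subgroup.centralizer (Y : Set G)) → cj σ O = O) ∧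
      ∀ x y : ↥(fxSub Y Ω), (x : Ω) = b → (y : Ω) ≠ a → y ∈ orb O x := by
  haveI : Fact (Nat.Prime 2) := ⟨Nat.prime_two⟩
  set K := S1 H a ⊓ Subgroup.centralizer (Y : Set G) with hK
  have hKN : K ≤ Subgroup.normalizer (Y : Set G) := inf_le_right.trans (centralizer_le_normalizer' Y)
  obtain ⟨S, hS, hWS⟩ := exists_isSyl_ge 2 F.W_pgroup (F.centralizes hWY)
  have hfus : ∀ v ∈ W, ∀ g ∈ K, g * v * g⁻¹ ∈ S →
      ∃ n ∈ K, cj n W = W ∧ n * v * n⁻¹ = g * v * g⁻¹ := by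
    intro v hv g hg hgv
    obtain ⟨hgA, hgC⟩ := Subgroup.mem_inf.1 hg
    have hSP : ∀ u ∈ Y, u ∈ S ⊔ Y := fun u hu => Subgroup.mem_sup_right hu
    have hpg : IsPGroup 2 (S ⊔ Y : Subgroup G) := hS.isPGroup.to_sup_of_normal_right'
      (F.syl.isPGroup.to_le hY) (hS.le.trans hKN)
    obtain ⟨n, hnA, hnW, hn⟩ := F.ctrl hpg
      (sup_le (hS.le.trans inf_le_left) ((hY.trans F.syl.le).trans (S2_le_S1 H a b)))
      (hWS.trans le_sup_left) (A := insert v (Y : Set G))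
      (Set.insert_subset (Subgroup.mem_sup_left (hWS hv)) hSP) hgA (by
        rintro x (rfl | hx)
        · exact Subgroup.mem_sup_left hgv
        · rw [← (Subgroup.mem_centralizer_iff.1 hgC x hx), mul_inv_cancel_right]
          exact hSP x hx)
    refine ⟨n, Subgroup.mem_inf.2 ⟨hnA, Subgroup.mem_centralizer_iff.2 fun u hu => ?_⟩, hnW,
      hn v (Set.mem_insert _ _)⟩
    have h := hn u (Set.mem_insert_of_mem _ hu)
    rw [← (Subgroup.mem_centralizer_iff.1 hgC u hu), mul_inv_cancel_right, mul_inv_eq_iff_eq_mul] at h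
    exact h.symm
  have h3 : ¬ 3 ∣ Nat.card K := fun h => F.three a (h.trans (Subgroup.card_dvd_of_le inf_le_left))
  obtain ⟨O, hOA, hOodd, hinv, -, hnorm, hsyl⟩ := img_core hKN h3 hS hWS F.sq h4 hfus
  refine ⟨O, hOA, hOodd, hinv, fun x y hx hy => ?_⟩
  obtain ⟨k, hk, hkc, hkb⟩ := F.transC C hY y.2 hy
  have hkn := mem_normalizer_of_commute hkc
  set σ := fxHom Y Ω ⟨k, hkn⟩ with hσ
  have hσA : σ ∈ img Y Ω K := mem_img_of
    (Subgroup.mem_inf.2 ⟨hk, Subgroup.mem_centralizer_iff.2 fun u hu => (hkc u hu).symm⟩) hkn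
  have hσx : σ x = y := Subtype.ext (by rw [fxHom_apply, hx]; exact hkb)
  obtain ⟨l, hl, hlV⟩ := exists_cj_eq hsyl
    (show IsSyl 2 (cj σ (img Y Ω W)) (O ⊔ img Y Ω W) by
      rw [← hnorm σ hσA]; exact isSyl_cj hsyl σ)
  rw [cj_cj] at hlV
  -- `l σ x` is fixed by the image of `W`
  have hnA : ∀ {w : Equiv.Perm ↥(fxSub Y Ω)}, w ∈ img Y Ω W → w x = x := by
    intro w hw
    obtain ⟨g, hn, hg, rfl⟩ := exists_of_mem_img hw
    exact Subtype.ext (by rw [fxHom_apply, hx]; exact (mem_S2.1 (F.W_le_S2 hg)).2.2)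
  set p := (l * σ) x with hp
  have hfix : ∀ w ∈ W, w • (p : Ω) = p := by
    intro w hw
    have hwn := (F.centralizes hWY).trans hKN hw
    have h1 : fxHom Y Ω ⟨w, hwn⟩ ∈ cj (l * σ) (img Y Ω W) := by rw [hlV]; exact mem_img_of hw hwn
    have h2 := hnA (mem_cj.1 h1)
    have h3 : fxHom Y Ω ⟨w, hwn⟩ p = p := by
      conv_rhs => rw [hp, ← h2]
      simp [hp, Equiv.Perm.mul_apply]
    exact congrArg Subtype.val h3
  have hlA : ∀ τ ∈ O ⊔ img Y Ω W, τ ∈ img Y Ω K := fun τ hτ =>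
    sup_le hOA (img_mono (F.centralizes hWY)) hτ
  have hpb : p = x := by
    rcases F.fix _ hfix with h | h
    · exfalso
      obtain ⟨g, hn, hg, e⟩ := exists_of_mem_img (hlA l hl)
      have h5 : g • (y : Ω) = a := by
        rw [← h, hp, Equiv.Perm.mul_apply, hσx, e, fxHom_apply]
      exact hy (MulAction.injective g (h5.trans (mem_S1.1 (Subgroup.mem_inf.1 hg).1).2.symm))
    · exact Subtype.ext (h.trans hx.symm)
  have hl' : l⁻¹ ∈ O ⊔ img Y Ω W := inv_mem hl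
  have hWn : img Y Ω W ≤ Subgroup.normalizer (O : Set (Equiv.Perm ↥(fxSub Y Ω))) := fun w hw =>
    mem_normalizer_iff_cj.2 (hinv w (cj_eq_self fun u hu =>
      mul_mem (mul_mem (img_mono (F.centralizes hWY) hw) hu) (inv_mem (img_mono (F.centralizes hWY) hw))))
  rw [← SetLike.mem_coe, Subgroup.coe_mul_of_right_le_normalizer_left O _ hWn] at hl'
  obtain ⟨o, ho, w, hw, e⟩ := hl'
  refine ⟨o, ho, ?_⟩
  have : y = l⁻¹ x := by
    calc y = σ x := hσx.symm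
      _ = l⁻¹ p := by simp [hp, Equiv.Perm.mul_apply]
      _ = l⁻¹ x := by rw [hpb]
  rw [this, ← e]
  show o x = o (w x)
  rw [hnA hw]

end Frame

end Cfsg.Lib.Wagner
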