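import Cfsg.Agent.Lib.Wagner.Central
import Cfsg.Agent.Lib.Wagner.SmallCent

/-!
# Counting the orbits of a cyclic subgroup of index two on the fixed set of `Y`
-/

set_option autoImplicit false
set_option linter.unusedSectionVars false
set_option linter.style.haveILetI false

namespace Cfsg.Lib.Wagner

open MulAction Cfsg.Lib.Plane

universe u v

variable {G : Type u} [Group G] [Finite G] {Ω : Type v} [MulAction G Ω]

/-- If all orbits of `K` on an invariant set have a size `k` with `k * m = n`, then `n` divides `m` times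
the size of the set. -/
theorem dvd_mul_ncard_of_orbits [Finite Ω] {K : Subgroup G} {s : Set Ω} {m : ℕ}
    (hinv : ∀ k ∈ K, ∀ x ∈ s, k • x ∈ s) (hm : ∀ x ∈ s, Nat.card ↥(K ⊓ stabilizer G x) = m) :
    Nat.card K ∣ s.ncard * m := by
  classical
  haveI := Fintype.ofFinite Ω
  set t : Finset Ω := s.toFinset with ht
  rw [Set.ncard_eq_toFinset_card', ← ht, Finset.card_eq_sum_card_image (fun x => orb K x) t, Finset.sum_mul]
  refine Finset.dvd_sum fun O hO => ?_
  obtain ⟨x, hx, rfl⟩ := Finset.mem_image.1 hO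
  have hxs : x ∈ s := Set.mem_toFinset.1 hx
  have e : ((t.filter fun y => orb K y = orb K x).card) = Nat.card ↥(orb K x) := by
    rw [Nat.card_coe_set_eq, Set.ncard_eq_toFinset_card']
    congr 1
    ext y
    simp only [Finset.mem_filter, Set.mem_toFinset, ht]
    constructor
    · rintro ⟨-, hy⟩
      rw [← hy]
      exact self_mem_orb K y
    · intro hy
      obtain ⟨k, hk, rfl⟩ := hy
      refine ⟨hinv k hk x hxs, ?_⟩
      ext z
      exact ⟨fun hz => orb_trans ⟨k, hk, rfl⟩ hz, fun hz => orb_trans (orb_symm ⟨k, hk, rfl⟩) hz⟩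
  rw [e, ← hm x hxs, card_orb_mul]

namespace Frame

variable {H : Subgroup G} {a b : Ω} {P W : Subgroup G} (F : Frame H a b P W)
include F

/-- The fixed points of a four group acting on the fixed set of a subgroup. -/
theorem four_eq (C : Ctx H Ω) {Y : Subgroup G} (hY : Y ≤ P) (hWY : ∀ w ∈ W, ∀ u ∈ Y, w * u = u * w)
    (h4 : ∃ W₀ : Subgroup G, W₀ ≤ W ∧ Nat.card W ≤ 4 * Nat.card W₀ ∧ fx Y Ω ⊆ fx W₀ Ω)
    {x y : G} (hx : x ∈ W) (hy : y ∈ W)
    (honly : ∀ c ∈ fx Y Ω, x • c = c → y • c = c → c = a ∨ c = b) :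
    Nat.card ↥(fx Y Ω) - 1 = ({c ∈ fx Y Ω | x • c = c}.ncard - 1) * ({c ∈ fx Y Ω | y • c = c}.ncard - 1) *
      ({c ∈ fx Y Ω | (x * y) • c = c}.ncard - 1) := by
  haveI := C.finite
  obtain ⟨O, hOA, hOodd, hOinv, htrans⟩ := F.core C hY hWY h4
  have ha : a ∈ fx Y Ω := fun u hu => (mem_S2.1 (F.syl.le (hY hu))).2.1
  have hb : b ∈ fx Y Ω := fun u hu => (mem_S2.1 (F.syl.le (hY hu))).2.2
  set xa : ↥(fxSub Y Ω) := ⟨a, ha⟩
  set xb : ↥(fxSub Y Ω) := ⟨b, hb⟩
  have hWN : W ≤ Subgroup.normalizer (Y : Set G) := fun w hw => mem_normalizer_of_commute (hWY w hw)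
  set σx := fxHom Y Ω ⟨x, hWN hx⟩ with hσx
  set σy := fxHom Y Ω ⟨y, hWN hy⟩ with hσy
  have hVA : ∀ w (hw : w ∈ W), fxHom Y Ω ⟨w, hWN hw⟩ ∈ img Y Ω (S1 H a ⊓ Subgroup.centralizer (Y : Set G)) :=
    fun w hw => img_mono (F.centralizes hWY) (mem_img_of hw _)
  have hn : ∀ w (hw : w ∈ W), ∀ g ∈ O,
      fxHom Y Ω ⟨w, hWN hw⟩ * g * (fxHom Y Ω ⟨w, hWN hw⟩)⁻¹ ∈ O := fun w hw g hg => by
    have := conj_mem_cj (g := fxHom Y Ω ⟨w, hWN hw⟩) hg
    rwa [hOinv _ (cj_eq_self fun u hu => mul_mem (mul_mem (hVA w hw) hu) (inv_mem (hVA w hw)))] at this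
  have hsq : ∀ w (hw : w ∈ W), fxHom Y Ω ⟨w, hWN hw⟩ * fxHom Y Ω ⟨w, hWN hw⟩ = 1 := fun w hw => by
    rw [← map_mul]; convert map_one (fxHom Y Ω); exact Subtype.ext (F.sq w hw)
  have hcomm : σx * σy = σy * σx := by
    rw [hσx, hσy, ← map_mul, ← map_mul]; exact congrArg _ (Subtype.ext (F.comm x hx y hy))
  have hfb : ∀ w (hw : w ∈ W), fxHom Y Ω ⟨w, hWN hw⟩ • xb = xb := fun w hw =>
    Subtype.ext (mem_S2.1 (F.W_le_S2 hw)).2.2
  have horb : orb O xb = {xa}ᶜ := by
    ext p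
    constructor
    · rintro ⟨σ, hσ, rfl⟩ hp
      obtain ⟨g, hgn, hg, e⟩ := exists_of_mem_img (hOA hσ)
      have h := congrArg Subtype.val (Set.mem_singleton_iff.1 hp)
      rw [Equiv.Perm.smul_def, e, fxHom_apply] at h
      exact F.ne.symm (MulAction.injective g (h.trans (mem_S1.1 (Subgroup.mem_inf.1 hg).1).2.symm))
    · intro hp
      exact htrans xb p rfl fun e => hp (Subtype.ext e)
  have hcount := four_count hOodd (hsq x hx) (hsq y hy) hcomm (hn x hx) (hn y hy) (hfb x hx) (hfb y hy)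
    (fun p hp h1 h2 => by
      rcases honly p p.2 (congrArg Subtype.val h1) (congrArg Subtype.val h2) with h | h
      · rw [horb] at hp; exact absurd (Subtype.ext h) hp
      · exact Subtype.ext h)
  have hset : ∀ (w : G) (hw : w ∈ W),
      ({p ∈ orb O xb | fxHom Y Ω ⟨w, hWN hw⟩ • p = p}).ncard + 1 = {c ∈ fx Y Ω | w • c = c}.ncard := by
    intro w hw
    have e : {c ∈ fx Y Ω | w • c = c} =
        insert a (Subtype.val '' {p ∈ orb O xb | fxHom Y Ω ⟨w, hWN hw⟩ • p = p}) := by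
      ext c
      constructor
      · rintro ⟨hc, hwc⟩
        by_cases hca : c = a
        · exact Set.mem_insert_iff.2 (Or.inl hca)
        · exact Set.mem_insert_iff.2 (Or.inr ⟨⟨c, hc⟩, ⟨by
            rw [horb]; exact fun h => hca (congrArg Subtype.val (Set.mem_singleton_iff.1 h)),
            Subtype.ext hwc⟩, rfl⟩)
      · rintro (rfl | ⟨p, ⟨-, hp⟩, rfl⟩)
        · exact ⟨ha, (mem_S2.1 (F.W_le_S2 hw)).2.1⟩
        · exact ⟨p.2, congrArg Subtype.val hp⟩
    rw [e, Set.ncard_insert_of_notMem, Set.ncard_image_of_injective _ Subtype.val_injective]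
    rintro ⟨p, ⟨hp, -⟩, hpa⟩
    rw [horb] at hp
    exact hp (Subtype.ext hpa)
  have hxy : σx * σy = fxHom Y Ω ⟨x * y, hWN (mul_mem hx hy)⟩ := by rw [hσx, hσy, ← map_mul]; rfl
  rw [hxy] at hcount
  have hO1 : Nat.card ↥(orb O xb) = Nat.card ↥(fx Y Ω) - 1 := by
    rw [horb, Nat.card_coe_set_eq, Set.ncard_compl, Set.ncard_singleton]
    rfl
  rw [← hset x hx, ← hset y hy, ← hset (x * y) (mul_mem hx hy), ← hO1, hcount]
  simp only [Nat.add_sub_cancel]

end Frame

namespace Big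

variable {H : Subgroup G} {a b : Ω} {P W : Subgroup G} (B : Big H a b P W)
variable {T0 : Subgroup G} (D : TData H a b W T0)
variable {X₁ X₂ : Subgroup G} {e₁ e₂ w : G} (Q : Sq4 H a b W T0 X₁ X₂ e₁ e₂ w)
include B D Q

theorem fx_Y_sup {K : Subgroup G} (hK : Good W K a b) (hYK : X₁ ⊓ X₂ ≤ K) {e : G} (he : e ∈ K)
    (heY : e ∉ X₁ ⊓ X₂) : fx K Ω = {c ∈ fx (X₁ ⊓ X₂) Ω | e • c = c} := by
  rw [← fx_sup_zpowers, Subgroup.eq_of_le_of_card_ge (sup_le hYK (Subgroup.zpowers_le.2 he)) ?_]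
  have h1 := two_mul_card_le_of_lt (le_sup_left : X₁ ⊓ X₂ ≤ (X₁ ⊓ X₂) ⊔ Subgroup.zpowers e)
    fun h => heY (h.ge (Subgroup.mem_sup_right (Subgroup.mem_zpowers e)))
  have := B.card_Y D Q
  have := hK.card
  omega

theorem card_F : Nat.card ↥(fx (X₁ ⊓ X₂) Ω) - 1 = (Nat.card ↥(fx X₁ Ω) - 1) * (Nat.card ↥(fx X₁ Ω) - 1) *
    (Nat.card ↥(fx X₁ Ω) - 1) := by
  have F := B.frame
  obtain ⟨h1W, h2W, h3W⟩ := B.e_memW D Q
  obtain ⟨n1, -⟩ := B.e3_not D Q
  obtain ⟨g3, -, -⟩ := B.good₃ D Q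
  have hY := B.Y_le D Q
  have e1 := B.fx_Y_sup D Q Q.good₁ inf_le_left Q.e₁_mem fun h => Q.e₁_not (Subgroup.mem_inf.1 h).2
  have e2 := B.fx_Y_sup D Q Q.good₂ inf_le_right Q.e₂_mem fun h => Q.e₂_not (Subgroup.mem_inf.1 h).1
  have e3 := B.fx_Y_sup D Q g3 le_sup_left (Subgroup.mem_sup_right (Subgroup.mem_zpowers (e₁ * e₂)))
    fun h => n1 (Subgroup.mem_inf.1 h).1
  have h := F.four_eq B.ctx (hY.trans F.le) (fun x hx u hu => F.comm x hx u (hY hu))
    ⟨X₁ ⊓ X₂, hY, (B.card_Y D Q).ge, le_rfl⟩ h1W h2W fun c hc h1 h2 => by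
      refine F.fix c fun u hu => ?_
      have key : ∀ v ∈ W, v • c = c → u * v ∈ X₁ ⊓ X₂ → u • c = c := fun v hv hvc huv => by
        rw [show u = u * v * v by rw [mul_assoc, F.sq v hv, mul_one], mul_smul, hvc]
        exact hc _ huv
      rcases B.W_dec D Q hu with h | h | h | h
      · exact hc u h
      · exact key e₁ h1W h1 h
      · exact key e₂ h2W h2 h
      · exact key _ h3W (by rw [mul_smul, h2, h1]) h
  rw [h, ← e1, ← e2, ← e3]
  simp only [← Nat.card_coe_set_eq]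
  rw [B.card_fx_good D Q.good₁ Q.good₂, B.card_fx_good D Q.good₁ g3]

/-- The subgroup of index two of `S` in which the class of `w * e₂` is the only involution modulo `X₁`. -/
theorem exists_unique_sub {S : Subgroup G} (hS : IsPGroup 2 S)
    (hSC : S ≤ H ⊓ Subgroup.centralizer (X₁ : Set G)) (hTS : T0 ≤ S) :
    ∃ R : Subgroup G, R ≤ S ∧ X₁ ≤ R ∧ 2 * Nat.card R = Nat.card S ∧ w * e₂ ∈ R ∧
      ∀ s ∈ R, s * s ∈ X₁ → s ∈ X₁ ∨ s * (w * e₂) ∈ X₁ := by
  classical
  haveI : Fact (Nat.Prime 2) := ⟨Nat.prime_two⟩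
  have F := B.frame
  obtain ⟨h1W, h2W, h3W⟩ := B.e_memW D Q
  obtain ⟨hu, huW⟩ := B.W_mul D Q.w_mem Q.w_not h2W
  have hX1 := Q.good₁
  have hX1T : X₁ ≤ T0 := hX1.le.trans D.le
  have huX : w * e₂ ∉ X₁ := fun h => huW (hX1.le h)
  have hcardT := B.card_T0 D
  have hcardX := hX1.card
  rcases eq_or_lt_of_le hTS with rfl | hlt
  · refine ⟨X₁ ⊔ Subgroup.zpowers (w * e₂), sup_le hX1T (Subgroup.zpowers_le.2 hu), le_sup_left, ?_,
      Subgroup.mem_sup_right (Subgroup.mem_zpowers _), fun s hs _ => mem_sup_zpowers (B.T0_sq D) hX1T hu hs⟩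
    have h1 := two_mul_card_le_of_lt (le_sup_left : X₁ ≤ X₁ ⊔ Subgroup.zpowers (w * e₂))
      fun e => huX (e.ge (Subgroup.mem_sup_right (Subgroup.mem_zpowers _)))
    have h2 : 2 * Nat.card ↥(X₁ ⊔ Subgroup.zpowers (w * e₂)) ≤ Nat.card T0 := by
      refine two_mul_card_le_of_lt (sup_le hX1T (Subgroup.zpowers_le.2 hu)) fun e => ?_
      rcases mem_sup_zpowers (B.T0_sq D) hX1T hu (e.ge (D.le h2W)) with h | h
      · exact Q.e₂_not h
      · rw [← mul_assoc, B.T0_comm D (D.le h2W) Q.w_mem, mul_assoc, F.sq e₂ h2W, mul_one] at h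
        exact Q.w_not (hX1.le h)
    omega
  have hScomm : ∀ s ∈ S, ∀ x ∈ X₁, s * x = x * s := fun s hs x hx =>
    (Subgroup.mem_centralizer_iff.1 (Subgroup.mem_inf.1 (hSC hs)).2 x hx).symm
  set N : Subgroup ↥S := X₁.subgroupOf S with hN
  haveI : N.Normal := ⟨fun x hx g => by
    rw [hN, Subgroup.mem_subgroupOf] at hx ⊢
    simp only [Subgroup.coe_mul, Subgroup.coe_inv]
    rw [hScomm g g.2 _ hx, mul_inv_cancel_right]
    exact hx⟩
  set π := QuotientGroup.mk' N with hπ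
  have hπ1 : ∀ s : S, π s = 1 ↔ (s : G) ∈ X₁ := fun s => by
    rw [hπ, QuotientGroup.mk'_apply, QuotientGroup.eq_one_iff, hN, Subgroup.mem_subgroupOf]
  have hπeq : ∀ s t : S, π s = π t ↔ ((s : G))⁻¹ * t ∈ X₁ := fun s t => by
    rw [hπ, QuotientGroup.mk'_apply, QuotientGroup.mk'_apply, QuotientGroup.eq, hN, Subgroup.mem_subgroupOf,
      Subgroup.coe_mul, Subgroup.coe_inv]
  set sw : S := ⟨w, hTS Q.w_mem⟩ with hsw
  set se : S := ⟨e₂, hTS (D.le h2W)⟩ with hse
  have hwX : w ∉ X₁ := fun h => Q.w_not (hX1.le h)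
  have hwsq := B.T0_sq D w Q.w_mem
  have hu0 : π se ≠ 1 := fun h => Q.e₂_not ((hπ1 se).1 h)
  have hsq : π se * π se = 1 := by
    rw [← map_mul, hπ1]
    show e₂ * e₂ ∈ X₁
    rw [F.sq e₂ h2W]; exact one_mem X₁
  have hord : orderOf (π se) = 2 := orderOf_eq_prime (by rw [pow_two, hsq]) hu0
  -- the centralizer of the class of `e₂`
  have hpair : ∀ s ∈ S, (s • a = a ∧ s • b = b) ∨ (s • a = b ∧ s • b = a) → s ∈ T0 := by
    intro s hs hsab
    have hle : S ⊓ pairStab H a b ≤ pairStab H a b ⊓ Subgroup.centralizer (X₁ : Set G) := fun t ht =>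
      Subgroup.mem_inf.2 ⟨(Subgroup.mem_inf.1 ht).2, (Subgroup.mem_inf.1 (hSC (Subgroup.mem_inf.1 ht).1)).2⟩
    have he : T0 = S ⊓ pairStab H a b := Subgroup.eq_of_le_of_card_ge (le_inf hTS (D.syl.le.trans inf_le_left))
      ((B.syl_T0 D hX1).card_le (hS.to_le inf_le_left) hle)
    rw [he]
    exact Subgroup.mem_inf.2 ⟨hs, mem_pairStab.2 ⟨(Subgroup.mem_inf.1 (hSC hs)).1, hsab⟩⟩
  have hcent : Nat.card (Subgroup.centralizer ({π se} : Set (↥S ⧸ N))) ≤ 4 := by
    rw [← SetLike.coe_sort_coe, Nat.card_coe_set_eq]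
    refine (Set.ncard_le_ncard (t := ({1, π se, π sw, π sw * π se} : Set (↥S ⧸ N))) ?_ (Set.toFinite _)).trans ?_
    · intro q hq
      obtain ⟨s, rfl⟩ := QuotientGroup.mk'_surjective N q
      have hq' := Subgroup.mem_centralizer_singleton_iff.1 hq
      rw [← hπ, ← map_mul, ← map_mul, hπeq, Subgroup.coe_mul, Subgroup.coe_mul, hse] at hq'
      simp only at hq'
      set g : G := s.1 with hg
      have hgs : g ∈ S := s.2
      -- `s` preserves `{a, b}`
      have hfix : ∀ d, d = a ∨ d = b → g • d = a ∨ g • d = b := by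
        intro d hd
        have hdX : d ∈ fx X₁ Ω := fun x hx => by
          rcases hd with rfl | rfl
          exacts [F.good_mem_a hX1 x hx, F.good_mem_b hX1 x hx]
        have hgd : g • d ∈ fx X₁ Ω := smul_mem_fx_of_commute (hScomm g hgs) hdX
        have he2 : e₂ • d = d := by
          rcases hd with rfl | rfl
          exacts [F.mem_fa e₂ h2W, F.mem_fb e₂ h2W]
        refine F.outside_fix hX1 h2W Q.e₂_not hgd ?_
        have hx := hq'
        rw [mul_inv_rev, mul_assoc, ← mul_assoc] at hx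
        have h3 := hdX _ hx
        rw [mul_smul, mul_smul, mul_smul] at h3
        simp only [inv_smul_eq_iff, he2] at h3
        exact h3
      have hgT : g ∈ T0 := by
        refine hpair g hgs ?_
        rcases hfix a (Or.inl rfl) with h | h <;> rcases hfix b (Or.inr rfl) with h' | h'
        · exact absurd (MulAction.injective g (h.trans h'.symm)) F.ne
        · exact Or.inl ⟨h, h'⟩
        · exact Or.inr ⟨h, h'⟩
        · exact absurd (MulAction.injective g (h.trans h'.symm)) F.ne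
      rw [← hπ]
      simp only [Set.mem_insert_iff, Set.mem_singleton_iff, ← map_mul, hπeq, hπ1]
      show g ∈ X₁ ∨ g⁻¹ * e₂ ∈ X₁ ∨ g⁻¹ * w ∈ X₁ ∨ g⁻¹ * (w * e₂) ∈ X₁
      rw [B.T0_inv D hgT]
      by_cases hgW : g ∈ W
      · by_cases hgX : g ∈ X₁
        · exact Or.inl hgX
        · exact Or.inr (Or.inl (hyper_mul hX1.le hX1.card hgW h2W hgX Q.e₂_not))
      · have h1 := B.T0_mul_mem D hgT hgW Q.w_mem Q.w_not
        by_cases hgX : g * w ∈ X₁
        · exact Or.inr (Or.inr (Or.inl hgX))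
        · refine Or.inr (Or.inr (Or.inr ?_))
          rw [← mul_assoc]
          exact hyper_mul hX1.le hX1.card h1 h2W hgX Q.e₂_not
    · refine (Set.ncard_insert_le _ _).trans (Nat.succ_le_succ ((Set.ncard_insert_le _ _).trans
        (Nat.succ_le_succ ((Set.ncard_insert_le _ _).trans ?_))))
      rw [Set.ncard_singleton]
  have hcardS : Nat.card (↥S ⧸ N) * Nat.card X₁ = Nat.card S := by
    rw [← Nat.card_congr (Subgroup.subgroupOfEquivOfLe (hX1T.trans hTS)).toEquiv, ← hN,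
      Subgroup.card_eq_card_quotient_mul_card_subgroup N]
  have h8 : 8 ≤ Nat.card (↥S ⧸ N) := by
    have h1 := two_mul_card_le_of_lt hTS hlt.ne
    by_contra h
    have h2 : Nat.card (↥S ⧸ N) * Nat.card X₁ ≤ 7 * Nat.card X₁ := Nat.mul_le_mul_right _ (by omega)
    have : 0 < Nat.card X₁ := Nat.card_pos
    omega
  obtain ⟨C, hC, hC2, hnC⟩ := exists_cyclic_of_small (hS.to_quotient N) hord hcent h8
  haveI := hC
  haveI : C.Normal := Subgroup.normal_of_index_eq_two hC2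
  have huC : π (sw * se) ∈ C := by
    by_contra h
    have hwC : π sw ∈ C := by
      rw [map_mul, Subgroup.mul_mem_iff_of_index_two hC2] at h
      tauto
    -- then `S` preserves the fixed pair of `w`
    obtain ⟨c, hc, hwc⟩ := Q.w_gd₁
    obtain ⟨-, -, hec, hwec, hecX, honly⟩ := B.fix_two D hX1 Q.w_mem Q.w_not h2W Q.e₂_not hc hwc
    have hw1 : π sw ≠ 1 := fun e => hwX ((hπ1 sw).1 e)
    have hwC2 : π sw * π sw = 1 := by
      rw [← map_mul, hπ1]
      show w * w ∈ X₁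
      rw [hwsq]; exact one_mem X₁
    have hinv : ∀ g ∈ S, ∀ d, (d = c ∨ d = e₂ • c) → g • d = c ∨ g • d = e₂ • c := by
      intro g hg d hd
      have hdX : d ∈ fx X₁ Ω := by
        rcases hd with rfl | rfl
        exacts [hc, hecX]
      have hwd : w • d = d := by
        rcases hd with rfl | rfl
        exacts [hwc, hwec]
      have hgd : g • d ∈ fx X₁ Ω := smul_mem_fx_of_commute (hScomm g hg) hdX
      refine honly _ hgd ?_
      set sg : S := ⟨g, hg⟩
      have hconj : (⟨π sg * π sw * (π sg)⁻¹, Subgroup.Normal.conj_mem inferInstance _ hwC _⟩ : C) = ⟨π sw, hwC⟩ := by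
        refine ((cyclic_two ?_ ?_).resolve_left ?_).resolve_left ?_
        · refine Subtype.ext ?_
          show π sg * π sw * (π sg)⁻¹ * (π sg * π sw * (π sg)⁻¹) = 1
          rw [show π sg * π sw * (π sg)⁻¹ * (π sg * π sw * (π sg)⁻¹) = π sg * (π sw * π sw) * (π sg)⁻¹ by group,
            hwC2, mul_one, mul_inv_cancel]
        · exact Subtype.ext hwC2
        · intro e
          exact hw1 (conj_eq_one_iff.1 (congrArg Subtype.val e))
        · exact fun e => hw1 (congrArg Subtype.val e)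
      have e := congrArg Subtype.val hconj
      simp only at e
      rw [← map_mul, ← map_inv, ← map_mul, hπeq] at e
      simp only [Subgroup.coe_mul, Subgroup.coe_inv] at e
      have h3 := hgd _ e
      rw [show (g * w * g⁻¹)⁻¹ * w = g * w⁻¹ * (g⁻¹ * w) by group, inv_eq_of_mul_eq_one_right hwsq] at h3
      simp only [mul_smul] at h3
      have h4 := MulAction.injective g h3
      rw [smul_eq_iff_eq_inv_smul, inv_eq_of_mul_eq_one_right hwsq, hwd, inv_smul_eq_iff] at h4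
      exact h4
    obtain ⟨n, hn, hnc, hnT, hnpair⟩ := B.pair_conj D hX1 Q.w_mem Q.w_not h2W Q.e₂_not hc hwc
    have hle : cj n⁻¹ S ≤ pairStab H a b ⊓ Subgroup.centralizer (X₁ : Set G) := by
      intro y hy
      rw [mem_cj, inv_inv] at hy
      obtain ⟨g, hg, rfl⟩ : ∃ g ∈ S, y = n⁻¹ * g * n := ⟨_, hy, by group⟩
      refine Subgroup.mem_inf.2 ⟨mem_pairStab.2 ⟨mul_mem (mul_mem (inv_mem hn) (Subgroup.mem_inf.1 (hSC hg)).1) hn,
        ?_⟩, Subgroup.mem_centralizer_iff.2 fun x hx => ((((show Commute n x from hnc x hx).inv_left).mul_left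
          (hScomm g hg x hx)).mul_left (hnc x hx)).eq.symm⟩
      have key : ∀ p q : Ω, g • n • p = n • q → (n⁻¹ * g * n) • p = q := fun p q e => by
        rw [mul_smul, mul_smul, e, inv_smul_smul]
      have hne : ∀ p q : Ω, g • p = g • q → p = q := fun p q e => MulAction.injective g e
      rcases hnpair with ⟨n1, n2⟩ | ⟨n1, n2⟩ <;> rcases hinv g hg c (Or.inl rfl) with h1 | h1 <;>
        rcases hinv g hg _ (Or.inr rfl) with h2 | h2
      all_goals first
        | exact absurd (hne _ _ (h1.trans h2.symm)).symm hec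
        | (refine Or.inl ⟨key a a ?_, key b b ?_⟩ <;> simp only [n1, n2, h1, h2] <;> done)
        | (refine Or.inr ⟨key a b ?_, key b a ?_⟩ <;> simp only [n1, n2, h1, h2])
    have h5 := (B.syl_T0 D hX1).card_le (cj_pgroup hS) hle
    rw [card_cj] at h5
    have := two_mul_card_le_of_lt hTS hlt.ne
    have : 0 < Nat.card T0 := Nat.card_pos
    omega
  refine ⟨(C.comap π).map S.subtype, Subgroup.map_subtype_le _,
    fun x hx => ⟨⟨x, hTS (hX1T hx)⟩, (by
      show π _ ∈ C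
      rw [(hπ1 ⟨x, hTS (hX1T hx)⟩).2 hx]; exact one_mem C), rfl⟩, ?_, ⟨sw * se, huC, rfl⟩, ?_⟩
  · rw [Subgroup.card_map_of_injective S.subtype_injective, ← Subgroup.card_mul_index (C.comap π),
      Subgroup.index_comap_of_surjective C (QuotientGroup.mk'_surjective N), hC2, mul_comm]
  · rintro _ ⟨s, hs, rfl⟩ hss
    change π s ∈ C at hs
    have hu1 : π (sw * se) ≠ 1 := fun e => huX ((hπ1 (sw * se)).1 e)
    have hu2 : π (sw * se) * π (sw * se) = 1 := by
      rw [← map_mul, hπ1]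
      show w * e₂ * (w * e₂) ∈ X₁
      rw [B.T0_sq D _ hu]; exact one_mem X₁
    have hs2 : π s * π s = 1 := by
      rw [← map_mul, hπ1]
      exact hss
    rcases cyclic_two (x := (⟨π s, hs⟩ : C)) (y := ⟨π (sw * se), huC⟩) (Subtype.ext hs2) (Subtype.ext hu2) with
      e | e | e
    · exact Or.inl ((hπ1 s).1 (congrArg Subtype.val e))
    · exact absurd (congrArg Subtype.val e) hu1
    · refine Or.inr ?_
      have e' : π (s * (sw * se)) = 1 := by
        rw [map_mul, show π s = π (sw * se) from congrArg Subtype.val e, hu2]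
      exact (hπ1 _).1 e'

include B D Q in
/-- The counting contradiction. -/
theorem sq4_false : False := by
  classical
  haveI : Fact (Nat.Prime 2) := ⟨Nat.prime_two⟩
  haveI := B.ctx.normal
  haveI := B.ctx.finite
  have F := B.frame
  obtain ⟨h1W, h2W, h3W⟩ := B.e_memW D Q
  obtain ⟨hu, huW⟩ := B.W_mul D Q.w_mem Q.w_not h2W
  have hX1 := Q.good₁
  have hYW : X₁ ⊓ X₂ ≤ W := B.Y_le D Q
  set C := H ⊓ Subgroup.centralizer (X₁ : Set G) with hC
  have hTC : T0 ≤ C := le_inf (fun t ht => B.T0_mem_H D ht)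
    fun t ht => Subgroup.mem_centralizer_iff.2 fun x hx => (B.T0_cent_X D hX1 ht x hx).symm
  obtain ⟨S, hS, hTS⟩ := exists_isSyl_ge 2 D.syl.isPGroup hTC
  have hWS : W ≤ S := D.le.trans hTS
  obtain ⟨R, hRS, hXR, hRcard, huR, hRinv⟩ := B.exists_unique_sub D Q hS.isPGroup hS.le hTS
  have hRcomm : ∀ r ∈ R, ∀ x ∈ X₁, r * x = x * r := fun r hr x hx =>
    (Subgroup.mem_centralizer_iff.1 (Subgroup.mem_inf.1 (hS.le (hRS hr))).2 x hx).symm
  set Fs := fx (X₁ ⊓ X₂) Ω with hFs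
  set U := {d ∈ Fs | (w * e₂) • d = d} with hU
  set s := Fs \ (fx X₁ Ω ∪ U) with hs
  have hdisj : Disjoint (fx X₁ Ω) U := Set.disjoint_left.2 fun d hd hd' => (B.u2_gd D Q).2 ⟨d, hd, hd'.2⟩
  have hsub : fx X₁ Ω ∪ U ⊆ Fs := Set.union_subset (fx_anti inf_le_left) fun d hd => hd.1
  have hN : s.ncard + (Nat.card ↥(fx X₁ Ω) + Nat.card ↥(fx X₁ Ω)) = Nat.card ↥Fs := by
    have h1 := Set.ncard_sdiff_add_ncard_of_subset hsub
    rw [Set.ncard_union_eq hdisj] at h1
    rw [Nat.card_coe_set_eq Fs, ← h1, hU, hFs, B.card_fix_u2 D Q, Nat.card_coe_set_eq]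
  -- the conjugates of `w * e₂` in `R`
  have hRU : ∀ r ∈ R, ∀ d ∈ U, r • d ∈ U := by
    rintro r hr d ⟨hd, hud⟩
    have hrd : r • d ∈ Fs := smul_mem_fx_of_commute (fun y hy => hRcomm r hr y (Subgroup.mem_inf.1 hy).1) hd
    refine ⟨hrd, ?_⟩
    set v := r⁻¹ * (w * e₂) * r with hv
    have hvR : v ∈ R := mul_mem (mul_mem (inv_mem hr) huR) hr
    have hvv : v * v = 1 := by
      rw [hv, show r⁻¹ * (w * e₂) * r * (r⁻¹ * (w * e₂) * r) = r⁻¹ * ((w * e₂) * (w * e₂)) * r by group,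
        B.T0_sq D _ hu, mul_one, inv_mul_cancel]
    rcases hRinv v hvR (hvv ▸ one_mem X₁) with h | h
    · exfalso
      have e : w * e₂ = v := by
        calc w * e₂ = r * v * r⁻¹ := by rw [hv]; group
          _ = v := by rw [hRcomm r hr v h, mul_inv_cancel_right]
      exact huW (hX1.le (e ▸ h))
    · set x := v * (w * e₂) with hx
      have ev : v = x * (w * e₂) := by rw [hx, mul_assoc, B.T0_sq D _ hu, mul_one]
      by_cases hxY : x ∈ X₁ ⊓ X₂
      · have hvd : v • d = d := by rw [ev, mul_smul, hud, hd x hxY]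
        rw [← mul_smul, show w * e₂ * r = r * v by rw [hv]; group, mul_smul, hvd]
      · exfalso
        have hxe : x * e₁ ∈ X₁ ⊓ X₂ := Subgroup.mem_inf.2 ⟨mul_mem h Q.e₁_mem,
          hyper_mul Q.good₂.le Q.good₂.card (hX1.le h) h1W (fun hh => hxY (Subgroup.mem_inf.2 ⟨h, hh⟩)) Q.e₁_not⟩
        -- `v` is `w * (e₁ * e₂)` modulo `Y`
        refine B.u3_free D Q (c := r⁻¹ • d) (smul_mem_fx_of_commute
          (fun y hy => (show Commute r y from hRcomm r hr y (Subgroup.mem_inf.1 hy).1).inv_left) hd) ?_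
        have h1 : v • (r⁻¹ • d) = r⁻¹ • d := by
          rw [hv, mul_smul, mul_smul, smul_inv_smul, hud]
        have h2 : w * (e₁ * e₂) = (x * e₁) * v := by
          have hxT : x ∈ T0 := D.le (hX1.le h)
          rw [ev, B.T0_comm D hxT (D.le h1W), mul_assoc e₁, ← mul_assoc x, B.T0_sq D x hxT, one_mul, ← mul_assoc,
            B.T0_comm D Q.w_mem (D.le h1W), mul_assoc]
        rw [h2, mul_smul, h1]
        exact smul_mem_fx_of_commute
          (fun y hy => (show Commute r y from hRcomm r hr y (Subgroup.mem_inf.1 hy).1).inv_left) hd _ hxe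
  have hinv : ∀ r ∈ R, ∀ d ∈ s, r • d ∈ s := by
    rintro r hr d ⟨hd, hn⟩
    refine ⟨smul_mem_fx_of_commute (fun y hy => hRcomm r hr y (Subgroup.mem_inf.1 hy).1) hd, ?_⟩
    rintro (h | h)
    · refine hn (Or.inl ?_)
      have := smul_mem_fx_of_commute (g := r⁻¹)
        (fun y hy => (show Commute r y from hRcomm r hr y hy).inv_left) h
      rwa [inv_smul_smul] at this
    · refine hn (Or.inr ?_)
      have := hRU r⁻¹ (inv_mem hr) _ h
      rwa [inv_smul_smul] at this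
  have hstab : ∀ d ∈ s, Nat.card ↥(R ⊓ stabilizer G d) = Nat.card ↥(X₁ ⊓ X₂) := by
    rintro d ⟨hd, hn⟩
    suffices h : R ⊓ stabilizer G d = X₁ ⊓ X₂ by rw [h]
    refine le_antisymm (fun r hr => ?_) (le_inf (inf_le_left.trans hXR) (mem_fx_iff_le.1 hd))
    by_contra hrY
    obtain ⟨m, hm, -⟩ : ∃ m : ℕ, r ^ (2 ^ m) ∈ X₁ ⊓ X₂ ∧ True := by
      obtain ⟨m, hm⟩ := hS.isPGroup ⟨r, hRS (Subgroup.mem_inf.1 hr).1⟩
      refine ⟨m, ?_, trivial⟩
      have := congrArg Subtype.val hm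
      simp only [SubmonoidClass.coe_pow, Subgroup.coe_one] at this
      rw [this]
      exact one_mem _
    induction m generalizing r with
    | zero => exact hrY (by simpa using hm)
    | succ m ih =>
      by_cases h2 : r * r ∈ X₁ ⊓ X₂
      · obtain ⟨hrR, hrd⟩ := Subgroup.mem_inf.1 hr
        have hrd : r • d = d := mem_stabilizer_iff.1 hrd
        rcases hRinv r hrR (Subgroup.mem_inf.1 h2).1 with h | h
        · refine hn (Or.inl ?_)
          rw [B.fx_Y_sup D Q hX1 inf_le_left h hrY]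
          exact ⟨hd, hrd⟩
        · set x := r * (w * e₂) with hx
          have er : w * e₂ = x * r := by
            have hxT : x ∈ T0 := D.le (hX1.le h)
            have er' : r = x * (w * e₂) := by rw [hx, mul_assoc, B.T0_sq D _ hu, mul_one]
            rw [er', ← mul_assoc, B.T0_sq D x hxT, one_mul]
          by_cases hxY : x ∈ X₁ ⊓ X₂
          · refine hn (Or.inr ⟨hd, ?_⟩)
            rw [er, mul_smul, hrd, hd x hxY]
          · have hxe : e₁ * x ∈ X₁ ⊓ X₂ := Subgroup.mem_inf.2 ⟨mul_mem Q.e₁_mem h,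
              hyper_mul Q.good₂.le Q.good₂.card h1W (hX1.le h) Q.e₁_not (fun hh => hxY (Subgroup.mem_inf.2 ⟨h, hh⟩))⟩
            refine B.u3_free D Q hd ?_
            rw [show w * (e₁ * e₂) = e₁ * (w * e₂) by
              rw [← mul_assoc, B.T0_comm D Q.w_mem (D.le h1W), mul_assoc], er, ← mul_assoc, mul_smul, hrd]
            exact hd _ hxe
      · exact ih (r := r * r) (mul_mem hr hr) h2 (by rw [← pow_two, ← pow_mul, ← pow_succ']; exact hm)
  -- the order of `C`
  have horb : orb C a = fx X₁ Ω := by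
    ext x
    constructor
    · rintro ⟨k, hk, rfl⟩
      exact smul_mem_fx_of_commute
        (fun y hy => (Subgroup.mem_centralizer_iff.1 (Subgroup.mem_inf.1 hk).2 y hy).symm) (F.good_mem_a hX1)
    · intro hx
      by_cases hxa : x = a
      · exact hxa ▸ self_mem_orb C a
      · obtain ⟨c, hc, hca, hcb⟩ := hX1.fix
        obtain ⟨k, hk, hkc, hka, -⟩ := F.cTrans B.ctx (hX1.le.trans F.le) hc hca hcb hx (F.good_mem_a hX1) hxa
        exact ⟨k, Subgroup.mem_inf.2 ⟨hk, Subgroup.mem_centralizer_iff.2 fun y hy => (hkc y hy).symm⟩, hka⟩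
  have horbb : orb (C ⊓ stabilizer G a) b = fx X₁ Ω \ {a} := by
    ext x
    constructor
    · rintro ⟨k, hk, rfl⟩
      obtain ⟨hkC, hka⟩ := Subgroup.mem_inf.1 hk
      refine ⟨smul_mem_fx_of_commute
        (fun y hy => (Subgroup.mem_centralizer_iff.1 (Subgroup.mem_inf.1 hkC).2 y hy).symm) (F.good_mem_b hX1),
        fun e => F.ne.symm (MulAction.injective k (e.trans (mem_stabilizer_iff.1 hka).symm))⟩
    · rintro ⟨hx, hxa⟩
      obtain ⟨y, hy, hyc, hyb⟩ := F.transC B.ctx (hX1.le.trans F.le) hx hxa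
      exact ⟨y, Subgroup.mem_inf.2 ⟨Subgroup.mem_inf.2 ⟨(mem_S1.1 hy).1,
        Subgroup.mem_centralizer_iff.2 fun z hz => (hyc z hz).symm⟩, (mem_S1.1 hy).2⟩, hyb⟩
  have hC0 : C ⊓ stabilizer G a ⊓ stabilizer G b = S2 H a b ⊓ Subgroup.centralizer (X₁ : Set G) := by
    ext x; simp only [hC, S2, Subgroup.mem_inf]; tauto
  have hCcard : Nat.card C = Nat.card ↥(fx X₁ Ω) * ((Nat.card ↥(fx X₁ Ω) - 1) *
      Nat.card ↥(S2 H a b ⊓ Subgroup.centralizer (X₁ : Set G))) := by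
    have h1 := card_orb_mul C a
    have h2 := card_orb_mul (C ⊓ stabilizer G a) b
    rw [horb] at h1
    rw [horbb, hC0, Nat.card_coe_set_eq, Set.ncard_sdiff_singleton_of_mem (F.good_mem_a hX1),
      ← Nat.card_coe_set_eq] at h2
    rw [← h1, ← h2]
  obtain ⟨c0, hc0, hC0c⟩ : ∃ c0, Odd c0 ∧
      Nat.card ↥(S2 H a b ⊓ Subgroup.centralizer (X₁ : Set G)) = Nat.card W * c0 :=
    ⟨_, Nat.odd_iff.2 (Nat.two_dvd_ne_zero.1 (B.syl_W hX1).not_dvd), card_eq_mul_relIndex (B.syl_W hX1).le⟩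
  have hc1 : Odd (S.relIndex C) := Nat.odd_iff.2 (Nat.two_dvd_ne_zero.1 hS.not_dvd)
  have hCS := card_eq_mul_relIndex hS.le
  -- the parities
  set f := Nat.card ↥(fx X₁ Ω) with hf
  have hfeven : 2 ∣ f := by
    haveI : Fact (Nat.Prime 2) := ⟨Nat.prime_two⟩
    refine dvd_card_of_free (σ := w * e₂) (k := 1) (fun d hd => ?_)
      (by rw [pow_one, pow_two]; exact B.T0_sq D _ hu) fun d hd e => (B.u2_gd D Q).2 ⟨d, hd, e⟩
    exact smul_mem_fx_of_commute (fun x hx => hRcomm _ huR x hx) hd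
  have hfpos : 0 < f := by
    haveI : Nonempty ↥(fx X₁ Ω) := ⟨⟨a, F.good_mem_a hX1⟩⟩
    exact Nat.card_pos
  obtain ⟨g, hfg⟩ : ∃ g, f = g + 2 := ⟨f - 2, by obtain ⟨i, hi⟩ := hfeven; omega⟩
  have hg2 : 2 ∣ g := by omega
  have hFcard := B.card_F D Q
  rw [← hf] at hFcard
  have hFpos : 0 < Nat.card ↥Fs := by
    haveI : Nonempty ↥Fs := ⟨⟨a, fun y hy => F.mem_fa y (hYW hy)⟩⟩
    exact Nat.card_pos
  have hFe : Nat.card ↥Fs = (g + 1) * (g + 1) * (g + 1) + 1 := by
    rw [hfg, show g + 2 - 1 = g + 1 by omega, ← hFs] at hFcard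
    omega
  obtain ⟨o, ho, hso⟩ : ∃ o, Odd o ∧ s.ncard = f * o := by
    obtain ⟨j, rfl⟩ := hg2
    rcases Nat.eq_zero_or_pos j with rfl | hj
    · exfalso
      have h3 := F.good_three B.ctx hX1
      rw [← hf, hfg] at h3
      norm_num at h3
    obtain ⟨i, rfl⟩ : ∃ i, j = i + 1 := ⟨j - 1, by omega⟩
    refine ⟨4 * i * i + 10 * i + 5, ⟨2 * i * i + 5 * i + 2, by ring⟩, ?_⟩
    rw [hFe, hfg] at hN
    rw [hfg]
    nlinarith [hN]
  obtain ⟨k, hk⟩ := dvd_mul_ncard_of_orbits hinv hstab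
  have h4 := B.card_Y D Q
  rw [hso] at hk
  rw [hCcard, hC0c] at hCS
  have key : Nat.card S * (o * S.relIndex C) = Nat.card S * (2 * (k * ((f - 1) * c0))) := by
    calc Nat.card S * (o * S.relIndex C) = (Nat.card S * S.relIndex C) * o := by ring
      _ = f * ((f - 1) * (Nat.card W * c0)) * o := by rw [hCS]
      _ = 4 * (f * o * Nat.card ↥(X₁ ⊓ X₂)) * ((f - 1) * c0) := by rw [← h4]; ring
      _ = 2 * (2 * Nat.card R) * k * ((f - 1) * c0) := by rw [hk]; ring
      _ = Nat.card S * (2 * (k * ((f - 1) * c0))) := by rw [hRcard]; ring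
  have e := Nat.eq_of_mul_eq_mul_left Nat.card_pos key
  have : Odd (o * S.relIndex C) := ho.mul hc1
  rw [e] at this
  exact absurd this (Nat.not_odd_iff_even.2 (even_two_mul _))

omit D Q in
theorem elim : False := by
  obtain ⟨T0, D⟩ := B.exists_tdata
  obtain ⟨X₁, X₂, e₁, e₂, w, Q⟩ := B.exists_sq4 D
  exact B.sq4_false D Q

end Big

end Cfsg.Lib.Wagner
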