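import Cfsg.Agent.Lib.Wagner.Basic

/-!
# Descent to the fixed set of a subgroup of a three-point stabilizer
-/

set_option autoImplicit false
set_option linter.unusedSectionVars false
set_option linter.style.haveILetI false

namespace Cfsg.Lib.Wagner

open MulAction Cfsg.Lib.Plane

universe u v

/-- The bound holds for all degrees below `n`. -/
def Below (n : ℕ) : Prop :=
  ∀ (G' : Type v) [Group G'] [Finite G'] (Ω' : Type v) [MulAction G' Ω'] (H' : Subgroup G'),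
    Ctx H' Ω' → Nat.card Ω' < n → Two H' Ω'

variable {G : Type u} [Group G] {Ω : Type v} [MulAction G Ω]

/-- A set invariant under a group, as a `SubMulAction`. -/
def invSet (K : Subgroup G) (F : Set Ω) (h : ∀ k ∈ K, ∀ x ∈ F, k • x ∈ F) : SubMulAction K Ω where
  carrier := F
  smul_mem' k x hx := h k k.2 x hx

/-- A non-trivial `p`-element without fixed points makes an invariant set divisible by `p`. -/
theorem dvd_card_of_free [Finite G] [Finite Ω] {p : ℕ} [hp : Fact p.Prime] {σ : G} {F : Set Ω}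
    (hF : ∀ x ∈ F, σ • x ∈ F) {k : ℕ} (hσ : σ ^ p ^ k = 1) (hfree : ∀ x ∈ F, σ • x ≠ x) :
    p ∣ Nat.card ↥F := by
  set K := Subgroup.zpowers σ with hK
  have hKF : ∀ g ∈ K, ∀ x ∈ F, g • x ∈ F := by
    intro g hg
    obtain ⟨i, rfl⟩ := (mem_powers_iff_mem_zpowers.2 hg : g ∈ Submonoid.powers σ)
    clear hg
    induction i with
    | zero => intro x hx; simpa using hx
    | succ i ih =>
      intro x hx
      show σ ^ (i + 1) • x ∈ F
      rw [pow_succ, mul_smul]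
      exact ih _ (hF x hx)
  have hKp : IsPGroup p K := by
    obtain ⟨j, -, hj⟩ := (Nat.dvd_prime_pow hp.out).1 (orderOf_dvd_of_pow_eq_one hσ)
    exact IsPGroup.of_card (n := j) (by rw [hK, Nat.card_zpowers, hj])
  have hmod := hKp.card_modEq_card_fixedPoints ↥(invSet K F hKF)
  have h0 : IsEmpty (fixedPoints K ↥(invSet K F hKF)) := by
    refine ⟨fun x => hfree x.1.1 x.1.2 ?_⟩
    exact congrArg Subtype.val (x.2 ⟨σ, Subgroup.mem_zpowers σ⟩)
  rw [Nat.card_of_isEmpty (α := fixedPoints K ↥(invSet K F hKF))] at hmod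
  exact Nat.modEq_zero_iff_dvd.1 hmod

theorem Two.of_pair {H : Subgroup G} (C : Ctx H Ω) {a b : Ω} (hab : a ≠ b)
    (h : ∀ c₁ c₂ c₃ : Ω, c₁ ≠ a → c₁ ≠ b → c₂ ≠ a → c₂ ≠ b → c₃ ≠ a → c₃ ≠ b →
      Col H a b c₁ c₂ ∨ Col H a b c₁ c₃ ∨ Col H a b c₂ c₃) : Two H Ω := by
  haveI := C.normal
  intro a' b' x y z hab' hxa hxb hya hyb hza hzb
  obtain ⟨g, hga, hgb⟩ := C.exists2 hab hab'
  have hg : ∀ {t : Ω} {e : Ω}, t ≠ g • e → g⁻¹ • t ≠ e := fun hne he => hne (inv_smul_eq_iff.1 he)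
  subst hga hgb
  have key : ∀ {t w : Ω}, Col H a b (g⁻¹ • t) (g⁻¹ • w) → Col H (g • a) (g • b) t w := by
    intro t w htw
    have := htw.smul g
    rwa [smul_inv_smul, smul_inv_smul] at this
  rcases h _ _ _ (hg hxa) (hg hxb) (hg hya) (hg hyb) (hg hza) (hg hzb) with h1 | h1 | h1
  · exact Or.inl (key h1)
  · exact Or.inr (Or.inl (key h1))
  · exact Or.inr (Or.inr (key h1))

/-- Witt's condition: a subgroup of the stabilizer of `a, b, c` in `H` which is determined up to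
conjugacy by these points. -/
structure Witt (H : Subgroup G) (U : Subgroup G) (a b c : Ω) : Prop where
  le : U ≤ S3 H a b c
  witt : ∀ g : G, g • a ∈ fx U Ω → g • b ∈ fx U Ω → g • c ∈ fx U Ω →
    ∃ d ∈ S3 H (g • a) (g • b) (g • c), cj (d * g) U = U

namespace Witt

variable [Finite G] {H U : Subgroup G} {a b c : Ω} (W : Witt H U a b c)
include W

theorem mem_fa : a ∈ fx U Ω := fun _ hu => (mem_S3.1 (W.le hu)).2.1

theorem mem_fb : b ∈ fx U Ω := fun _ hu => (mem_S3.1 (W.le hu)).2.2.1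

theorem mem_fc : c ∈ fx U Ω := fun _ hu => (mem_S3.1 (W.le hu)).2.2.2

theorem exists_normalizer (C : Ctx H Ω) (hab : a ≠ b) (hac : a ≠ c) (hbc : b ≠ c) {x y z : Ω}
    (hx : x ∈ fx U Ω) (hy : y ∈ fx U Ω) (hz : z ∈ fx U Ω) (hxy : x ≠ y) (hxz : x ≠ z) (hyz : y ≠ z) :
    ∃ n ∈ Subgroup.normalizer (U : Set G), n • a = x ∧ n • b = y ∧ n • c = z := by
  obtain ⟨g, rfl, rfl, rfl⟩ := C.exists3 hab hac hbc hxy hxz hyz
  obtain ⟨d, hd, hdg⟩ := W.witt g hx hy hz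
  obtain ⟨-, h1, h2, h3⟩ := mem_S3.1 hd
  exact ⟨d * g, mem_normalizer_iff_cj.2 hdg, by rw [mul_smul, h1], by rw [mul_smul, h2], by rw [mul_smul, h3]⟩

theorem exists_rotation (C : Ctx H Ω) (hab : a ≠ b) (hac : a ≠ c) (hbc : b ≠ c) :
    ∃ h ∈ H, h ∈ Subgroup.normalizer (U : Set G) ∧ h • a = b ∧ h • b = c ∧ h • c = a := by
  obtain ⟨h, hh, h1, h2, h3⟩ := C.rotate hab hac hbc
  obtain ⟨d, hd, hdg⟩ := W.witt h (h1 ▸ W.mem_fb) (h2 ▸ W.mem_fc) (h3 ▸ W.mem_fa)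
  obtain ⟨hdH, d1, d2, d3⟩ := mem_S3.1 hd
  exact ⟨d * h, mul_mem hdH hh, mem_normalizer_iff_cj.2 hdg, by rw [mul_smul, d1, h1],
    by rw [mul_smul, d2, h2], by rw [mul_smul, d3, h3]⟩

/-- The fixed set has size divisible by three. -/
theorem three_dvd_fx (C : Ctx H Ω) (hab : a ≠ b) (hac : a ≠ c) (hbc : b ≠ c)
    (h3 : ∀ x : Ω, ¬ 3 ∣ Nat.card (S1 H x)) : 3 ∣ Nat.card ↥(fx U Ω) := by
  haveI := C.finite
  haveI : Fact (Nat.Prime 3) := ⟨Nat.prime_three⟩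
  obtain ⟨h, hh, hn, h1, h2, h3'⟩ := W.exists_rotation C hab hac hbc
  obtain ⟨m, hm, k, hk⟩ := exists_p_part 3 h
  have hne : h ^ m ≠ 1 := by
    intro he
    have hcube : (h ^ 3) • a = a := by
      simp only [pow_succ, pow_zero, one_mul, mul_smul, h1, h2, h3']
    have hmem : h ^ 3 ∈ stabilizer G a := hcube
    have hm3 : m % 3 = 1 ∨ m % 3 = 2 := by
      have : ¬ 3 ∣ m := (Nat.prime_three.coprime_iff_not_dvd).1 hm.symm
      omega
    have hdec : (h ^ (m % 3)) • a = a := by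
      have e : h ^ m = h ^ (m % 3) * (h ^ 3) ^ (m / 3) := by rw [← pow_mul, ← pow_add, Nat.mod_add_div]
      have e2 := congrArg (fun g : G => g • a) e
      simp only [he, one_smul, mul_smul] at e2
      rw [mem_stabilizer_iff.1 (pow_mem hmem (m / 3))] at e2
      exact e2.symm
    rcases hm3 with hr | hr <;> rw [hr] at hdec
    · rw [pow_one, h1] at hdec; exact hab hdec.symm
    · simp only [pow_succ, pow_zero, one_mul, mul_smul, h1, h2] at hdec; exact hac hdec.symm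
  refine dvd_card_of_free (σ := h ^ m) (fun x hx => smul_mem_fx (pow_mem hn m) hx) hk ?_
  intro x _ hfix
  refine h3 x ?_
  have hdvd : orderOf (h ^ m) ∣ Nat.card (S1 H x) :=
    Subgroup.orderOf_dvd_natCard _ (mem_S1.2 ⟨pow_mem hh m, hfix⟩)
  obtain ⟨j, -, hj⟩ := (Nat.dvd_prime_pow Nat.prime_three).1 (orderOf_dvd_of_pow_eq_one hk)
  have hj0 : j ≠ 0 := fun e => hne (orderOf_eq_one_iff.1 (by rw [hj, e, pow_zero]))
  exact (dvd_pow_self 3 hj0).trans (hj ▸ hdvd)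

/-- Descent. -/
theorem two (C : Ctx H Ω) (hI : Below.{v} (Nat.card Ω)) (hab : a ≠ b) (hac : a ≠ c) (hbc : b ≠ c)
    (hU : U ≠ ⊥)
    (hmove : ∀ g : G, g • a = a → g • b = b → ∃ k ∈ S2 H a b, cj (k * g) U = U)
    (h3F : 3 ∣ Nat.card ↥(fx U Ω)) : Two H Ω := by
  classical
  haveI := C.normal
  haveI := C.faithful
  haveI := C.finite
  -- every colour meets the fixed set
  have hmeet : ∀ d, d ≠ a → d ≠ b → ∃ d', d' ∈ fx U Ω ∧ d' ≠ a ∧ d' ≠ b ∧ Col H a b d d' := by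
    intro d hda hdb
    obtain ⟨g, hga, hgb, hgc⟩ := C.exists_move hab hac.symm hbc.symm hda hdb
    obtain ⟨k, hk, hkg⟩ := hmove g hga hgb
    obtain ⟨-, hka, hkb⟩ := mem_S2.1 hk
    refine ⟨k • d, ?_, fun e => hda (MulAction.injective k (e.trans hka.symm)),
      fun e => hdb (MulAction.injective k (e.trans hkb.symm)), ⟨k, hk, rfl⟩⟩
    rw [← hgc, ← mul_smul]
    exact smul_mem_fx (mem_normalizer_iff_cj.2 hkg) W.mem_fc
  refine Two.of_pair C hab fun c₁ c₂ c₃ h1a h1b h2a h2b h3a h3b => ?_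
  obtain ⟨d₁, m1, n1a, n1b, k1⟩ := hmeet c₁ h1a h1b
  obtain ⟨d₂, m2, n2a, n2b, k2⟩ := hmeet c₂ h2a h2b
  obtain ⟨d₃, m3, n3a, n3b, k3⟩ := hmeet c₃ h3a h3b
  suffices Col H a b d₁ d₂ ∨ Col H a b d₁ d₃ ∨ Col H a b d₂ d₃ by
    rcases this with h | h | h
    · exact Or.inl ((k1.trans h).trans k2.symm)
    · exact Or.inr (Or.inl ((k1.trans h).trans k3.symm))
    · exact Or.inr (Or.inr ((k2.trans h).trans k3.symm))
  by_cases hsmall : Nat.card ↥(fx U Ω) = 3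
  · have hsub : ({a, b, d₁} : Set Ω) ⊆ fx U Ω := by
      rintro x (rfl | rfl | rfl)
      exacts [W.mem_fa, W.mem_fb, m1]
    have h3c : ({a, b, d₁} : Set Ω).ncard = 3 := by
      rw [Set.ncard_insert_of_notMem (by simp [hab, n1a.symm]), Set.ncard_pair n1b.symm]
    have heq := Set.eq_of_subset_of_ncard_le hsub (by rw [h3c, ← Nat.card_coe_set_eq, hsmall])
    rw [← heq] at m2
    rcases m2 with h | h | h
    · exact absurd h n2a
    · exact absurd h n2b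
    · exact Or.inl ((Set.mem_singleton_iff.1 h) ▸ Col.refl H a b d₁)
  -- the action of the normalizer on the fixed set
  set N := Subgroup.normalizer (U : Set G) with hN
  set X := invSet N (fx U Ω) (fun k hk x hx => smul_mem_fx hk hx) with hX
  set f : N →* Equiv.Perm ↥X := toPermHom N ↥X with hf
  set G' := f.range with hG'
  set H' : Subgroup G' := (H.subgroupOf N).map f.rangeRestrict with hH'
  haveI hn' : (H.subgroupOf N).Normal := inferInstance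
  have hcardX : Nat.card ↥X = Nat.card ↥(fx U Ω) := rfl
  have h3pos : 3 < Nat.card ↥X := by
    rw [hcardX]
    have hpos : 0 < Nat.card ↥(fx U Ω) := by
      haveI : Nonempty ↥(fx U Ω) := ⟨⟨a, W.mem_fa⟩⟩
      exact Nat.card_pos
    omega
  have hlt : Nat.card ↥X < Nat.card Ω := by
    rw [hcardX, Nat.card_coe_set_eq, ← Set.ncard_univ]
    refine Set.ncard_lt_ncard ⟨Set.subset_univ _, fun h => hU ?_⟩
    rw [Subgroup.eq_bot_iff_forall]
    intro u hu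
    exact FaithfulSMul.eq_of_smul_eq_smul (α := Ω) fun x => by rw [one_smul]; exact h (Set.mem_univ x) u hu
  have hCtx : Ctx H' ↥X := by
    refine ⟨inferInstance, ?_, hcardX ▸ h3F, h3pos, ?_, ?_⟩
    · constructor
      intro x y
      have ne : ∀ (z : Fin 3 ↪ ↥X) {i j : Fin 3}, i ≠ j → ((z i : ↥X) : Ω) ≠ z j := fun z i j hij e =>
        hij (z.injective (Subtype.ext e))
      obtain ⟨n, hn, e1, e2, e3⟩ := W.exists_normalizer C hab hac hbc (x 0).2 (x 1).2 (x 2).2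
        (ne x (by decide)) (ne x (by decide)) (ne x (by decide))
      obtain ⟨m, hm, f1, f2, f3⟩ := W.exists_normalizer C hab hac hbc (y 0).2 (y 1).2 (y 2).2
        (ne y (by decide)) (ne y (by decide)) (ne y (by decide))
      refine ⟨⟨f (⟨m * n⁻¹, mul_mem hm (inv_mem hn)⟩ : N), _, rfl⟩, ?_⟩
      refine Function.Embedding.ext fun i => Subtype.ext ?_
      show (m * n⁻¹) • ((x i : ↥X) : Ω) = y i
      fin_cases i
      · rw [mul_smul]; simp [← e1, f1]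
      · rw [mul_smul]; simp [← e2, f2]
      · rw [mul_smul]; simp [← e3, f3]
    · exact hn'.map _ f.rangeRestrict_surjective
    · intro hbot
      obtain ⟨h, hh, hn, h1, -, -⟩ := W.exists_rotation C hab hac hbc
      have hm : f.rangeRestrict ⟨h, hn⟩ ∈ H' := ⟨⟨h, hn⟩, hh, rfl⟩
      rw [hbot, Subgroup.mem_bot] at hm
      have h2 := congrArg (fun σ : G' => ((σ : Equiv.Perm ↥X) ⟨a, W.mem_fa⟩ : Ω)) hm
      exact hab (h2.symm.trans h1)
  have key : ∀ {d e : Ω} (hd : d ∈ fx U Ω) (he : e ∈ fx U Ω),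
      Col H' (⟨a, W.mem_fa⟩ : ↥X) ⟨b, W.mem_fb⟩ ⟨d, hd⟩ ⟨e, he⟩ → Col H a b d e := by
    intro d e hd he hcol
    obtain ⟨_, ⟨⟨h, hn⟩, hh, rfl⟩, e1, e2, e3⟩ := hcol.exists'
    exact Col.mk hh (congrArg Subtype.val e1) (congrArg Subtype.val e2) (congrArg Subtype.val e3)
  have hne : ∀ {d : Ω} (hd : d ∈ fx U Ω) {e : Ω} (he : e ∈ fx U Ω), d ≠ e →
      (⟨d, hd⟩ : ↥X) ≠ ⟨e, he⟩ := fun {_} _ {_} _ hde heq => hde (congrArg Subtype.val heq)
  rcases hI _ ↥X H' hCtx hlt ⟨a, W.mem_fa⟩ ⟨b, W.mem_fb⟩ ⟨d₁, m1⟩ ⟨d₂, m2⟩ ⟨d₃, m3⟩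
      (hne _ _ hab) (hne _ _ n1a) (hne _ _ n1b) (hne _ _ n2a) (hne _ _ n2b) (hne _ _ n3a) (hne _ _ n3b)
    with h | h | h
  · exact Or.inl (key m1 m2 h)
  · exact Or.inr (Or.inl (key m1 m3 h))
  · exact Or.inr (Or.inr (key m2 m3 h))

end Witt

namespace Ctx

variable [Finite G] {H : Subgroup G} (C : Ctx H Ω)
include C

/-- A Sylow subgroup of a three-point stabilizer whose prime does not divide the orbit length. -/
theorem sylow_data {q : ℕ} [Fact q.Prime] {a b c : Ω} {U : Subgroup G}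
    (hU : IsSyl q U (S3 H a b c)) (hr : ¬ q ∣ Nat.card ↥(orb (S2 H a b) c)) :
    Witt H U a b c ∧ (∀ g : G, g • a = a → g • b = b → ∃ k ∈ S2 H a b, cj (k * g) U = U) := by
  haveI := C.normal
  have hU2 : IsSyl q U (S2 H a b) := by
    refine ⟨hU.le.trans (S3_le_S2 H a b c), hU.isPGroup, fun hd => ?_⟩
    rw [← Subgroup.relIndex_mul_relIndex U _ _ hU.le (S3_le_S2 H a b c)] at hd
    rcases (Fact.out : q.Prime).dvd_mul.1 hd with h | h
    · exact hU.not_dvd h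
    · refine hr ?_
      rwa [show S3 H a b c = S2 H a b ⊓ stabilizer G c from rfl, relIndex_stabilizer] at h
  refine ⟨⟨hU.le, fun g ha hb hc => ?_⟩, fun g ha hb => ?_⟩
  · have h1 : IsSyl q (cj g U) (S3 H (g • a) (g • b) (g • c)) := by
      rw [← cj_S3]; exact isSyl_cj hU g
    have h2 : IsSyl q U (S3 H (g • a) (g • b) (g • c)) := by
      refine isSyl_of_card h1 hU.isPGroup (fun u hu => mem_S3.2 ⟨(mem_S3.1 (hU.le hu)).1, ha u hu, hb u hu, hc u hu⟩) ?_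
      rw [card_cj]
    obtain ⟨d, hd, hdg⟩ := exists_cj_eq h2 h1
    exact ⟨d, hd, by rw [← cj_cj]; exact hdg⟩
  · have h1 : IsSyl q (cj g U) (S2 H a b) := by
      have := isSyl_cj hU2 g
      rwa [cj_S2, ha, hb] at this
    obtain ⟨k, hk, hkg⟩ := exists_cj_eq hU2 h1
    exact ⟨k, hk, by rw [← cj_cj]; exact hkg⟩

theorem two_of_three (hI : Below.{v} (Nat.card Ω)) {a b c : Ω} (hab : a ≠ b) (hac : a ≠ c) (hbc : b ≠ c)
    (h3 : 3 ∣ Nat.card (S3 H a b c)) : Two H Ω := by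
  haveI := C.finite
  haveI : Fact (Nat.Prime 3) := ⟨Nat.prime_three⟩
  obtain ⟨U, hU⟩ := exists_isSyl 3 (S3 H a b c)
  obtain ⟨W, hmove⟩ := C.sylow_data hU (C.not_three_dvd_orb hab hac.symm hbc.symm)
  refine W.two C hI hab hac hbc ((dvd_card_iff_isSyl_ne_bot hU).1 h3) hmove ?_
  have hmod := hU.isPGroup.card_modEq_card_fixedPoints Ω
  have heq : Nat.card (fixedPoints U Ω) = Nat.card ↥(fx U Ω) :=
    Nat.card_congr (Equiv.subtypeEquivRight fun x => ⟨fun h u hu => h ⟨u, hu⟩, fun h u => h u u.2⟩)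
  rw [heq] at hmod
  have hd := C.dvd3
  have : Nat.card Ω % 3 = Nat.card ↥(fx U Ω) % 3 := hmod
  omega

theorem not_three_dvd (hI : Below.{v} (Nat.card Ω)) (hT : ¬ Two H Ω) (x : Ω) :
    ¬ 3 ∣ Nat.card (S1 H x) := by
  obtain ⟨y, hyx, -⟩ := C.exists_third x x
  obtain ⟨z, hzx, hzy⟩ := C.exists_third x y
  intro h
  rw [C.card_S1_eq hyx.symm, C.card_S2_eq x y z] at h
  rcases Nat.prime_three.dvd_mul.1 h with h | h
  · have := C.dvd3
    have := C.lt
    omega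
  rcases Nat.prime_three.dvd_mul.1 h with h | h
  · exact C.not_three_dvd_orb hyx.symm hzx hzy h
  · exact hT (C.two_of_three hI hyx.symm hzx.symm hzy.symm h)

/-- Primes of a three-point stabilizer divide the orbit length. -/
theorem dvd_orb_of_dvd_S3 (hI : Below.{v} (Nat.card Ω)) (hT : ¬ Two H Ω) {q : ℕ} [Fact q.Prime]
    {a b c : Ω} (hab : a ≠ b) (hac : a ≠ c) (hbc : b ≠ c) (hq : q ∣ Nat.card (S3 H a b c)) :
    q ∣ Nat.card ↥(orb (S2 H a b) c) := by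
  by_contra hr
  obtain ⟨U, hU⟩ := exists_isSyl q (S3 H a b c)
  obtain ⟨W, hmove⟩ := C.sylow_data hU hr
  exact hT (W.two C hI hab hac hbc ((dvd_card_iff_isSyl_ne_bot hU).1 hq) hmove
    (W.three_dvd_fx C hab hac hbc (C.not_three_dvd hI hT)))

theorem odd_S2_of_odd_orb (hI : Below.{v} (Nat.card Ω)) (hT : ¬ Two H Ω)
    {a b c : Ω} (hab : a ≠ b) (hac : a ≠ c) (hbc : b ≠ c) (hr : Odd (Nat.card ↥(orb (S2 H a b) c))) :
    Odd (Nat.card (S2 H a b)) := by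
  haveI : Fact (Nat.Prime 2) := ⟨Nat.prime_two⟩
  rw [C.card_S2_eq a b c]
  refine hr.mul ?_
  by_contra h
  rw [Nat.not_odd_iff_even, even_iff_two_dvd] at h
  have := C.dvd_orb_of_dvd_S3 hI hT hab hac hbc h
  exact (Nat.not_even_iff_odd.2 hr) (even_iff_two_dvd.2 this)

/-- Symmetry and odd orbit length leave one colour. -/
theorem col_of_sym_odd (hs : Sym H Ω) {a b c₁ c₂ : Ω} (hab : a ≠ b) (h1a : c₁ ≠ a) (h1b : c₁ ≠ b)
    (h2a : c₂ ≠ a) (h2b : c₂ ≠ b) (hodd : Odd (Nat.card ↥(orb (S2 H a b) c₁))) : Col H a b c₁ c₂ := by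
  haveI : Fact (Nat.Prime 2) := ⟨Nat.prime_two⟩
  haveI := C.normal
  by_contra hne
  set M := pairStab H a b with hM
  have hswap : ∀ c, c ≠ a → c ≠ b → ∃ s ∈ M ⊓ stabilizer G c, s • a = b := by
    intro c hca hcb
    obtain ⟨h, hh, e1, e2, e3⟩ := hs a b c hab hca.symm hcb.symm
    exact ⟨h, ⟨mem_pairStab.2 ⟨hh, Or.inr ⟨e1, e2⟩⟩, e3⟩, e1⟩
  have hidx : ∀ c, c ≠ a → c ≠ b → (M ⊓ stabilizer G c).relIndex M = Nat.card ↥(orb (S2 H a b) c) := by
    intro c hca hcb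
    rw [relIndex_stabilizer]
    congr 2
    refine le_antisymm ?_ (orb_mono (S2_le_pairStab H a b) c)
    rintro _ ⟨k, hk, rfl⟩
    rcases (mem_pairStab.1 hk) with ⟨hkH, ⟨ka, kb⟩ | ⟨ka, kb⟩⟩
    · exact ⟨k, mem_S2.2 ⟨hkH, ka, kb⟩, rfl⟩
    · obtain ⟨s, hs', hsa⟩ := hswap c hca hcb
      obtain ⟨hsM, hsc⟩ := Subgroup.mem_inf.1 hs'
      obtain ⟨hsH, ⟨sa, -⟩ | ⟨sa, sb⟩⟩ := mem_pairStab.1 hsM
      · exact absurd (sa.symm.trans hsa) hab
      refine ⟨k * s, mem_S2.2 ⟨mul_mem hkH hsH, by rw [mul_smul, sa, kb], by rw [mul_smul, sb, ka]⟩, ?_⟩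
      rw [mul_smul, mem_stabilizer_iff.1 hsc]
  -- Sylow subgroups of the stabilizers of a point in the pair stabilizer are Sylow in it
  have hsylc : ∀ c, c ≠ a → c ≠ b → ¬ 2 ∣ Nat.card ↥(orb (S2 H a b) c) →
      ∀ T, IsSyl 2 T (M ⊓ stabilizer G c) → IsSyl 2 T M := by
    intro c hca hcb hr T hT
    refine ⟨hT.le.trans inf_le_left, hT.isPGroup, fun hd => ?_⟩
    rw [← Subgroup.relIndex_mul_relIndex T _ M hT.le inf_le_left, hidx c hca hcb] at hd
    exact (Nat.prime_two.dvd_mul.1 hd).elim hT.not_dvd hr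
  have hr1 : ¬ 2 ∣ Nat.card ↥(orb (S2 H a b) c₁) := fun h =>
    Nat.not_even_iff_odd.2 hodd (even_iff_two_dvd.2 h)
  obtain ⟨T, hT⟩ := exists_isSyl 2 (M ⊓ stabilizer G c₁)
  have hTM := hsylc c₁ h1a h1b hr1 T hT
  obtain ⟨T', hT'⟩ := exists_isSyl 2 (M ⊓ stabilizer G c₂)
  have hT'M := hsylc c₂ h2a h2b (by rwa [C.card_orb_eq hab h2a h2b h1a h1b]) T' hT'
  obtain ⟨k, hk, hkT⟩ := exists_cj_eq hTM hT'M
  -- `T` fixes a point in the colour of `c₂`
  have hcol : Col H a b c₂ (k • c₂) := by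
    have hmem : k • c₂ ∈ orb M c₂ := ⟨k, hk, rfl⟩
    have h1 : orb (S2 H a b) c₂ ⊆ orb M c₂ := orb_mono (S2_le_pairStab H a b) c₂
    have h2 := hidx c₂ h2a h2b
    rw [relIndex_stabilizer] at h2
    haveI := C.finite
    rw [Nat.card_coe_set_eq, Nat.card_coe_set_eq] at h2
    rwa [← Set.eq_of_subset_of_ncard_le h1 h2.le (Set.toFinite _)] at hmem
  have hne' : c₁ ≠ k • c₂ := fun e => hne (e ▸ hcol).symm
  have hfix2 : ∀ t ∈ T, t • (k • c₂) = k • c₂ := by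
    intro t ht
    rw [← hkT, mem_cj] at ht
    have := mem_stabilizer_iff.1 (Subgroup.mem_inf.1 (hT'.le ht)).2
    rwa [mul_smul, mul_smul, inv_smul_eq_iff] at this
  have hTle : T ≤ S2 H c₁ (k • c₂) := fun t ht =>
    mem_S2.2 ⟨(mem_pairStab.1 (hTM.le ht)).1, (Subgroup.mem_inf.1 (hT.le ht)).2, hfix2 t ht⟩
  obtain ⟨g, hga, hgb⟩ := C.exists2 hab hne'
  have hdvd : Nat.card T ∣ Nat.card (S2 H a b) := by
    have := Subgroup.card_dvd_of_le hTle
    rwa [← hga, ← hgb, ← cj_S2, card_cj] at this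
  obtain ⟨s, hs', hsa⟩ := hswap c₁ h1a h1b
  have hMcard : Nat.card (S2 H a b) * 2 ∣ Nat.card M := by
    rw [card_eq_mul_relIndex (S2_le_pairStab H a b)]
    refine Nat.mul_dvd_mul_left _ ?_
    have h2 : Nat.card ↥(orb M a) = 2 := by
      rw [Nat.card_coe_set_eq, ← Set.ncard_pair hab]
      congr 1
      ext y
      constructor
      · rintro ⟨m, hm, rfl⟩
        rcases (mem_pairStab.1 hm).2 with ⟨ma, -⟩ | ⟨ma, -⟩ <;> simp [ma]
      · rintro (rfl | rfl)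
        · exact self_mem_orb _ _
        · exact ⟨s, (Subgroup.mem_inf.1 hs').1, hsa⟩
    rw [← h2, ← relIndex_stabilizer]
    exact Subgroup.relIndex_dvd_of_le_left _ (le_inf (S2_le_pairStab H a b) fun g hg => (mem_S2.1 hg).2.1)
  rw [card_eq_mul_relIndex hTM.le] at hMcard
  obtain ⟨x, hx⟩ := hdvd
  rw [hx, mul_assoc] at hMcard
  exact hTM.not_dvd ((dvd_mul_left 2 x).trans (Nat.dvd_of_mul_dvd_mul_left Nat.card_pos hMcard))

end Ctx

end Cfsg.Lib.Wagner
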