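import Cfsg.Agent.Lib.Wagner.Descent
import Cfsg.Agent.S1927

/-!
# The characteristic subgroup `W` of a Sylow 2-subgroup of a two-point stabilizer

`W` is elementary abelian, contains the central involutions of `P` and controls the strong fusion
in the one-point stabilizer, which has order prime to three.
-/

set_option autoImplicit false
set_option linter.unusedSectionVars false
set_option linter.style.haveILetI false

namespace Cfsg.Lib.Wagner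

open MulAction Cfsg.Lib.Plane

universe u v

variable {G : Type u} [Group G] [Finite G] {Ω : Type v} [MulAction G Ω]

/-- The data attached to a pair of points. -/
structure Frame0 (H : Subgroup G) (a b : Ω) (P W : Subgroup G) : Prop where
  ne : a ≠ b
  syl : IsSyl 2 P (S2 H a b)
  sylA : IsSyl 2 P (S1 H a)
  le : W ≤ P
  sq : ∀ x ∈ W, x * x = 1
  comm : ∀ x ∈ W, ∀ y ∈ W, x * y = y * x
  char : ∀ g : G, cj g P = P → cj g W = W
  omega : ∀ z ∈ P, (∀ x ∈ P, z * x = x * z) → z * z = 1 → z ∈ W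
  ctrl0 : ∀ A : Set G, A ⊆ (P : Set G) → ∀ g ∈ S1 H a, (∀ x ∈ A, g * x * g⁻¹ ∈ P) →
    ∃ n ∈ S1 H a, cj n W = W ∧ ∀ x ∈ A, n * x * n⁻¹ = g * x * g⁻¹
  three : ∀ x : Ω, ¬ 3 ∣ Nat.card (S1 H x)

/-- The data together with the fact that `W` fixes only the two points. -/
structure Frame (H : Subgroup G) (a b : Ω) (P W : Subgroup G) : Prop extends Frame0 H a b P W where
  fix : ∀ x : Ω, x ∈ fx W Ω → x = a ∨ x = b

theorem odd_card_sub_one {Ω : Type v} (h4 : 3 < Nat.card Ω) (he : Even (Nat.card Ω)) :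
    ¬ 2 ∣ Nat.card Ω - 1 := by
  obtain ⟨i, hi⟩ := he
  omega

variable {H : Subgroup G} (C : Ctx H Ω)
include C

theorem Ctx.sylA_of_syl (heven : Even (Nat.card Ω)) {a b : Ω} (hab : a ≠ b) {P : Subgroup G}
    (hP : IsSyl 2 P (S2 H a b)) : IsSyl 2 P (S1 H a) := by
  refine ⟨hP.le.trans (S2_le_S1 H a b), hP.isPGroup, fun hd => ?_⟩
  rw [← Subgroup.relIndex_mul_relIndex P _ _ hP.le (S2_le_S1 H a b)] at hd
  rcases Nat.prime_two.dvd_mul.1 hd with h | h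
  · exact hP.not_dvd h
  · refine odd_card_sub_one C.lt heven ?_
    have h1 := card_eq_mul_relIndex (S2_le_S1 H a b)
    rw [C.card_S1_eq hab, mul_comm] at h1
    rwa [Nat.eq_of_mul_eq_mul_left Nat.card_pos h1]

theorem Ctx.exists_frame0 (heven : Even (Nat.card Ω)) (h3 : ∀ x : Ω, ¬ 3 ∣ Nat.card (S1 H x))
    {a b : Ω} (hab : a ≠ b) : ∃ P W : Subgroup G, Frame0 H a b P W := by
  classical
  haveI : Fact (Nat.Prime 2) := ⟨Nat.prime_two⟩
  obtain ⟨P, hP⟩ := exists_isSyl 2 (S2 H a b)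
  have hPA := C.sylA_of_syl heven hab hP
  set K := S1 H a with hK
  set S : Sylow 2 K := IsPGroup.toSylow
    (hPA.isPGroup.of_equiv (Subgroup.subgroupOfEquivOfLe hPA.le).symm) hPA.not_dvd with hS
  have hSc : (S : Subgroup K) = P.subgroupOf K := IsPGroup.toSylow_coe _ _
  have hfree : ¬ Cfsg.Involves (Equiv.Perm (Fin 4)) K := by
    rintro ⟨A, R, hR, ⟨e⟩⟩
    haveI := hR
    refine h3 a ?_
    have h24 : Nat.card (A ⧸ R.subgroupOf A) = 24 := by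
      rw [Nat.card_congr e.toEquiv, Nat.card_perm, Nat.card_fin]
      rfl
    have h1 : (24 : ℕ) ∣ Nat.card K := h24 ▸
      (Subgroup.card_quotient_dvd_card _).trans A.card_subgroup_dvd_card
    exact (show (3 : ℕ) ∣ 24 by norm_num).trans h1
  obtain ⟨W₀, hW₀char, hΩ, hZJ, hctrl⟩ := Cfsg.Agent.S1927.result hfree S
  haveI := hW₀char
  set e : ↥(S : Subgroup K) →* G := K.subtype.comp (S : Subgroup K).subtype with he
  have heinj : Function.Injective e := K.subtype_injective.comp (S : Subgroup K).subtype_injective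
  set W : Subgroup G := (W₀.map (S : Subgroup K).subtype).map K.subtype with hW
  have hmemP : ∀ x : G, x ∈ P ↔ ∃ y : ↥(S : Subgroup K), e y = x := by
    intro x
    constructor
    · intro hx
      exact ⟨⟨⟨x, hPA.le hx⟩, hSc ▸ (show (⟨x, hPA.le hx⟩ : K) ∈ P.subgroupOf K from hx)⟩, rfl⟩
    · rintro ⟨y, rfl⟩
      exact Subgroup.mem_subgroupOf.1 (show (y : K) ∈ P.subgroupOf K from hSc ▸ y.2)
  have hWP : W ≤ P := by
    rintro _ ⟨_, ⟨y, -, rfl⟩, rfl⟩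
    exact (hmemP _).2 ⟨y, rfl⟩
  -- the elements of `Ω₁(Z(J))` are commuting involutions
  set Z := Cfsg.centerThompsonOf 2 (S : Subgroup K) with hZ
  have hZc : ∀ x ∈ Z, ∀ y ∈ Z, x * y = y * x := fun x hx y hy =>
    Subgroup.mem_centralizer_iff.1 (Subgroup.mem_inf.1 hy).2 x (Subgroup.mem_inf.1 hx).1
  have hΩc : ∀ x ∈ Cfsg.omegaOne 2 Z, x * x = 1 ∧ x ∈ Z := by
    intro x hx
    induction hx using Subgroup.closure_induction with
    | mem y hy => exact ⟨by rw [← pow_two]; exact hy.2, hy.1⟩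
    | one => exact ⟨mul_one 1, one_mem Z⟩
    | mul y z _ _ hy hz =>
      refine ⟨?_, mul_mem hy.2 hz.2⟩
      rw [mul_assoc, ← mul_assoc z, hZc z hz.2 y hy.2, mul_assoc y z z, hz.1, mul_one, hy.1]
    | inv y _ hy => exact ⟨by rw [← mul_inv_rev, hy.1, inv_one], inv_mem hy.2⟩
  refine ⟨P, W, hab, hP, hPA, hWP, ?_, ?_, ?_, ?_, ?_, h3⟩
  · rintro _ ⟨y, hy, rfl⟩
    exact congrArg Subtype.val (hΩc y (hZJ hy)).1
  · rintro _ ⟨x, hx, rfl⟩ _ ⟨y, hy, rfl⟩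
    exact congrArg Subtype.val (hZc x (hΩc x (hZJ hx)).2 y (hΩc y (hZJ hy)).2)
  · intro g hg
    set J : Subgroup P := W.subgroupOf P with hJ
    haveI : J.Characteristic := by
      refine Subgroup.characteristic_iff_le_comap.2 fun φ x hx => ?_
      obtain ⟨_, ⟨y, hy, rfl⟩, hyx⟩ := Subgroup.mem_subgroupOf.1 hx
      let ε : ↥(S : Subgroup K) ≃* P := MulEquiv.ofBijective
        (e.codRestrict P fun z => (hmemP _).2 ⟨z, rfl⟩)
        ⟨fun z z' h => heinj (congrArg (fun t : P => (t : G)) h), fun z => by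
          obtain ⟨y, hy⟩ := (hmemP z).1 z.2
          exact ⟨y, Subtype.ext hy⟩⟩
      have hεy : ε y = x := Subtype.ext hyx
      let ψ : MulAut ↥(S : Subgroup K) := (ε.trans φ).trans ε.symm
      have h1 : ψ y ∈ W₀ := Subgroup.characteristic_iff_le_comap.1 hW₀char ψ hy
      refine Subgroup.mem_comap.2 (Subgroup.mem_subgroupOf.2 ?_)
      refine ⟨_, ⟨ψ y, h1, rfl⟩, ?_⟩
      have h2 : ε (ψ y) = φ x := by
        show ε (ε.symm (φ (ε y))) = φ x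
        rw [MulEquiv.apply_symm_apply, hεy]
      exact congrArg Subtype.val h2
    have := cj_map_char (J := J) hg
    rwa [hJ, Subgroup.map_subgroupOf_eq_of_le hWP] at this
  · intro z hz hzc hz2
    obtain ⟨y, rfl⟩ := (hmemP z).1 hz
    refine Subgroup.mem_map_of_mem _ (hΩ (Subgroup.subset_closure ⟨⟨y, ?_, rfl⟩, ?_⟩))
    · exact Subgroup.mem_center_iff.2 fun w => heinj (by
        rw [map_mul, map_mul]
        exact (hzc (e w) ((hmemP _).2 ⟨w, rfl⟩)).symm)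
    · rw [pow_two]
      exact Subtype.ext hz2
  · intro A hA g hg hgA
    set gK : K := ⟨g, hg⟩ with hgK
    obtain ⟨-, h⟩ := hctrl {x : K | (x : G) ∈ A} (fun x hx => by
      show x ∈ (S : Subgroup K)
      rw [hSc]; exact hA hx)
    obtain ⟨n, hn, hnA⟩ := h gK (by
      rintro _ ⟨x, hx, rfl⟩
      show gK * x * gK⁻¹ ∈ (S : Subgroup K)
      rw [hSc]; exact hgA _ hx)
    refine ⟨n, n.2, cj_eq_self ?_, fun x hx => ?_⟩
    · rintro _ ⟨w, hw, rfl⟩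
      exact ⟨n * w * n⁻¹, (Subgroup.mem_normalizer_iff.1 hn w).1 hw, rfl⟩
    · exact (congrArg Subtype.val (hnA ⟨x, hPA.le (hA hx)⟩ hx)).symm

omit C

namespace Frame0

variable {a b : Ω} {P W : Subgroup G} (F : Frame0 H a b P W)
include F

theorem W_le_S2 : W ≤ S2 H a b := F.le.trans F.syl.le

theorem mem_fa : a ∈ fx W Ω := fun _ hu => (mem_S2.1 (F.W_le_S2 hu)).2.1

theorem mem_fb : b ∈ fx W Ω := fun _ hu => (mem_S2.1 (F.W_le_S2 hu)).2.2

theorem inv_eq {x : G} (hx : x ∈ W) : x⁻¹ = x := inv_eq_of_mul_eq_one_right (F.sq x hx)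

theorem W_pgroup : IsPGroup 2 W := F.syl.isPGroup.to_le F.le

/-- A 2-subgroup of `S1 H a` containing `W` has a Sylow subgroup conjugate by an element normalising `W`. -/
theorem exists_conj_of_ge {R : Subgroup G} (hR : IsPGroup 2 R) (hRa : R ≤ S1 H a) (hW : W ≤ R) :
    ∃ k ∈ S1 H a, cj k W = W ∧ cj k R ≤ P := by
  haveI : Fact (Nat.Prime 2) := ⟨Nat.prime_two⟩
  obtain ⟨k, hk, hle⟩ := exists_cj_le F.sylA hR hRa
  obtain ⟨n, -, hn, hnk⟩ := F.ctrl0 (W : Set G) F.le k hk fun x hx => hle (conj_mem_cj (hW hx))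
  refine ⟨k, hk, cj_eq_self fun w hw => ?_, hle⟩
  rw [← hnk w hw, ← hn]
  exact conj_mem_cj hw

/-- `W` is strongly closed in every 2-subgroup of `S1 H a` containing it. -/
theorem strong {R : Subgroup G} (hR : IsPGroup 2 R) (hRa : R ≤ S1 H a) (hW : W ≤ R) {g y : G}
    (hg : g ∈ S1 H a) (hy : y ∈ W) (hgy : g * y * g⁻¹ ∈ R) : g * y * g⁻¹ ∈ W := by
  obtain ⟨k, hk, hkW, hkR⟩ := F.exists_conj_of_ge hR hRa hW
  obtain ⟨n, -, hn, hnk⟩ := F.ctrl0 ({y} : Set G) (by simpa using F.le hy) (k * g) (mul_mem hk hg)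
    (fun x hx => by
      obtain rfl : x = y := hx
      refine hkR ?_
      have := conj_mem_cj (g := k) hgy
      simpa [mul_assoc] using this)
  have h1 : k * g * y * (k * g)⁻¹ ∈ cj k W := by
    rw [hkW, ← hnk y rfl, ← hn]
    exact conj_mem_cj hy
  have h2 := mem_cj.1 h1
  simpa [mul_assoc] using h2

/-- Fusion in a 2-subgroup containing `W` is controlled by the normalizer of `W`. -/
theorem ctrl {R : Subgroup G} (hR : IsPGroup 2 R) (hRa : R ≤ S1 H a) (hW : W ≤ R) {A : Set G}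
    (hA : A ⊆ (R : Set G)) {g : G} (hg : g ∈ S1 H a) (hgA : ∀ x ∈ A, g * x * g⁻¹ ∈ R) :
    ∃ n ∈ S1 H a, cj n W = W ∧ ∀ x ∈ A, n * x * n⁻¹ = g * x * g⁻¹ := by
  obtain ⟨k, hk, hkW, hkR⟩ := F.exists_conj_of_ge hR hRa hW
  obtain ⟨n, hn, hnW, hnA⟩ := F.ctrl0 ((fun x => k * x * k⁻¹) '' A) (by
      rintro _ ⟨x, hx, rfl⟩; exact hkR (conj_mem_cj (hA hx))) (k * g * k⁻¹)
    (mul_mem (mul_mem hk hg) (inv_mem hk)) (by
      rintro _ ⟨x, hx, rfl⟩
      have := hkR (conj_mem_cj (g := k) (hgA x hx))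
      simpa [mul_assoc] using this)
  refine ⟨k⁻¹ * n * k, mul_mem (mul_mem (inv_mem hk) hn) hk, ?_, fun x hx => ?_⟩
  · rw [← cj_cj, ← cj_cj, hkW, hnW]
    conv_lhs => rw [← hkW]
    rw [cj_cj, inv_mul_cancel, cj_one]
  · have h1 := hnA _ ⟨x, hx, rfl⟩
    calc k⁻¹ * n * k * x * (k⁻¹ * n * k)⁻¹ = k⁻¹ * (n * (k * x * k⁻¹) * n⁻¹) * k := by group
      _ = k⁻¹ * (k * g * k⁻¹ * (k * x * k⁻¹) * (k * g * k⁻¹)⁻¹) * k := by rw [h1]
      _ = g * x * g⁻¹ := by group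

/-- Conjugates of `W` in a 2-subgroup containing `W` equal `W`. -/
theorem cj_eq_of_le {R : Subgroup G} (hR : IsPGroup 2 R) (hRa : R ≤ S1 H a) (hW : W ≤ R) {g : G}
    (hg : g ∈ S1 H a) (hle : cj g W ≤ R) : cj g W = W := by
  refine cj_eq_self fun y hy => F.strong hR hRa hW hg hy (hle (conj_mem_cj hy))

theorem exists_pair_conj [H.Normal] {g : G}
    (hg : (g • a = a ∧ g • b = b) ∨ (g • a = b ∧ g • b = a)) :
    ∃ h ∈ S2 H a b, cj (h * g) P = P ∧ cj (h * g) W = W := by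
  haveI : Fact (Nat.Prime 2) := ⟨Nat.prime_two⟩
  have hS : cj g (S2 H a b) = S2 H a b := by
    rw [cj_S2]
    rcases hg with ⟨h1, h2⟩ | ⟨h1, h2⟩
    · rw [h1, h2]
    · rw [h1, h2, S2_comm]
  have h1 := isSyl_cj F.syl g
  rw [hS] at h1
  obtain ⟨k, hk, hkP⟩ := exists_cj_eq F.syl h1
  rw [cj_cj] at hkP
  exact ⟨k, hk, hkP, F.char _ hkP⟩

theorem swap [H.Normal] (C : Ctx H Ω) : Frame0 H b a P W := by
  haveI : Fact (Nat.Prime 2) := ⟨Nat.prime_two⟩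
  obtain ⟨g, hga, hgb⟩ := C.exists2 F.ne F.ne.symm
  obtain ⟨k, hk, hP, hW⟩ := F.exists_pair_conj (Or.inr ⟨hga, hgb⟩)
  obtain ⟨-, ka, kb⟩ := mem_S2.1 hk
  set s := k * g with hs
  have hsa : s • a = b := by rw [hs, mul_smul, hga, kb]
  have hS1 : cj s (S1 H a) = S1 H b := by rw [cj_S1, hsa]
  refine ⟨F.ne.symm, S2_comm H a b ▸ F.syl, ?_, F.le, F.sq, F.comm, F.char, F.omega, ?_, F.three⟩
  · have := isSyl_cj F.sylA s
    rwa [hP, hS1] at this
  · intro A hA g' hg' hgA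
    have hin : ∀ x : G, x ∈ P → s⁻¹ * x * s ∈ P := fun x hx => by rw [← mem_cj, hP]; exact hx
    have hg'' : s⁻¹ * g' * s ∈ S1 H a := by rw [← mem_cj, hS1]; exact hg'
    obtain ⟨n, hn, hnW, hnA⟩ := F.ctrl0 ((fun x => s⁻¹ * x * s) '' A)
      (by rintro _ ⟨x, hx, rfl⟩; exact hin x (hA hx)) _ hg''
      (by rintro _ ⟨x, hx, rfl⟩
          have := hin _ (hgA x hx)
          simpa [mul_assoc] using this)
    refine ⟨s * n * s⁻¹, hS1 ▸ conj_mem_cj hn, ?_, fun x hx => ?_⟩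
    · have hW' : cj s⁻¹ W = W := by
        conv_lhs => rw [← hW]
        rw [cj_cj, inv_mul_cancel, cj_one]
      rw [← cj_cj, hW', ← cj_cj, hnW, hW]
    · have h1 := hnA _ ⟨x, hx, rfl⟩
      calc s * n * s⁻¹ * x * (s * n * s⁻¹)⁻¹ = s * (n * (s⁻¹ * x * s) * n⁻¹) * s⁻¹ := by group
        _ = s * (s⁻¹ * g' * s * (s⁻¹ * x * s) * (s⁻¹ * g' * s)⁻¹) * s⁻¹ := by rw [h1]
        _ = g' * x * g'⁻¹ := by group

/-- A subgroup of `W` invariant under the fusion of `W` and fixing a third point bounds the colours. -/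
theorem two_of_inv (C : Ctx H Ω) (hI : Below.{v} (Nat.card Ω)) {R : Subgroup G} (hRW : R ≤ W) (hR : R ≠ ⊥)
    (hN : ∀ n ∈ S1 H a, cj n W = W → cj n R = R)
    (hP : ∀ g : G, (g • a = a ∧ g • b = b) ∨ (g • a = b ∧ g • b = a) → cj g P = P → cj g R = R)
    {c : Ω} (hca : c ≠ a) (hcb : c ≠ b) (hc : c ∈ fx R Ω) : Two H Ω := by
  haveI := C.normal
  haveI : Fact (Nat.Prime 2) := ⟨Nat.prime_two⟩
  have hRP : R ≤ P := hRW.trans F.le
  have hRfix : ∀ u ∈ R, u ∈ H ∧ u • a = a ∧ u • b = b := fun u hu => mem_S2.1 (F.syl.le (hRP hu))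
  -- every conjugate by the stabilizer of `a` inside `P` equals `R`
  have hweak : ∀ g : G, g • a = a → cj g R ≤ P → cj g R = R := by
    intro g hga hle
    have hne : a ≠ g • b := fun e => F.ne (MulAction.injective g (hga.trans e))
    obtain ⟨h, hh, h1, h2⟩ := C.h_exists2 F.ne hne
    obtain ⟨k, hk, hkP, -⟩ := F.exists_pair_conj (g := h⁻¹ * g)
      (Or.inl ⟨by rw [mul_smul, hga, inv_smul_eq_iff, h1], by rw [mul_smul, inv_smul_eq_iff, h2]⟩)
    obtain ⟨hkH, ka, kb⟩ := mem_S2.1 hk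
    have hR1 : cj (k * (h⁻¹ * g)) R = R := by
      refine hP _ (Or.inl ⟨?_, ?_⟩) hkP
      · rw [mul_smul, mul_smul, hga, inv_smul_eq_iff.2 h1.symm, ka]
      · rw [mul_smul, mul_smul, inv_smul_eq_iff.2 h2.symm, kb]
    have hg : cj g R = cj (h * k⁻¹) R := by
      conv_rhs => rw [← hR1]
      rw [cj_cj, show h * k⁻¹ * (k * (h⁻¹ * g)) = g by group]
    rw [hg] at hle ⊢
    have hmem : h * k⁻¹ ∈ S1 H a :=
      mul_mem (mem_S1.2 ⟨hh, h1⟩) (inv_mem (S2_le_S1 H a b hk))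
    obtain ⟨n, hn, hnW, hnA⟩ := F.ctrl0 (R : Set G) hRP _ hmem fun x hx => hle (conj_mem_cj hx)
    refine cj_eq_self fun x hx => ?_
    rw [← hnA x hx, ← hN n hn hnW]
    exact conj_mem_cj hx
  have hstep : ∀ Q : Subgroup G, IsPGroup 2 Q → Q ≤ S1 H a → R ≤ Q → ∀ g : G, g • a = a →
      cj g R ≤ Q → cj g R = R := by
    intro Q hQ hQa hRQ g hga hle
    obtain ⟨k, hk, hkQ⟩ := exists_cj_le F.sylA hQ hQa
    have hka : k • a = a := (mem_S1.1 hk).2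
    have h1 := hweak k hka ((cj_mono hRQ).trans hkQ)
    have h2 := hweak (k * g) (by rw [mul_smul, hga, hka]) (by rw [← cj_cj]; exact (cj_mono hle).trans hkQ)
    exact Subgroup.map_injective (MulAut.conj k).injective ((cj_cj k g R).trans (h2.trans h1.symm))
  have hconj : ∀ K : Subgroup G, K ≤ S1 H a → R ≤ K → ∀ g : G, g • a = a → cj g R ≤ K →
      ∃ d ∈ K, cj (d * g) R = R := by
    intro K hKa hRK g hga hle
    obtain ⟨Q, hQ, hRQ⟩ := exists_isSyl_ge 2 (F.syl.isPGroup.to_le hRP) hRK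
    obtain ⟨d, hd, hdle⟩ := exists_cj_le hQ (cj_pgroup (g := g) (F.syl.isPGroup.to_le hRP)) hle
    rw [cj_cj] at hdle
    exact ⟨d, hd, hstep Q hQ.isPGroup (hQ.le.trans hKa) hRQ _
      (by rw [mul_smul, hga, (mem_S1.1 (hKa hd)).2]) hdle⟩
  have hnormfix : ∀ n : G, cj n R = R → ∀ x ∈ fx R Ω, n⁻¹ • x ∈ fx R Ω := by
    intro n hn x hx
    rw [← hn, mem_fx_cj] at hx
    exact hx
  have hA : ∀ x ∈ fx R Ω, x ≠ a → ∃ n : G, cj n R = R ∧ n • a = a ∧ n • b = x := by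
    intro x hx hxa
    obtain ⟨g, hga, hgb⟩ := C.exists2 F.ne hxa.symm
    obtain ⟨d, hd, hdg⟩ := hconj (S1 H a ⊓ stabilizer G x) inf_le_left
      (fun u hu => Subgroup.mem_inf.2 ⟨mem_S1.2 ⟨(hRfix u hu).1, (hRfix u hu).2.1⟩, hx u hu⟩) g hga (by
        rintro _ ⟨u, hu, rfl⟩
        obtain ⟨huH, hua, hub⟩ := hRfix u hu
        refine Subgroup.mem_inf.2 ⟨mem_S1.2 ⟨Subgroup.Normal.conj_mem inferInstance u huH g, ?_⟩, ?_⟩
        · show (g * u * g⁻¹) • a = a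
          rw [mul_smul, mul_smul, inv_smul_eq_iff.2 hga.symm, hua, hga]
        · show (g * u * g⁻¹) • x = x
          rw [mul_smul, mul_smul, inv_smul_eq_iff.2 hgb.symm, hub, hgb])
    obtain ⟨hd1, hdx⟩ := Subgroup.mem_inf.1 hd
    exact ⟨d * g, hdg, by rw [mul_smul, hga, (mem_S1.1 hd1).2], by rw [mul_smul, hgb, mem_stabilizer_iff.1 hdx]⟩
  obtain ⟨g₀, g0a, g0b⟩ := C.exists2 F.ne F.ne.symm
  obtain ⟨k₀, hk₀, hk₀P, -⟩ := F.exists_pair_conj (Or.inr ⟨g0a, g0b⟩)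
  obtain ⟨-, k0a, k0b⟩ := mem_S2.1 hk₀
  have hsR : cj (k₀ * g₀) R = R :=
    hP _ (Or.inr ⟨by rw [mul_smul, g0a, k0b], by rw [mul_smul, g0b, k0a]⟩) hk₀P
  have hW : Witt H R a b c := by
    refine ⟨fun u hu => mem_S3.2 ⟨(hRfix u hu).1, (hRfix u hu).2.1, (hRfix u hu).2.2, hc u hu⟩,
      fun g ha hb hc' => ?_⟩
    -- move `a` to its image
    obtain ⟨n₁, hn₁, hn₁a⟩ : ∃ n : G, cj n R = R ∧ n • a = g • a := by
      by_cases he : g • a = a
      · exact ⟨1, cj_one R, by rw [one_smul, he]⟩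
      · obtain ⟨n, hn, -, hnb⟩ := hA _ ha he
        refine ⟨n * (k₀ * g₀), by rw [← cj_cj, hsR, hn], ?_⟩
        rw [mul_smul, mul_smul k₀, g0a, k0b, hnb]
    obtain ⟨n₂, hn₂, hn₂a, hn₂b⟩ := hA _ (hnormfix n₁ hn₁ _ hb) fun e => F.ne
      (MulAction.injective g (show g • a = g • b by rw [← hn₁a, ← e, smul_inv_smul]))
    set n := n₁ * n₂ with hn
    have hnR : cj n R = R := by rw [hn, ← cj_cj, hn₂, hn₁]
    have hna : n • a = g • a := by rw [hn, mul_smul, hn₂a, hn₁a]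
    have hnb : n • b = g • b := by rw [hn, mul_smul, hn₂b, smul_inv_smul]
    set g' := n⁻¹ * g with hg'
    have g'a : g' • a = a := by rw [hg', mul_smul, inv_smul_eq_iff, hna]
    have g'b : g' • b = b := by rw [hg', mul_smul, inv_smul_eq_iff, hnb]
    obtain ⟨d, hd, hdg⟩ := hconj (S3 H a b (g' • c)) ((S3_le_S2 H a b _).trans (S2_le_S1 H a b))
      (fun u hu => mem_S3.2 ⟨(hRfix u hu).1, (hRfix u hu).2.1, (hRfix u hu).2.2, by
        rw [hg', mul_smul]; exact hnormfix n hnR _ hc' u hu⟩) g' g'a (by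
        have h1 : R ≤ S3 H a b c := fun u hu =>
          mem_S3.2 ⟨(hRfix u hu).1, (hRfix u hu).2.1, (hRfix u hu).2.2, hc u hu⟩
        have h2 := cj_mono (g := g') h1
        rwa [cj_S3, g'a, g'b] at h2)
    refine ⟨n * d * n⁻¹, ?_, ?_⟩
    · rw [← hna, ← hnb, show g • c = n • (g' • c) by rw [hg', ← mul_smul, mul_inv_cancel_left], ← cj_S3]
      exact conj_mem_cj hd
    · rw [show n * d * n⁻¹ * g = n * (d * g') by rw [hg']; group, ← cj_cj, hdg, hnR]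
  refine hW.two C hI F.ne hca.symm hcb.symm hR (fun g hga hgb => ?_)
    (hW.three_dvd_fx C F.ne hca.symm hcb.symm F.three)
  obtain ⟨k, hk, hkP, -⟩ := F.exists_pair_conj (Or.inl ⟨hga, hgb⟩)
  obtain ⟨-, ka, kb⟩ := mem_S2.1 hk
  exact ⟨k, hk, hP _ (Or.inl ⟨by rw [mul_smul, hga, ka], by rw [mul_smul, hgb, kb]⟩) hkP⟩

theorem toFrame (C : Ctx H Ω) (hI : Below.{v} (Nat.card Ω)) (hT : ¬ Two H Ω) (h2 : 2 ∣ Nat.card (S2 H a b)) :
    Frame H a b P W := by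
  haveI : Fact (Nat.Prime 2) := ⟨Nat.prime_two⟩
  refine ⟨F, fun x hx => ?_⟩
  by_contra hne
  push Not at hne
  refine hT (F.two_of_inv C hI le_rfl ?_ (fun n _ h => h) (fun g _ h => F.char g h) hne.1 hne.2 hx)
  intro hbot
  have hPne := (dvd_card_iff_isSyl_ne_bot F.syl).1 h2
  haveI := (Subgroup.nontrivial_iff_ne_bot P).2 hPne
  haveI : Nontrivial (Subgroup.center P) := F.syl.isPGroup.center_nontrivial
  obtain ⟨k, hk⟩ := IsPGroup.iff_card.1 (F.syl.isPGroup.to_subgroup (Subgroup.center P))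
  have hdvd : 2 ∣ Nat.card (Subgroup.center P) := by
    rw [hk]
    refine dvd_pow_self 2 fun h0 => ?_
    have := Finite.one_lt_card (α := Subgroup.center P)
    rw [hk, h0, pow_zero] at this
    omega
  obtain ⟨z, hz⟩ := exists_prime_orderOf_dvd_card' (G := Subgroup.center P) 2 hdvd
  have hz' : ((z : P) : G) ∈ W := F.omega _ (z : P).2
    (fun x hx => congrArg Subtype.val (Subgroup.mem_center_iff.1 z.2 ⟨x, hx⟩).symm)
    (by
      have := pow_orderOf_eq_one z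
      rw [hz, pow_two] at this
      exact congrArg (fun w : Subgroup.center P => ((w : P) : G)) this)
  rw [hbot, Subgroup.mem_bot] at hz'
  rw [← Subgroup.orderOf_coe, ← Subgroup.orderOf_coe, hz', orderOf_one] at hz
  omega

end Frame0

namespace Frame

variable {a b : Ω} {P W : Subgroup G} (F : Frame H a b P W)
include F

theorem swap [H.Normal] (C : Ctx H Ω) : Frame H b a P W :=
  ⟨F.toFrame0.swap C, fun x hx => (F.fix x hx).symm⟩

theorem normalizer_fix {n : G} (hn : n ∈ S1 H a) (hnW : cj n W = W) : n ∈ S2 H a b := by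
  obtain ⟨hnH, hna⟩ := mem_S1.1 hn
  refine mem_S2.2 ⟨hnH, hna, ?_⟩
  rcases F.fix (n • b) (smul_mem_fx (mem_normalizer_iff_cj.2 hnW) F.mem_fb) with h | h
  · exact absurd (MulAction.injective n (h.trans hna.symm)) F.ne.symm
  · exact h

/-- The centralizer of a subgroup of `P` in the stabilizer of `a` is transitive on its other fixed points. -/
theorem transC (C : Ctx H Ω) {Y : Subgroup G} (hY : Y ≤ P) {x : Ω} (hx : x ∈ fx Y Ω) (hxa : x ≠ a) :
    ∃ y ∈ S1 H a, (∀ u ∈ Y, y * u = u * y) ∧ y • b = x := by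
  haveI := C.normal
  haveI : Fact (Nat.Prime 2) := ⟨Nat.prime_two⟩
  obtain ⟨h, hh, h1, h2⟩ := C.h_exists2 F.ne hxa.symm
  have hYa : ∀ u ∈ Y, u ∈ H ∧ u • a = a := fun u hu =>
    ⟨(mem_S2.1 (F.syl.le (hY hu))).1, (mem_S2.1 (F.syl.le (hY hu))).2.1⟩
  have hY' : cj h⁻¹ Y ≤ S2 H a b := by
    rintro _ ⟨u, hu, rfl⟩
    refine mem_S2.2 ⟨Subgroup.Normal.conj_mem inferInstance u (hYa u hu).1 h⁻¹, ?_, ?_⟩
    · show (h⁻¹ * u * h⁻¹⁻¹) • a = a
      rw [inv_inv, mul_smul, mul_smul, h1, (hYa u hu).2, inv_smul_eq_iff.2 h1.symm]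
    · show (h⁻¹ * u * h⁻¹⁻¹) • b = b
      rw [inv_inv, mul_smul, mul_smul, h2, hx u hu, inv_smul_eq_iff.2 h2.symm]
  obtain ⟨k, hk, hkle⟩ := exists_cj_le F.syl (cj_pgroup (F.syl.isPGroup.to_le hY)) hY'
  rw [cj_cj] at hkle
  have hmem : k * h⁻¹ ∈ S1 H a :=
    mul_mem (S2_le_S1 H a b hk) (inv_mem (mem_S1.2 ⟨hh, h1⟩))
  obtain ⟨n, hn, hnW, hnA⟩ := F.ctrl0 (Y : Set G) hY _ hmem fun u hu => hkle (conj_mem_cj hu)
  refine ⟨h * k⁻¹ * n, mul_mem (mul_mem (mem_S1.2 ⟨hh, h1⟩) (inv_mem (S2_le_S1 H a b hk))) hn,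
    fun u hu => ?_, ?_⟩
  · have e := hnA u hu
    calc h * k⁻¹ * n * u = h * k⁻¹ * (n * u * n⁻¹) * n := by group
      _ = h * k⁻¹ * (k * h⁻¹ * u * (k * h⁻¹)⁻¹) * n := by rw [e]
      _ = u * (h * k⁻¹ * n) := by group
  · rw [mul_smul, mul_smul, (mem_S2.1 (F.normalizer_fix hn hnW)).2.2,
      inv_smul_eq_iff.2 (mem_S2.1 hk).2.2.symm, h2]

/-- The centralizer in `H` of a subgroup of `P` with three fixed points is 2-transitive on them. -/
theorem cTrans (C : Ctx H Ω) {Y : Subgroup G} (hY : Y ≤ P) {c : Ω} (hc : c ∈ fx Y Ω) (hca : c ≠ a)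
    (hcb : c ≠ b) {x y : Ω} (hx : x ∈ fx Y Ω) (hy : y ∈ fx Y Ω) (hxy : x ≠ y) :
    ∃ h ∈ H, (∀ u ∈ Y, h * u = u * h) ∧ h • a = x ∧ h • b = y := by
  haveI := C.normal
  have hcm : ∀ {g : G}, (∀ u ∈ Y, g * u = u * g) → ∀ u ∈ Y, g⁻¹ * u = u * g⁻¹ := fun hg u hu =>
    ((show Commute _ u from hg u hu).inv_left).eq
  have hmul : ∀ {g g' : G}, (∀ u ∈ Y, g * u = u * g) → (∀ u ∈ Y, g' * u = u * g') →
      ∀ u ∈ Y, g * g' * u = u * (g * g') := fun hg hg' u hu =>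
    ((show Commute _ u from hg u hu).mul_left (show Commute _ u from hg' u hu)).eq
  have h1 : ∀ z ∈ fx Y Ω, ∃ h ∈ H, (∀ u ∈ Y, h * u = u * h) ∧ h • a = z := by
    intro z hz
    by_cases hzb : z = b
    · obtain ⟨p, hp, hpc, hpa⟩ := (F.swap C).transC C hY hc hcb
      obtain ⟨q, hq, hqc, hqb⟩ := F.transC C hY hc hca
      refine ⟨q⁻¹ * p, mul_mem (inv_mem (mem_S1.1 hq).1) (mem_S1.1 hp).1, hmul (hcm hqc) hpc, ?_⟩
      rw [mul_smul, hpa, hzb, inv_smul_eq_iff, hqb]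
    · obtain ⟨p, hp, hpc, hpa⟩ := (F.swap C).transC C hY hz hzb
      exact ⟨p, (mem_S1.1 hp).1, hpc, hpa⟩
  obtain ⟨h, hh, hhc, hha⟩ := h1 x hx
  have hy' : h⁻¹ • y ∈ fx Y Ω := smul_mem_fx_of_commute (hcm hhc) hy
  obtain ⟨k, hk, hkc, hkb⟩ := F.transC C hY hy' fun e => hxy (by rw [← hha, ← e, smul_inv_smul])
  exact ⟨h * k, mul_mem hh (mem_S1.1 hk).1, hmul hhc hkc, by rw [mul_smul, (mem_S1.1 hk).2, hha],
    by rw [mul_smul, hkb, smul_inv_smul]⟩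

/-- Two maximal stabilizers in conjugates of `W` are conjugate. -/
theorem intrinsic {m : ℕ}
    (hmax : ∀ c : Ω, c ≠ a → c ≠ b → Nat.card ↥(W ⊓ stabilizer G c) ≤ m)
    (C : Ctx H Ω) {c : Ω} (hca : c ≠ a) (hcb : c ≠ b) {k₁ k₂ : G} (hk₁ : k₁ ∈ S2 H a b) (hk₂ : k₂ ∈ S2 H a b)
    (h₁ : Nat.card ↥(cj k₁ W ⊓ stabilizer G c) = m) (h₂ : Nat.card ↥(cj k₂ W ⊓ stabilizer G c) = m) :
    ∃ d ∈ S3 H a b c, cj d (cj k₁ W ⊓ stabilizer G c) = cj k₂ W ⊓ stabilizer G c := by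
  haveI : Fact (Nat.Prime 2) := ⟨Nat.prime_two⟩
  haveI := C.normal
  set X₁ := cj k₁ W ⊓ stabilizer G c with hX₁
  set X₂ := cj k₂ W ⊓ stabilizer G c with hX₂
  have hWK : ∀ k ∈ S2 H a b, cj k W ≤ S2 H a b := fun k hk => by
    have := cj_mono (g := k) F.W_le_S2
    rwa [cj_S2, (mem_S2.1 hk).2.1, (mem_S2.1 hk).2.2] at this
  have hX : ∀ k ∈ S2 H a b, cj k W ⊓ stabilizer G c ≤ S3 H a b c := fun k hk =>
    inf_le_inf_right _ (hWK k hk)
  have hXp : ∀ k, IsPGroup 2 ↥(cj k W ⊓ stabilizer G c) := fun k =>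
    (cj_pgroup F.W_pgroup).to_le inf_le_left
  obtain ⟨Q, hQ, hX₂Q⟩ := exists_isSyl_ge 2 (hXp k₂) (hX k₂ hk₂)
  obtain ⟨d, hd, hdle⟩ := exists_cj_le hQ (hXp k₁) (hX k₁ hk₁)
  obtain ⟨k, hk, hkQ⟩ := exists_cj_le F.syl hQ.isPGroup (hQ.le.trans (S3_le_S2 H a b c))
  obtain ⟨hkH, hka, hkb⟩ := mem_S2.1 hk
  -- everything lies in one conjugate of `W`
  have key : ∀ g ∈ S1 H a, ∀ x ∈ cj g W ⊓ stabilizer G c, x ∈ Q → x ∈ cj k⁻¹ W ⊓ stabilizer G c := by
    intro g hg x hx hxQ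
    obtain ⟨hxg, hxc⟩ := Subgroup.mem_inf.1 hx
    refine Subgroup.mem_inf.2 ⟨?_, hxc⟩
    rw [mem_cj, inv_inv]
    have h1 : k * g * (g⁻¹ * x * g) * (k * g)⁻¹ = k * x * k⁻¹ := by group
    rw [← h1]
    refine F.strong F.syl.isPGroup F.sylA.le F.le (mul_mem (S2_le_S1 H a b hk) hg) (mem_cj.1 hxg) ?_
    rw [h1]
    exact hkQ (conj_mem_cj hxQ)
  have hk' : cj k⁻¹ W ⊓ stabilizer G c = cj k⁻¹ (W ⊓ stabilizer G (k • c)) := by
    refine le_antisymm (fun x hx => ?_) ?_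
    · obtain ⟨hx1, hx2⟩ := Subgroup.mem_inf.1 hx
      rw [mem_cj, inv_inv]
      rw [mem_cj, inv_inv] at hx1
      refine Subgroup.mem_inf.2 ⟨hx1, ?_⟩
      show (k * x * k⁻¹) • (k • c) = k • c
      rw [mul_smul, mul_smul, inv_smul_smul, mem_stabilizer_iff.1 hx2]
    · intro x hx
      rw [mem_cj, inv_inv] at hx
      obtain ⟨hx1, hx2⟩ := Subgroup.mem_inf.1 hx
      refine Subgroup.mem_inf.2 ⟨by rw [mem_cj, inv_inv]; exact hx1, ?_⟩
      have h2 := mem_stabilizer_iff.1 hx2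
      rw [mul_smul, mul_smul, inv_smul_smul] at h2
      exact MulAction.injective k h2
  have hcard : Nat.card ↥(cj k⁻¹ W ⊓ stabilizer G c) ≤ m := by
    rw [hk', card_cj]
    exact hmax _ (fun e => hca (MulAction.injective k (e.trans hka.symm)))
      (fun e => hcb (MulAction.injective k (e.trans hkb.symm)))
  have e2 : X₂ = cj k⁻¹ W ⊓ stabilizer G c :=
    Subgroup.eq_of_le_of_card_ge (fun x hx => key k₂ (S2_le_S1 H a b hk₂) x hx (hX₂Q hx)) (by rw [h₂]; exact hcard)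
  have e1 : cj d X₁ = cj k⁻¹ W ⊓ stabilizer G c := by
    refine Subgroup.eq_of_le_of_card_ge (fun x hx => ?_) (by rw [card_cj, h₁]; exact hcard)
    have hxQ := hdle hx
    obtain ⟨hdH, hda, hdb, hdc⟩ := mem_S3.1 hd
    refine key (d * k₁) (mul_mem (mem_S1.2 ⟨hdH, hda⟩) (S2_le_S1 H a b hk₁)) x ?_ hxQ
    rw [hX₁, cj_inf] at hx
    obtain ⟨hx1, hx2⟩ := Subgroup.mem_inf.1 hx
    refine Subgroup.mem_inf.2 ⟨by rw [← cj_cj]; exact hx1, ?_⟩
    have h3 := mem_stabilizer_iff.1 (mem_cj.1 hx2)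
    rw [mul_smul, mul_smul, hdc, inv_smul_eq_iff, hdc] at h3
    exact h3
  exact ⟨d, hd, e1.trans e2.symm⟩

/-- A maximal stabilizer can be moved by the stabilizer of `a` and `b`. -/
theorem move {m : ℕ} (hmax : ∀ c : Ω, c ≠ a → c ≠ b → Nat.card ↥(W ⊓ stabilizer G c) ≤ m)
    (C : Ctx H Ω) {c c' : Ω} (hca : c ≠ a) (hcb : c ≠ b) (hc'a : c' ≠ a) (hc'b : c' ≠ b)
    (hc : Nat.card ↥(W ⊓ stabilizer G c) = m) (hc' : Nat.card ↥(W ⊓ stabilizer G c') = m) {g : G}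
    (hga : g • a = a) (hgb : g • b = b) (hgc : g • c = c') :
    ∃ d ∈ S3 H a b c', cj (d * g) (W ⊓ stabilizer G c) = W ⊓ stabilizer G c' := by
  haveI := C.normal
  obtain ⟨h, hh, -, hhW⟩ := F.exists_pair_conj (Or.inl ⟨hga, hgb⟩)
  have hgW : cj g W = cj h⁻¹ W := by
    conv_rhs => rw [← hhW]
    rw [cj_cj, inv_mul_cancel_left]
  have hX : cj g (W ⊓ stabilizer G c) = cj h⁻¹ W ⊓ stabilizer G c' := by
    rw [cj_inf, hgW]
    congr 1
    ext x
    rw [mem_cj, mem_stabilizer_iff, mem_stabilizer_iff, mul_smul, mul_smul, hgc, inv_smul_eq_iff, hgc]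
  have h1 : Nat.card ↥(cj h⁻¹ W ⊓ stabilizer G c') = m := by rw [← hX, card_cj, hc]
  obtain ⟨d, hd, hdX⟩ := F.intrinsic hmax C hc'a hc'b (k₁ := h⁻¹) (k₂ := 1) (inv_mem hh) (one_mem _) h1
    (by rw [cj_one]; exact hc')
  rw [cj_one] at hdX
  exact ⟨d, hd, by rw [← cj_cj, hX, hdX]⟩

/-- The maximal stabilizer satisfies Witt's condition. -/
theorem witt {m : ℕ} (hmax : ∀ c : Ω, c ≠ a → c ≠ b → Nat.card ↥(W ⊓ stabilizer G c) ≤ m)
    (C : Ctx H Ω) {c : Ω} (hca : c ≠ a) (hcb : c ≠ b) (hc : Nat.card ↥(W ⊓ stabilizer G c) = m) :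
    Witt H (W ⊓ stabilizer G c) a b c := by
  haveI := C.normal
  set X := W ⊓ stabilizer G c with hX
  have hXP : X ≤ P := inf_le_left.trans F.le
  have hle : X ≤ S3 H a b c := inf_le_inf_right _ F.W_le_S2
  have hcX : c ∈ fx X Ω := fun u hu => (Subgroup.mem_inf.1 hu).2
  refine ⟨hle, fun g ha hb hc' => ?_⟩
  obtain ⟨y, hy, hyc, hya, hyb⟩ := F.cTrans C hXP hcX hca hcb ha hb fun e => F.ne (MulAction.injective g e)
  have hyX : cj y X = X := cj_of_commute hyc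
  have hyX' : cj y⁻¹ X = X := by
    conv_lhs => rw [← hyX]
    rw [cj_cj, inv_mul_cancel, cj_one]
  set g' := y⁻¹ * g with hg'
  have g'a : g' • a = a := by rw [hg', mul_smul, inv_smul_eq_iff, hya]
  have g'b : g' • b = b := by rw [hg', mul_smul, inv_smul_eq_iff, hyb]
  have hc'a : g' • c ≠ a := fun e => hca (MulAction.injective g' (e.trans g'a.symm))
  have hc'b : g' • c ≠ b := fun e => hcb (MulAction.injective g' (e.trans g'b.symm))
  have hfix' : g' • c ∈ fx X Ω := by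
    rw [hg', mul_smul]
    exact smul_mem_fx (inv_mem (mem_normalizer_iff_cj.2 hyX)) hc'
  have hX' : X = W ⊓ stabilizer G (g' • c) := Subgroup.eq_of_le_of_card_ge
    (le_inf inf_le_left (mem_fx_iff_le.1 hfix')) (by rw [hc]; exact hmax _ hc'a hc'b)
  obtain ⟨d, hd, hdX⟩ := F.move hmax C hca hcb hc'a hc'b hc (by rw [← hX', hc]) g'a g'b rfl
  refine ⟨y * d * y⁻¹, ?_, ?_⟩
  · rw [← hya, ← hyb, show g • c = y • (g' • c) by rw [hg', mul_smul, smul_inv_smul], ← cj_S3]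
    exact conj_mem_cj hd
  · rw [show y * d * y⁻¹ * g = y * (d * g') by rw [hg']; group, ← cj_cj]
    refine (congrArg (cj y) (hdX.trans hX'.symm)).trans hyX

end Frame

end Cfsg.Lib.Wagner
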