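import Cfsg.Agent.Lib.Wagner.Affine

/-!
# The action on the fixed set of a good hyperplane
-/

set_option autoImplicit false
set_option linter.unusedSectionVars false
set_option linter.style.haveILetI false

namespace Cfsg.Lib.Wagner

open MulAction Cfsg.Lib.Plane

universe u v

variable {G : Type u} [Group G] [Finite G] {Ω : Type v} [MulAction G Ω]

namespace Frame

variable {H : Subgroup G} {a b : Ω} {P W : Subgroup G} (F : Frame H a b P W)
include F

theorem exists_outside {X : Subgroup G} (hX : Good W X a b) : ∃ w ∈ W, w ∉ X := by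
  refine SetLike.exists_of_lt (lt_of_le_of_ne hX.le fun e => ?_)
  have := hX.card
  rw [e] at this
  have : 0 < Nat.card W := Nat.card_pos
  omega

theorem outside_fix {X : Subgroup G} (hX : Good W X a b) {w : G} (hw : w ∈ W) (hwX : w ∉ X) {x : Ω}
    (hx : x ∈ fx X Ω) (hfix : w • x = x) : x = a ∨ x = b := by
  by_contra h
  push Not at h
  exact hwX (F.good_eq hX hx h.1 h.2 ▸ Subgroup.mem_inf.2 ⟨hw, hfix⟩)

theorem good_large (C : Ctx H Ω) {X : Subgroup G} (hX : Good W X a b) :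
    3 < Nat.card ↥(fx X Ω) ∧ Even (Nat.card ↥(fx X Ω)) := by
  haveI : Fact (Nat.Prime 2) := ⟨Nat.prime_two⟩
  haveI := C.finite
  obtain ⟨w, hw, hwX⟩ := F.exists_outside hX
  obtain ⟨c, hc, hca, hcb⟩ := hX.fix
  have hwc : ∀ u ∈ X, w * u = u * w := fun u hu => F.comm w hw u (hX.le hu)
  set D : Set Ω := fx X Ω \ {a, b} with hD
  have hDinv : ∀ x ∈ D, w • x ∈ D := by
    rintro x ⟨hx, hx'⟩
    obtain ⟨-, hwa, hwb⟩ := mem_S2.1 (F.W_le_S2 hw)
    refine ⟨smul_mem_fx_of_commute hwc hx, fun h => hx' ?_⟩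
    rcases h with h | h
    · exact Or.inl (MulAction.injective w (h.trans hwa.symm))
    · exact Or.inr (MulAction.injective w ((Set.mem_singleton_iff.1 h).trans hwb.symm))
  have h2 : 2 ∣ Nat.card ↥D := dvd_card_of_free (k := 1) hDinv (by rw [pow_one, pow_two]; exact F.sq w hw)
    fun x hx hfix => hx.2 (by rcases F.outside_fix hX hw hwX hx.1 hfix with h | h <;> simp [h])
  have hcard : Nat.card ↥(fx X Ω) = Nat.card ↥D + 2 := by
    rw [Nat.card_coe_set_eq, Nat.card_coe_set_eq, hD, Set.ncard_diff, Set.ncard_pair F.ne]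
    · have h3 : ({a, b, c} : Set Ω) ⊆ fx X Ω := by
        rintro x (rfl | rfl | rfl)
        exacts [F.good_mem_a hX, F.good_mem_b hX, hc]
      have h4 := Set.ncard_le_ncard h3
      rw [Set.ncard_insert_of_notMem (by simp [F.ne, hca.symm]), Set.ncard_pair hcb.symm] at h4
      omega
    · rintro x (rfl | rfl)
      exacts [F.good_mem_a hX, F.good_mem_b hX]
  have hpos : 0 < Nat.card ↥D := by
    haveI : Nonempty ↥D := ⟨⟨c, hc, by simp [hca, hcb]⟩⟩
    exact Nat.card_pos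
  obtain ⟨i, hi⟩ := h2
  exact ⟨by omega, ⟨i + 1, by omega⟩⟩

/-- 2-subgroups of the two-point stabilizer centralizing a good hyperplane act cyclically and semiregularly. -/
theorem good_affine (C : Ctx H Ω) {X : Subgroup G} (hX : Good W X a b) {Q : Subgroup G} (hQ : IsPGroup 2 Q)
    (hQab : Q ≤ S2 H a b) (hQX : ∀ q ∈ Q, ∀ u ∈ X, q * u = u * q) :
    IsCyclic (img X Ω Q) ∧
      ∀ q ∈ Q, ∀ c ∈ fx X Ω, c ≠ a → c ≠ b → q • c = c → ∀ d ∈ fx X Ω, q • d = d := by
  classical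
  haveI := C.normal
  haveI := C.finite
  obtain ⟨c₀, hc₀, hc₀a, hc₀b⟩ := hX.fix
  have hWitt := F.good_witt C hX hc₀ hc₀a hc₀b
  set N := Subgroup.normalizer (X : Set G) with hN
  set G' := (fxHom X Ω).range with hG'
  set K := H ⊓ Subgroup.centralizer (X : Set G) with hK
  set H' : Subgroup G' := (K.subgroupOf N).map (fxHom X Ω).rangeRestrict with hH'
  have hcomm : ∀ {g : G}, g ∈ Subgroup.centralizer (X : Set G) → ∀ u ∈ X, g * u = u * g := fun hg u hu =>
    (Subgroup.mem_centralizer_iff.1 hg u hu).symm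
  have hKn : (K.subgroupOf N).Normal := by
    refine ⟨fun x hx g => ?_⟩
    obtain ⟨hxH, hxC⟩ := Subgroup.mem_inf.1 (Subgroup.mem_subgroupOf.1 hx)
    refine Subgroup.mem_subgroupOf.2 (Subgroup.mem_inf.2 ⟨Subgroup.Normal.conj_mem inferInstance _ hxH g, ?_⟩)
    rw [Subgroup.mem_centralizer_iff]
    intro u hu
    have hu' : (g : G)⁻¹ * u * g ∈ X := by
      have := (Subgroup.mem_normalizer_iff.1 (inv_mem g.2) u).1 hu
      rwa [inv_inv] at this
    show u * ((g : G) * x * (g : G)⁻¹) = (g : G) * x * (g : G)⁻¹ * u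
    calc u * ((g : G) * x * (g : G)⁻¹) = (g : G) * (((g : G)⁻¹ * u * g) * x) * (g : G)⁻¹ := by group
      _ = (g : G) * ((x : G) * ((g : G)⁻¹ * u * g)) * (g : G)⁻¹ := by
          rw [Subgroup.mem_centralizer_iff.1 hxC _ hu']
      _ = _ := by group
  obtain ⟨hlarge, heven⟩ := F.good_large C hX
  have hCtx : Ctx H' ↥(fxSub X Ω) := by
    refine ⟨inferInstance, ?_, F.good_three C hX, hlarge, ?_, ?_⟩
    · constructor
      intro x y
      have ne : ∀ (z : Fin 3 ↪ ↥(fxSub X Ω)) {i j : Fin 3}, i ≠ j → ((z i : ↥(fxSub X Ω)) : Ω) ≠ z j :=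
        fun z i j hij e => hij (z.injective (Subtype.ext e))
      obtain ⟨n, hn, e1, e2, e3⟩ := hWitt.exists_normalizer C F.ne hc₀a.symm hc₀b.symm (x 0).2 (x 1).2 (x 2).2
        (ne x (by decide)) (ne x (by decide)) (ne x (by decide))
      obtain ⟨m, hm, f1, f2, f3⟩ := hWitt.exists_normalizer C F.ne hc₀a.symm hc₀b.symm (y 0).2 (y 1).2 (y 2).2
        (ne y (by decide)) (ne y (by decide)) (ne y (by decide))
      refine ⟨⟨fxHom X Ω (⟨m * n⁻¹, mul_mem hm (inv_mem hn)⟩ : N), _, rfl⟩, ?_⟩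
      refine Function.Embedding.ext fun i => Subtype.ext ?_
      show (m * n⁻¹) • ((x i : ↥(fxSub X Ω)) : Ω) = y i
      fin_cases i
      · rw [mul_smul]; simp [← e1, f1]
      · rw [mul_smul]; simp [← e2, f2]
      · rw [mul_smul]; simp [← e3, f3]
    · exact hKn.map _ (fxHom X Ω).rangeRestrict_surjective
    · intro hbot
      obtain ⟨h, hh, hhc, h1, -⟩ := F.cTrans C (hX.le.trans F.le) hc₀ hc₀a hc₀b (F.good_mem_b hX)
        (F.good_mem_a hX) F.ne.symm
      have hn := mem_normalizer_of_commute hhc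
      have hm : (fxHom X Ω).rangeRestrict ⟨h, hn⟩ ∈ H' := ⟨⟨h, hn⟩, Subgroup.mem_inf.2
        ⟨hh, Subgroup.mem_centralizer_iff.2 fun u hu => (hhc u hu).symm⟩, rfl⟩
      rw [hbot, Subgroup.mem_bot] at hm
      have h2 := congrArg (fun σ : G' => ((σ : Equiv.Perm ↥(fxSub X Ω)) ⟨a, F.good_mem_a hX⟩ : Ω)) hm
      exact F.ne (h2.symm.trans h1)
  have himg : ∀ {L : Subgroup G}, L ≤ N → img X Ω L ≤ G' := fun _ _ hσ => by
    obtain ⟨g, hn, -, rfl⟩ := exists_of_mem_img hσ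
    exact ⟨_, rfl⟩
  have h3 : ∀ x : ↥(fxSub X Ω), ¬ 3 ∣ Nat.card (S1 H' x) := by
    intro x h
    refine F.three x (h.trans ?_)
    rw [← Subgroup.card_map_of_injective G'.subtype_injective]
    have hle : (S1 H' x).map G'.subtype ≤ img X Ω (S1 H (x : Ω) ⊓ Subgroup.centralizer (X : Set G)) := by
      rintro _ ⟨_, ⟨⟨⟨g, hn⟩, hg, rfl⟩, hgx⟩, rfl⟩
      obtain ⟨hgH, hgC⟩ := Subgroup.mem_inf.1 (Subgroup.mem_subgroupOf.1 hg)
      exact mem_img_of (Subgroup.mem_inf.2 ⟨mem_S1.2 ⟨hgH, congrArg Subtype.val hgx⟩, hgC⟩) hn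
    exact (Subgroup.card_dvd_of_le hle).trans
      ((card_img_dvd _ (inf_le_right.trans (centralizer_le_normalizer' X))).trans
        (Subgroup.card_dvd_of_le inf_le_left))
  set xa : ↥(fxSub X Ω) := ⟨a, F.good_mem_a hX⟩ with hxa
  set xb : ↥(fxSub X Ω) := ⟨b, F.good_mem_b hX⟩ with hxb
  have hWY : ∀ w ∈ W, ∀ u ∈ X, w * u = u * w := fun w hw u hu => F.comm w hw u (hX.le hu)
  obtain ⟨O, hOA, hOodd, hOinv, htrans⟩ := F.core C (hX.le.trans F.le) hWY
    ⟨X, hX.le, by have := hX.card; omega, le_rfl⟩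
  have hAN : S1 H a ⊓ Subgroup.centralizer (X : Set G) ≤ N := inf_le_right.trans (centralizer_le_normalizer' X)
  set O' : Subgroup G' := O.subgroupOf G' with hO'
  obtain ⟨w, hw, hwX⟩ := F.exists_outside hX
  have hwn : w ∈ N := mem_normalizer_of_commute (hWY w hw)
  set z : G' := (fxHom X Ω).rangeRestrict ⟨w, hwn⟩ with hz
  have hlift : ∀ {L : Subgroup G}, L ≤ H → (∀ g ∈ L, g • a = a ∧ g • b = b) →
      L ≤ Subgroup.centralizer (X : Set G) → (img X Ω L).subgroupOf G' ≤ S2 H' xa xb := by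
    intro L hLH hLfix hLC σ hσ
    obtain ⟨g, hn, hg, e⟩ := exists_of_mem_img (Subgroup.mem_subgroupOf.1 hσ)
    have hσ' : σ = (fxHom X Ω).rangeRestrict ⟨g, hn⟩ := Subtype.ext e
    subst hσ'
    exact mem_S2.2 ⟨⟨⟨g, hn⟩, Subgroup.mem_subgroupOf.2 (Subgroup.mem_inf.2 ⟨hLH hg, hLC hg⟩), rfl⟩,
      Subtype.ext (hLfix g hg).1, Subtype.ext (hLfix g hg).2⟩
  have hQN : Q ≤ N := fun q hq => mem_normalizer_of_commute (hQX q hq)
  have hQimg : IsPGroup 2 ((img X Ω Q).subgroupOf G') := by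
    refine IsPGroup.of_equiv ?_ (Subgroup.subgroupOfEquivOfLe (himg hQN)).symm
    exact (hQ.of_equiv (Subgroup.subgroupOfEquivOfLe hQN).symm).map _
  obtain ⟨hcyc, hsemi⟩ := hCtx.affine heven h3
    (a := xa) (b := xb) (O := O') (fun e => F.ne (congrArg Subtype.val e))
    (by rwa [hO', Nat.card_congr (Subgroup.subgroupOfEquivOfLe (hOA.trans (himg hAN))).toEquiv])
    (fun σ hσ => by
      obtain ⟨g, hn, hg, e⟩ := exists_of_mem_img (hOA (Subgroup.mem_subgroupOf.1 hσ))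
      refine Subtype.ext ?_
      show ((σ : Equiv.Perm ↥(fxSub X Ω)) xa : Ω) = a
      rw [e, fxHom_apply]
      exact (mem_S1.1 (Subgroup.mem_inf.1 hg).1).2)
    (by
      rintro ⟨σ, ⟨⟨g, hn⟩, rfl⟩⟩ hga
      have hga' : g • a = a := congrArg Subtype.val hga
      refine cj_eq_self fun τ hτ => Subgroup.mem_subgroupOf.2 ?_
      have hinv := hOinv (fxHom X Ω ⟨g, hn⟩) (cj_eq_self fun ρ hρ => by
        obtain ⟨k, hkn, hk, rfl⟩ := exists_of_mem_img hρ
        obtain ⟨hkS, hkC⟩ := Subgroup.mem_inf.1 hk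
        rw [← map_inv, ← map_mul, ← map_mul]
        refine mem_img_of (Subgroup.mem_inf.2 ⟨?_, ?_⟩) _
        · have := conj_mem_cj (g := g) hkS
          rwa [cj_S1, hga'] at this
        · rw [Subgroup.mem_centralizer_iff]
          intro u hu
          have hu' : g⁻¹ * u * g ∈ X := by
            have := (Subgroup.mem_normalizer_iff.1 (inv_mem hn) u).1 hu
            rwa [inv_inv] at this
          calc u * (g * k * g⁻¹) = g * ((g⁻¹ * u * g) * k) * g⁻¹ := by group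
            _ = g * (k * (g⁻¹ * u * g)) * g⁻¹ := by rw [Subgroup.mem_centralizer_iff.1 hkC _ hu']
            _ = _ := by simp [mul_assoc])
      show fxHom X Ω ⟨g, hn⟩ * (τ : Equiv.Perm ↥(fxSub X Ω)) * (fxHom X Ω ⟨g, hn⟩)⁻¹ ∈ O
      rw [← hinv]
      exact conj_mem_cj (Subgroup.mem_subgroupOf.1 hτ))
    (fun y hy => by
      obtain ⟨σ, hσ, e⟩ := htrans xb y rfl fun e => hy (Subtype.ext e)
      exact ⟨⟨σ, himg hAN (hOA hσ)⟩, hσ, e⟩)
    (z := z)
    (hlift (L := W) (fun g hg => (mem_S2.1 (F.W_le_S2 hg)).1) (fun g hg => (mem_S2.1 (F.W_le_S2 hg)).2)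
      (fun g hg => Subgroup.mem_centralizer_iff.2 fun u hu => (hWY g hg u hu).symm)
      (show z ∈ (img X Ω W).subgroupOf G' from mem_img_of hw hwn))
    (by rw [hz, ← map_mul]; convert map_one (fxHom X Ω).rangeRestrict; exact Subtype.ext (F.sq w hw))
    (fun x hx => by
      rcases F.outside_fix hX hw hwX x.2 (congrArg Subtype.val hx) with h | h
      exacts [Or.inl (Subtype.ext h), Or.inr (Subtype.ext h)])
    hQimg
    (hlift (fun g hg => (mem_S2.1 (hQab hg)).1) (fun g hg => (mem_S2.1 (hQab hg)).2)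
      (fun g hg => Subgroup.mem_centralizer_iff.2 fun u hu => (hQX g hg u hu).symm))
  refine ⟨?_, fun q hq c hc hca hcb hqc d hd => ?_⟩
  · exact isCyclic_of_surjective (Subgroup.subgroupOfEquivOfLe (himg hQN))
      (Subgroup.subgroupOfEquivOfLe (himg hQN)).surjective
  · by_cases h1 : (fxHom X Ω).rangeRestrict ⟨q, hQN hq⟩ = 1
    · exact congrArg (fun σ : G' => ((σ : Equiv.Perm ↥(fxSub X Ω)) ⟨d, hd⟩ : Ω)) h1
    · rcases hsemi _ (show (fxHom X Ω).rangeRestrict ⟨q, hQN hq⟩ ∈ (img X Ω Q).subgroupOf G' from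
        mem_img_of hq (hQN hq)) h1 ⟨c, hc⟩ (Subtype.ext hqc) with h | h
      exacts [absurd (congrArg Subtype.val h) hca, absurd (congrArg Subtype.val h) hcb]

/-- If `W` has order two there are at most two colours. -/
theorem two_of_small (C : Ctx H Ω) (hs : Sym H Ω) (hW : Nat.card W = 2) : Two H Ω := by
  classical
  haveI : Fact (Nat.Prime 2) := ⟨Nat.prime_two⟩
  haveI := C.normal
  haveI := C.faithful
  haveI := C.finite
  obtain ⟨X, hX⟩ := F.exists_good C
  have hXbot : X = ⊥ := Subgroup.card_eq_one.1 (by have := hX.card; omega)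
  subst hXbot
  have huniv : ∀ x : Ω, x ∈ fx (⊥ : Subgroup G) Ω := fun x u hu => by
    rw [Subgroup.mem_bot.1 hu, one_smul]
  have hcommbot : ∀ (L : Subgroup G), ∀ q ∈ L, ∀ u ∈ (⊥ : Subgroup G), q * u = u * q := fun _ q _ u hu => by
    rw [Subgroup.mem_bot.1 hu, one_mul, mul_one]
  obtain ⟨hcyc, hsemi⟩ := F.good_affine C hX F.syl.isPGroup F.syl.le (hcommbot P)
  -- `P` is semiregular and has a unique involution
  obtain ⟨z, hz, hz1⟩ := F.exists_outside hX
  rw [Subgroup.mem_bot] at hz1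
  have hzP : z ∈ P := F.le hz
  have hzfix : ∀ x : Ω, z • x = x → x = a ∨ x = b := fun x hx =>
    F.outside_fix hX hz (fun h => hz1 (Subgroup.mem_bot.1 h)) (huniv x) hx
  have hPfree : ∀ q ∈ P, ∀ c : Ω, c ≠ a → c ≠ b → q • c = c → q = 1 := fun q hq c hca hcb hqc =>
    FaithfulSMul.eq_of_smul_eq_smul (α := Ω) fun d => by
      rw [one_smul]; exact hsemi q hq c (huniv c) hca hcb hqc d (huniv d)
  have hPinv : ∀ q ∈ P, q * q = 1 → q = 1 ∨ q = z := by
    haveI := hcyc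
    intro q hq hq2
    by_contra hne
    push Not at hne
    have hn : ∀ g : G, g ∈ Subgroup.normalizer ((⊥ : Subgroup G) : Set G) := fun g =>
      mem_normalizer_of_commute fun u hu => by rw [Subgroup.mem_bot.1 hu, one_mul, mul_one]
    have hinj : ∀ {g k : G}, fxHom ⊥ Ω ⟨g, hn g⟩ = fxHom ⊥ Ω ⟨k, hn k⟩ → g = k := fun h =>
      FaithfulSMul.eq_of_smul_eq_smul (α := Ω) fun d =>
        congrArg (fun σ : Equiv.Perm ↥(fxSub (⊥ : Subgroup G) Ω) => ((σ ⟨d, huniv d⟩ : ↥(fxSub (⊥ : Subgroup G) Ω)) : Ω)) h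
    set ι : G → Equiv.Perm ↥(fxSub (⊥ : Subgroup G) Ω) := fun g => fxHom ⊥ Ω ⟨g, hn g⟩ with hι
    have hι1 : ι 1 = 1 := map_one (fxHom ⊥ Ω)
    obtain ⟨g₀, hg₀⟩ := hcyc.exists_generator
    have h2 : ({ι 1, ι q, ι z} : Finset _).card ≤ 2 := by
      haveI := Fintype.ofFinite (img (⊥ : Subgroup G) Ω P)
      have hle := IsCyclic.card_pow_eq_one_le (α := img (⊥ : Subgroup G) Ω P) two_pos
      refine le_trans ?_ hle
      refine Finset.card_le_card_of_injOn
        (fun σ => if h : σ ∈ img (⊥ : Subgroup G) Ω P then (⟨σ, h⟩ : img (⊥ : Subgroup G) Ω P) else 1) ?_ ?_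
      · intro σ hσ
        simp only [Finset.coe_insert, Finset.coe_singleton, Set.mem_insert_iff, Set.mem_singleton_iff] at hσ
        simp only [Finset.coe_filter, Finset.mem_univ, true_and, Set.mem_setOf_eq]
        have key : ∀ g ∈ P, g * g = 1 → (if h : ι g ∈ img (⊥ : Subgroup G) Ω P then
            (⟨ι g, h⟩ : img (⊥ : Subgroup G) Ω P) else 1) ^ 2 = 1 := by
          intro g hg hg2
          rw [dif_pos (mem_img_of hg (hn g))]
          refine Subtype.ext ?_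
          rw [SubmonoidClass.coe_pow, Subgroup.coe_one]
          show fxHom (⊥ : Subgroup G) Ω ⟨g, hn g⟩ ^ 2 = 1
          rw [← map_pow]
          convert map_one (fxHom (⊥ : Subgroup G) Ω)
          exact Subtype.ext (by rw [SubmonoidClass.coe_pow, pow_two]; exact hg2)
        rcases hσ with rfl | rfl | rfl
        exacts [key 1 (one_mem P) (one_mul 1), key q hq hq2, key z hzP (F.sq z hz)]
      · intro σ hσ τ hτ h
        have hmem : ∀ ρ ∈ ({ι 1, ι q, ι z} : Finset _), ρ ∈ img (⊥ : Subgroup G) Ω P := by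
          intro ρ hρ
          simp only [Finset.mem_insert, Finset.mem_singleton] at hρ
          rcases hρ with rfl | rfl | rfl
          exacts [mem_img_of (one_mem P) _, mem_img_of hq _, mem_img_of hzP _]
        simp only [dif_pos (hmem σ hσ), dif_pos (hmem τ hτ)] at h
        exact congrArg Subtype.val h
    rw [Finset.card_insert_of_notMem, Finset.card_pair] at h2
    · omega
    · exact fun h => hne.2 (hinj h)
    · simp only [Finset.mem_insert, Finset.mem_singleton, not_or]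
      exact ⟨fun h => hne.1 (hinj h).symm, fun h => hz1 (hinj h).symm⟩
  set M := pairStab H a b with hM
  obtain ⟨T, hT, hPT⟩ := exists_isSyl_ge 2 F.syl.isPGroup (F.syl.le.trans (S2_le_pairStab H a b))
  have hTP : T ⊓ S2 H a b = P := by
    refine (Subgroup.eq_of_le_of_card_ge (le_inf hPT F.syl.le) (Nat.le_of_dvd Nat.card_pos ?_)).symm
    obtain ⟨d, hd, hdle⟩ := exists_cj_le F.syl (hT.isPGroup.to_le inf_le_left) inf_le_right
    rw [← card_cj d]
    exact Subgroup.card_dvd_of_le hdle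
  have hswapfix : ∀ t ∈ T, t • a = b → ∀ p ∈ P, t * p * t⁻¹ ∈ P := by
    intro t ht hta p hp
    rw [← hTP] at hp ⊢
    obtain ⟨hpT, hpS⟩ := Subgroup.mem_inf.1 hp
    refine Subgroup.mem_inf.2 ⟨mul_mem (mul_mem ht hpT) (inv_mem ht), ?_⟩
    have htb : t • b = a := by
      rcases (mem_pairStab.1 (hT.le ht)).2 with ⟨h1, -⟩ | ⟨-, h2⟩
      · exact absurd (h1.symm.trans hta) F.ne
      · exact h2
    have := conj_mem_cj (g := t) hpS
    rwa [cj_S2, hta, htb, S2_comm] at this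
  -- every colour gives a swapping involution in `T`
  have hcolour : ∀ c, c ≠ a → c ≠ b → ∃ t ∈ T, t • a = b ∧ t * t = 1 ∧ ∃ c', Col H a b c c' ∧
      t • c' = c' ∧ c' ≠ a ∧ c' ≠ b ∧ (∀ d : Ω, t • d = d → d = c' ∨ d = z • c') := by
    intro c hca hcb
    obtain ⟨h, hh, hha, hhb, hhc⟩ := hs a b c F.ne hca.symm hcb.symm
    obtain ⟨m, hm, k, hk⟩ := exists_p_part 2 h
    set t₀ := h ^ m with ht₀
    have hh2 : h * h ∈ stabilizer G a ∧ h * h ∈ stabilizer G b :=
      ⟨by rw [mem_stabilizer_iff, mul_smul, hha, hhb], by rw [mem_stabilizer_iff, mul_smul, hhb, hha]⟩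
    obtain ⟨j, hj⟩ := Nat.coprime_two_left.1 hm.symm
    have ht₀' : t₀ = h * (h * h) ^ j := by rw [ht₀, hj, pow_succ', pow_mul, pow_two]
    have ht₀a : t₀ • a = b := by rw [ht₀', mul_smul, mem_stabilizer_iff.1 (pow_mem hh2.1 j), hha]
    have ht₀b : t₀ • b = a := by rw [ht₀', mul_smul, mem_stabilizer_iff.1 (pow_mem hh2.2 j), hhb]
    have ht₀c : t₀ • c = c := mem_stabilizer_iff.1 (pow_mem (mem_stabilizer_iff.2 hhc : h ∈ stabilizer G c) m)
    have ht₀H : t₀ ∈ H := pow_mem hh m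
    have hpg : IsPGroup 2 (Subgroup.zpowers t₀) := by
      obtain ⟨i, -, hi⟩ := (Nat.dvd_prime_pow Nat.prime_two).1 (orderOf_dvd_of_pow_eq_one hk)
      exact IsPGroup.of_card (n := i) (by rw [Nat.card_zpowers, hi])
    have ht₀M : t₀ ∈ M := mem_pairStab.2 ⟨ht₀H, Or.inr ⟨ht₀a, ht₀b⟩⟩
    obtain ⟨k₁, hk₁, hle⟩ := exists_cj_le hT hpg (Subgroup.zpowers_le.2 ht₀M)
    obtain ⟨k₂, hk₂, hk₂T⟩ : ∃ k₂ ∈ S2 H a b, k₂ * t₀ * k₂⁻¹ ∈ T := by
      have hin := hle (conj_mem_cj (Subgroup.mem_zpowers t₀))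
      rcases (mem_pairStab.1 hk₁).2 with h1 | h1
      · exact ⟨k₁, mem_S2.2 ⟨(mem_pairStab.1 hk₁).1, h1⟩, hin⟩
      · refine ⟨k₁ * t₀, mem_S2.2 ⟨mul_mem (mem_pairStab.1 hk₁).1 ht₀H, by rw [mul_smul, ht₀a, h1.2],
          by rw [mul_smul, ht₀b, h1.1]⟩, ?_⟩
        rwa [show k₁ * t₀ * t₀ * (k₁ * t₀)⁻¹ = k₁ * t₀ * k₁⁻¹ by group]
    obtain ⟨hk₂H, hk₂a, hk₂b⟩ := mem_S2.1 hk₂
    set t := k₂ * t₀ * k₂⁻¹ with ht
    set c' := k₂ • c with hc'
    have hc'a : c' ≠ a := fun e => hca (MulAction.injective k₂ (e.trans hk₂a.symm))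
    have hc'b : c' ≠ b := fun e => hcb (MulAction.injective k₂ (e.trans hk₂b.symm))
    have hta : t • a = b := by rw [ht, mul_smul, mul_smul, inv_smul_eq_iff.2 hk₂a.symm, ht₀a, hk₂b]
    have htb : t • b = a := by rw [ht, mul_smul, mul_smul, inv_smul_eq_iff.2 hk₂b.symm, ht₀b, hk₂a]
    have htc : t • c' = c' := by rw [ht, hc', mul_smul, mul_smul, inv_smul_smul, ht₀c]
    have htt : t * t = 1 := by
      refine hPfree _ ?_ c' hc'a hc'b (by rw [mul_smul, htc, htc])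
      rw [← hTP]
      exact Subgroup.mem_inf.2 ⟨mul_mem hk₂T hk₂T, mem_S2.2 ⟨mul_mem (mem_pairStab.1 (hT.le hk₂T)).1
        (mem_pairStab.1 (hT.le hk₂T)).1, by rw [mul_smul, hta, htb], by rw [mul_smul, htb, hta]⟩⟩
    have ht1 : t ≠ 1 := fun e => F.ne (by rw [← hta, e, one_smul])
    have htz : t * z = z * t := by
      rcases hPinv (t * z * t⁻¹) (hswapfix t hk₂T hta z hzP) (by
          rw [show t * z * t⁻¹ * (t * z * t⁻¹) = t * (z * z) * t⁻¹ by group, F.sq z hz, mul_one, mul_inv_cancel])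
        with h | h
      · exact absurd (conj_eq_one_iff.1 h) hz1
      · exact mul_inv_eq_iff_eq_mul.1 h
    set d' := z • c' with hd'
    have htd : t • d' = d' := by rw [hd', ← mul_smul, htz, mul_smul, htc]
    have hcd : c' ≠ d' := fun e => (hzfix c' e.symm).elim hc'a hc'b
    refine ⟨t, hk₂T, hta, htt, c', ⟨k₂, hk₂, rfl⟩, htc, hc'a, hc'b, fun d hd => ?_⟩
    -- `t` is conjugate to `z`
    obtain ⟨g, hg, hgc, hgd⟩ := C.h_exists2 hcd F.ne
    have htS : g * t * g⁻¹ ∈ S2 H a b := mem_S2.2 ⟨mul_mem (mul_mem hg (mem_pairStab.1 (hT.le hk₂T)).1)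
      (inv_mem hg), by rw [mul_smul, mul_smul, inv_smul_eq_iff.2 hgc.symm, htc, hgc],
      by rw [mul_smul, mul_smul, inv_smul_eq_iff.2 hgd.symm, htd, hgd]⟩
    obtain ⟨k₃, hk₃, hle₃⟩ := exists_cj_le F.syl (show IsPGroup 2 (Subgroup.zpowers (g * t * g⁻¹)) from by
        obtain ⟨i, -, hi⟩ := (Nat.dvd_prime_pow Nat.prime_two).1 (orderOf_dvd_of_pow_eq_one
          (show (g * t * g⁻¹) ^ 2 ^ 1 = 1 by
            rw [pow_one, pow_two, show g * t * g⁻¹ * (g * t * g⁻¹) = g * (t * t) * g⁻¹ by group, htt, mul_one,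
              mul_inv_cancel]))
        exact IsPGroup.of_card (n := i) (by rw [Nat.card_zpowers, hi])) (Subgroup.zpowers_le.2 htS)
    obtain ⟨-, k₃a, k₃b⟩ := mem_S2.1 hk₃
    have he : k₃ * g * t * (k₃ * g)⁻¹ = z := by
      rcases hPinv (k₃ * g * t * (k₃ * g)⁻¹) (by
          have := hle₃ (conj_mem_cj (Subgroup.mem_zpowers (g * t * g⁻¹)))
          simpa [mul_assoc] using this) (by
          rw [show k₃ * g * t * (k₃ * g)⁻¹ * (k₃ * g * t * (k₃ * g)⁻¹) = k₃ * g * (t * t) * (k₃ * g)⁻¹ by group,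
            htt, mul_one, mul_inv_cancel]) with h | h
      · exact absurd (conj_eq_one_iff.1 h) ht1
      · exact h
    have hzd : z • ((k₃ * g) • d) = (k₃ * g) • d := by
      rw [← he, ← mul_smul, show k₃ * g * t * (k₃ * g)⁻¹ * (k₃ * g) = k₃ * g * t by group, mul_smul, hd]
    rcases hzfix _ hzd with h | h
    · exact Or.inl (MulAction.injective (k₃ * g) (h.trans (show a = (k₃ * g) • c' by rw [mul_smul, hgc, k₃a])))
    · exact Or.inr (MulAction.injective (k₃ * g) (h.trans (show b = (k₃ * g) • d' by rw [mul_smul, hgd, k₃b])))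
  refine Two.of_pair C F.ne fun c₁ c₂ c₃ h1a h1b h2a h2b h3a h3b => ?_
  by_contra hne
  push Not at hne
  obtain ⟨t₁, ht₁, t₁a, t₁2, d₁, k1, t₁d, d₁a, d₁b, f₁⟩ := hcolour c₁ h1a h1b
  obtain ⟨t₂, ht₂, t₂a, t₂2, d₂, k2, t₂d, d₂a, d₂b, f₂⟩ := hcolour c₂ h2a h2b
  obtain ⟨t₃, ht₃, t₃a, t₃2, d₃, k3, t₃d, d₃a, d₃b, f₃⟩ := hcolour c₃ h3a h3b
  -- a conjugate of one involution equal to another gives equal colours
  have hconj : ∀ {t t' : G} {d d' : Ω}, t' • d' = d' → (∀ e : Ω, t • e = e → e = d ∨ e = z • d) →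
      ∀ p ∈ P, p * t * p⁻¹ = t' → Col H a b d d' := by
    intro t t' d d' hd' hf p hp e
    have h1 : t • (p⁻¹ • d') = p⁻¹ • d' := by
      rw [← mul_smul, show t * p⁻¹ = p⁻¹ * t' by rw [← e]; group, mul_smul, hd']
    rcases hf _ h1 with h | h
    · exact ⟨p, F.syl.le hp, (inv_smul_eq_iff.1 h).symm⟩
    · exact ⟨p * z, F.syl.le (mul_mem hp hzP), by rw [mul_smul, ← h, smul_inv_smul]⟩
  haveI := Fintype.ofFinite P
  have hbig : ∀ {t : G} {d : Ω}, t • d = d → d ≠ a → d ≠ b → (∀ e : Ω, t • e = e → e = d ∨ e = z • d) →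
      Fintype.card P ≤ 2 * (Finset.univ.image fun p : P => (p : G) * t * (p : G)⁻¹).card := by
    intro t d htd hda hdb hf
    rw [← Finset.card_univ]
    refine Finset.card_le_mul_card_image Finset.univ 2 fun x hx => ?_
    obtain ⟨p₀, -, rfl⟩ := Finset.mem_image.1 hx
    refine (Finset.card_le_card (t := ({p₀, p₀ * ⟨z, hzP⟩} : Finset P)) fun p hp => ?_).trans Finset.card_le_two
    have e := (Finset.mem_filter.1 hp).2
    set q := (p₀ : G)⁻¹ * p with hq
    have hqt : q * t = t * q := by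
      rw [hq]
      calc (p₀ : G)⁻¹ * p * t = (p₀ : G)⁻¹ * ((p : G) * t * (p : G)⁻¹) * p := by group
        _ = t * ((p₀ : G)⁻¹ * p) := by rw [e]; group
    have hqd : t • (q • d) = q • d := by rw [← mul_smul, ← hqt, mul_smul, htd]
    have hqP : q ∈ P := mul_mem (inv_mem p₀.2) p.2
    rcases hf _ hqd with h | h
    · have := hPfree q hqP d hda hdb h
      rw [hq, inv_mul_eq_one] at this
      exact Finset.mem_insert.2 (Or.inl (Subtype.ext this.symm))
    · have h' := hPfree (z⁻¹ * q) (mul_mem (inv_mem hzP) hqP) d hda hdb (by rw [mul_smul, h, inv_smul_smul])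
      rw [inv_mul_eq_one, hq, eq_inv_mul_iff_mul_eq] at h'
      exact Finset.mem_insert.2 (Or.inr (Finset.mem_singleton.2 (Subtype.ext h'.symm)))
  set I := fun t : G => Finset.univ.image fun p : P => (p : G) * t * (p : G)⁻¹ with hI
  have hdis : ∀ {t t' : G} {d d' : Ω}, t' • d' = d' → (∀ e : Ω, t • e = e → e = d ∨ e = z • d) →
      ¬ Col H a b d d' → Disjoint (I t) (I t') := by
    intro t t' d d' hd' hf hnc
    rw [Finset.disjoint_left]
    intro x hx hx'
    obtain ⟨p, -, rfl⟩ := Finset.mem_image.1 hx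
    obtain ⟨p', -, e⟩ := Finset.mem_image.1 hx'
    refine hnc (hconj hd' hf ((p'⁻¹ * p : P) : G) (p'⁻¹ * p : P).2 ?_)
    rw [Subgroup.coe_mul, Subgroup.coe_inv]
    calc (p' : G)⁻¹ * p * t * ((p' : G)⁻¹ * p)⁻¹ = (p' : G)⁻¹ * ((p : G) * t * (p : G)⁻¹) * p' := by group
      _ = t' := by rw [← e]; group
  have hsub : I t₁ ∪ I t₂ ∪ I t₃ ⊆ Finset.univ.image fun p : P => t₁ * (p : G) := by
    intro x hx
    have key : ∀ {t : G}, t ∈ T → t • a = b → ∀ y ∈ I t, y ∈ Finset.univ.image fun p : P => t₁ * (p : G) := by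
      intro t ht hta y hy
      obtain ⟨p, -, rfl⟩ := Finset.mem_image.1 hy
      obtain ⟨hpH, hpa, hpb⟩ := mem_S2.1 (F.syl.le p.2)
      have hpT := hPT p.2
      have hmem : t₁⁻¹ * ((p : G) * t * (p : G)⁻¹) ∈ P := by
        refine hTP.le ?_
        refine Subgroup.mem_inf.2 ⟨mul_mem (inv_mem ht₁) (mul_mem (mul_mem hpT ht) (inv_mem hpT)), mem_S2.2 ⟨?_, ?_, ?_⟩⟩
        · exact mul_mem (inv_mem (mem_pairStab.1 (hT.le ht₁)).1)
            (mul_mem (mul_mem hpH (mem_pairStab.1 (hT.le ht)).1) (inv_mem hpH))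
        · rw [mul_smul, mul_smul, mul_smul, inv_smul_eq_iff.2 hpa.symm, hta, hpb, inv_smul_eq_iff, t₁a]
        · have htb : t • b = a := by
            rcases (mem_pairStab.1 (hT.le ht)).2 with ⟨h1, -⟩ | ⟨-, h2⟩
            · exact absurd (h1.symm.trans hta) F.ne
            · exact h2
          have ht₁b : t₁ • b = a := by
            rw [← t₁a, ← mul_smul, t₁2, one_smul]
          rw [mul_smul, mul_smul, mul_smul, inv_smul_eq_iff.2 hpb.symm, htb, hpa, inv_smul_eq_iff, ht₁b]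
      exact Finset.mem_image.2 ⟨⟨_, hmem⟩, Finset.mem_univ _, mul_inv_cancel_left t₁ _⟩
    simp only [Finset.mem_union] at hx
    rcases hx with (hx | hx) | hx
    exacts [key ht₁ t₁a x hx, key ht₂ t₂a x hx, key ht₃ t₃a x hx]
  have hd12 : ¬ Col H a b d₁ d₂ := fun h => hne.1 ((k1.trans h).trans k2.symm)
  have hd13 : ¬ Col H a b d₁ d₃ := fun h => hne.2.1 ((k1.trans h).trans k3.symm)
  have hd23 : ¬ Col H a b d₂ d₃ := fun h => hne.2.2 ((k2.trans h).trans k3.symm)
  have hcard := (Finset.card_le_card hsub).trans Finset.card_image_le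
  rw [Finset.card_union_of_disjoint (Finset.disjoint_union_left.2 ⟨hdis t₃d f₁ hd13, hdis t₃d f₂ hd23⟩),
    Finset.card_union_of_disjoint (hdis t₂d f₁ hd12), Finset.card_univ] at hcard
  have b1 : Fintype.card P ≤ 2 * (I t₁).card := hbig t₁d d₁a d₁b f₁
  have b2 : Fintype.card P ≤ 2 * (I t₂).card := hbig t₂d d₂a d₂b f₂
  have b3 : Fintype.card P ≤ 2 * (I t₃).card := hbig t₃d d₃a d₃b f₃
  have : 0 < Fintype.card P := Fintype.card_pos
  omega

end Frame

end Cfsg.Lib.Wagner
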