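import Cfsg.Agent.Lib.Wagner.Core
import Cfsg.Agent.Lib.Coprime.Generation

/-!
# The stabilizers in `W` of a third point have index two
-/

set_option autoImplicit false
set_option linter.unusedSectionVars false
set_option linter.style.haveILetI false

namespace Cfsg.Lib.Wagner

open MulAction Cfsg.Lib.Plane

universe u v

variable {G : Type u} [Group G] [Finite G] {Ω : Type v} [MulAction G Ω]

/-- `X` is a subgroup of index two of `W` fixing a third point. -/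
structure Good (W X : Subgroup G) (a b : Ω) : Prop where
  le : X ≤ W
  card : 2 * Nat.card X = Nat.card W
  fix : ∃ c ∈ fx X Ω, c ≠ a ∧ c ≠ b

theorem two_mul_card_le_of_lt {K L : Subgroup G} (hle : K ≤ L) (hne : K ≠ L) :
    2 * Nat.card K ≤ Nat.card L := by
  rw [card_eq_mul_relIndex hle, mul_comm]
  refine Nat.mul_le_mul_left _ ?_
  have h0 : K.relIndex L ≠ 1 := fun h => hne (le_antisymm hle (Subgroup.relIndex_eq_one.1 h))
  have h1 : K.relIndex L ≠ 0 := fun h => by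
    have := card_eq_mul_relIndex hle
    rw [h, mul_zero] at this
    exact Nat.card_pos.ne' this
  omega

/-- A subgroup of exponent two is commutative. -/
theorem comm_of_sq {W : Subgroup G} (hsq : ∀ x ∈ W, x * x = 1) {x y : G} (hx : x ∈ W) (hy : y ∈ W) :
    x * y = y * x := by
  have h := hsq _ (mul_mem hx hy)
  rw [eq_inv_of_mul_eq_one_right h, mul_inv_rev, inv_eq_of_mul_eq_one_right (hsq x hx),
    inv_eq_of_mul_eq_one_right (hsq y hy)]

namespace Frame

variable {H : Subgroup G} {a b : Ω} {P W : Subgroup G} (F : Frame H a b P W)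
include F

theorem stab_card {c : Ω} (hca : c ≠ a) (hcb : c ≠ b) :
    2 * Nat.card ↥(W ⊓ stabilizer G c) ≤ Nat.card W := by
  refine two_mul_card_le_of_lt inf_le_left fun h => ?_
  rcases F.fix c fun u hu => (Subgroup.mem_inf.1 (h.symm ▸ hu : u ∈ W ⊓ stabilizer G c)).2 with h' | h'
  exacts [hca h', hcb h']

theorem good_eq {X : Subgroup G} (hX : Good W X a b) {c : Ω} (hc : c ∈ fx X Ω) (hca : c ≠ a) (hcb : c ≠ b) :
    W ⊓ stabilizer G c = X := by
  refine (Subgroup.eq_of_le_of_card_ge (le_inf hX.le (mem_fx_iff_le.1 hc)) ?_).symm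
  have := F.stab_card hca hcb
  have := hX.card
  omega

theorem good_max {X : Subgroup G} (hX : Good W X a b) :
    ∀ c : Ω, c ≠ a → c ≠ b → Nat.card ↥(W ⊓ stabilizer G c) ≤ Nat.card X := fun c hca hcb => by
  have := F.stab_card hca hcb
  have := hX.card
  omega

theorem good_mem_a {X : Subgroup G} (hX : Good W X a b) : a ∈ fx X Ω := fun u hu => F.mem_fa u (hX.le hu)

theorem good_mem_b {X : Subgroup G} (hX : Good W X a b) : b ∈ fx X Ω := fun u hu => F.mem_fb u (hX.le hu)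

theorem fix_b_of_le {X : Subgroup G} (hX : X ≤ W) : b ∈ fx X Ω := fun u hu => F.mem_fb u (hX hu)

theorem good_witt (C : Ctx H Ω) {X : Subgroup G} (hX : Good W X a b) {c : Ω} (hc : c ∈ fx X Ω)
    (hca : c ≠ a) (hcb : c ≠ b) : Witt H X a b c := by
  have e := F.good_eq hX hc hca hcb
  have := F.witt (m := Nat.card X) (F.good_max hX) C hca hcb (by rw [e])
  rwa [e] at this

theorem good_three (C : Ctx H Ω) {X : Subgroup G} (hX : Good W X a b) : 3 ∣ Nat.card ↥(fx X Ω) := by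
  obtain ⟨c, hc, hca, hcb⟩ := hX.fix
  exact (F.good_witt C hX hc hca hcb).three_dvd_fx C F.ne hca.symm hcb.symm F.three

/-- If the fixed set of `Z` has size divisible by three, so has the fixed set of each subgroup. -/
theorem three_dvd_sub (C : Ctx H Ω) {Y Z : Subgroup G} (hZ : Z ≤ P) (hYZ : Y ≤ Z) {c : Ω}
    (hc : c ∈ fx Z Ω) (hca : c ≠ a) (hcb : c ≠ b) (h3 : 3 ∣ Nat.card ↥(fx Z Ω)) :
    3 ∣ Nat.card ↥(fx Y Ω) := by
  haveI : Fact (Nat.Prime 3) := ⟨Nat.prime_three⟩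
  haveI := C.finite
  set K := H ⊓ Subgroup.centralizer (Z : Set G) with hK
  have hKc : ∀ k ∈ K, ∀ u ∈ Z, k * u = u * k := fun k hk u hu =>
    (Subgroup.mem_centralizer_iff.1 (Subgroup.mem_inf.1 hk).2 u hu).symm
  have horb : orb K a = fx Z Ω := by
    ext x
    constructor
    · rintro ⟨k, hk, rfl⟩
      exact smul_mem_fx_of_commute (hKc k hk) (fun u hu => (mem_S2.1 (F.syl.le (hZ hu))).2.1)
    · intro hx
      by_cases hxa : x = a
      · exact hxa ▸ self_mem_orb K a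
      · obtain ⟨k, hk, hkc, hka, -⟩ := F.cTrans C hZ hc hca hcb hx
          (fun u hu => (mem_S2.1 (F.syl.le (hZ hu))).2.1) hxa
        exact ⟨k, Subgroup.mem_inf.2 ⟨hk, Subgroup.mem_centralizer_iff.2 fun u hu => (hkc u hu).symm⟩, hka⟩
  have hdvd : 3 ∣ Nat.card K := by
    rw [← card_orb_mul K a, horb]
    exact Dvd.dvd.mul_right h3 _
  obtain ⟨σ, hσ⟩ := exists_prime_orderOf_dvd_card' (G := K) 3 hdvd
  have hσK : (σ : G) ∈ K := σ.2
  have hord : orderOf (σ : G) = 3 := by rw [Subgroup.orderOf_coe]; exact hσ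
  have hcomm : ∀ u ∈ Y, (σ : G) * u = u * σ := fun u hu => hKc σ hσK u (hYZ hu)
  refine dvd_card_of_free (σ := (σ : G)) (k := 1) (fun x hx => smul_mem_fx_of_commute hcomm hx)
    (by rw [pow_one, ← hord]; exact pow_orderOf_eq_one _) fun x _ hfix => F.three x ?_
  rw [← hord]
  exact Subgroup.orderOf_dvd_natCard _ (mem_S1.2 ⟨(Subgroup.mem_inf.1 hσK).1, hfix⟩)

/-- An element exchanging `a` and `b`, centralizing a maximal stabilizer `X` and normalising `W`. -/
theorem exists_swap (C : Ctx H Ω) {X : Subgroup G} (hXW : X ≤ W)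
    (hmax : ∀ x : Ω, x ∈ fx X Ω → x ≠ a → x ≠ b → W ⊓ stabilizer G x = X) {c : Ω} (hc : c ∈ fx X Ω)
    (hca : c ≠ a) (hcb : c ≠ b) {w : G} (hw : w ∈ W) (hwX : w ∉ X) :
    ∃ t h : G, t ∈ pairStab H a b ∧ t • a = b ∧ t * t = 1 ∧ (∀ u ∈ X, t * u = u * t) ∧ cj t W = W ∧
      h ∈ H ∧ (∀ u ∈ X, h * u = u * h) ∧ t = h * w * h⁻¹ ∧
      (∀ x ∈ fx X Ω, t • x = x → x = h • a ∨ x = h • b) ∧ h • a ∈ fx X Ω ∧ h • a ≠ a ∧ h • a ≠ b := by
  haveI : Fact (Nat.Prime 2) := ⟨Nat.prime_two⟩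
  haveI := C.normal
  have hw2 : w * w = 1 := F.sq w hw
  have hwc : ∀ u ∈ X, w * u = u * w := fun u hu => F.comm w hw u (hXW hu)
  have hne : c ≠ w • c := fun e => hwX (hmax c hc hca hcb ▸ Subgroup.mem_inf.2 ⟨hw, e.symm⟩)
  obtain ⟨g, hg, hgc, hga, hgb⟩ := F.cTrans C (hXW.trans F.le) hc hca hcb hc
    (smul_mem_fx_of_commute hwc hc) hne
  obtain ⟨hwH, hwa, hwb⟩ := mem_S2.1 (F.W_le_S2 hw)
  have hgi : ∀ u ∈ X, g⁻¹ * u = u * g⁻¹ := fun u hu => ((show Commute g u from hgc u hu).inv_left).eq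
  set t₁ := g⁻¹ * w * g with ht₁
  have ht₁a : t₁ • a = b := by rw [ht₁, mul_smul, mul_smul, hga, inv_smul_eq_iff, hgb]
  have ht₁2 : t₁ * t₁ = 1 := by
    rw [ht₁, show g⁻¹ * w * g * (g⁻¹ * w * g) = g⁻¹ * (w * w) * g by group, hw2, mul_one, inv_mul_cancel]
  have ht₁b : t₁ • b = a := by rw [← ht₁a, ← mul_smul, ht₁2, one_smul]
  have ht₁c : ∀ u ∈ X, t₁ * u = u * t₁ := fun u hu => by
    rw [ht₁]
    exact (((show Commute g⁻¹ u from hgi u hu).mul_left (hwc u hu)).mul_left (hgc u hu)).eq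
  set K1 := pairStab H a b ⊓ Subgroup.centralizer (X : Set G) with hK1
  set C0 := S2 H a b ⊓ Subgroup.centralizer (X : Set G) with hC0
  have hWC0 : W ≤ C0 := fun y hy => Subgroup.mem_inf.2 ⟨F.W_le_S2 hy,
    Subgroup.mem_centralizer_iff.2 fun u hu => (F.comm y hy u (hXW hu)).symm⟩
  have hC01 : C0 ≤ K1 := inf_le_inf_right _ (S2_le_pairStab H a b)
  obtain ⟨R, hR, hWR⟩ := exists_isSyl_ge 2 F.W_pgroup hWC0
  obtain ⟨T, hT, hRT⟩ := exists_isSyl_ge 2 hR.isPGroup (hR.le.trans hC01)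
  have ht₁K : t₁ ∈ K1 := Subgroup.mem_inf.2
    ⟨mem_pairStab.2 ⟨mul_mem (mul_mem (inv_mem hg) hwH) hg, Or.inr ⟨ht₁a, ht₁b⟩⟩,
      Subgroup.mem_centralizer_iff.2 fun u hu => (ht₁c u hu).symm⟩
  obtain ⟨k₁, hk₁, hk₁T⟩ := exists_cj_le hT
    (show IsPGroup 2 (Subgroup.zpowers t₁) from by
      obtain ⟨j, -, hj⟩ := (Nat.dvd_prime_pow Nat.prime_two).1
        (orderOf_dvd_of_pow_eq_one (show t₁ ^ 2 ^ 1 = 1 by rw [pow_one, pow_two, ht₁2]))
      exact IsPGroup.of_card (n := j) (by rw [Nat.card_zpowers, hj]))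
    (Subgroup.zpowers_le.2 ht₁K)
  obtain ⟨k, hk, hkT⟩ : ∃ k ∈ C0, k * t₁ * k⁻¹ ∈ T := by
    have hin := hk₁T (conj_mem_cj (Subgroup.mem_zpowers t₁))
    obtain ⟨hk₁m, hk₁c⟩ := Subgroup.mem_inf.1 hk₁
    rcases (mem_pairStab.1 hk₁m).2 with h1 | h1
    · exact ⟨k₁, Subgroup.mem_inf.2 ⟨mem_S2.2 ⟨(mem_pairStab.1 hk₁m).1, h1⟩, hk₁c⟩, hin⟩
    · refine ⟨k₁ * t₁, Subgroup.mem_inf.2 ⟨mem_S2.2 ⟨mul_mem (mem_pairStab.1 hk₁m).1
        (mul_mem (mul_mem (inv_mem hg) hwH) hg), by rw [mul_smul, ht₁a, h1.2], by rw [mul_smul, ht₁b, h1.1]⟩,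
        mul_mem hk₁c (Subgroup.mem_inf.1 ht₁K).2⟩, ?_⟩
      rwa [show k₁ * t₁ * t₁ * (k₁ * t₁)⁻¹ = k₁ * t₁ * k₁⁻¹ by group]
  obtain ⟨hkS, hkC⟩ := Subgroup.mem_inf.1 hk
  obtain ⟨hkH, hka, hkb⟩ := mem_S2.1 hkS
  set t := k * t₁ * k⁻¹ with ht
  have hta : t • a = b := by rw [ht, mul_smul, mul_smul, inv_smul_eq_iff.2 hka.symm, ht₁a, hkb]
  have htb : t • b = a := by rw [ht, mul_smul, mul_smul, inv_smul_eq_iff.2 hkb.symm, ht₁b, hka]
  obtain ⟨htp, htcent⟩ := Subgroup.mem_inf.1 (hT.le hkT)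
  have htc : ∀ u ∈ X, t * u = u * t := fun u hu => (Subgroup.mem_centralizer_iff.1 htcent u hu).symm
  have hkc : ∀ u ∈ X, k * u = u * k := fun u hu => (Subgroup.mem_centralizer_iff.1 hkC u hu).symm
  -- `t` normalises `R`
  have hTR : T ⊓ C0 = R := by
    refine (Subgroup.eq_of_le_of_card_ge (le_inf hRT hR.le) (Nat.le_of_dvd Nat.card_pos ?_)).symm
    obtain ⟨d, hd, hdle⟩ := exists_cj_le hR (hT.isPGroup.to_le inf_le_left) (inf_le_right : T ⊓ C0 ≤ C0)
    rw [← card_cj d]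
    exact Subgroup.card_dvd_of_le hdle
  have htR : cj t R ≤ R := by
    rintro _ ⟨y, hy, rfl⟩
    rw [← hTR] at hy ⊢
    obtain ⟨hyT, hyC⟩ := Subgroup.mem_inf.1 hy
    obtain ⟨hyS, hyc⟩ := Subgroup.mem_inf.1 hyC
    refine Subgroup.mem_inf.2 ⟨mul_mem (mul_mem hkT hyT) (inv_mem hkT), Subgroup.mem_inf.2 ⟨?_,
      mul_mem (mul_mem htcent hyc) (inv_mem htcent)⟩⟩
    have h1 := conj_mem_cj (g := t) hyS
    rwa [cj_S2, hta, htb, S2_comm] at h1
  have htW : cj t W = W := by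
    obtain ⟨d, hd, -, hdW⟩ := F.exists_pair_conj (g := t) (Or.inr ⟨hta, htb⟩)
    have e : cj t W = cj d⁻¹ W := by
      conv_rhs => rw [← hdW]
      rw [cj_cj, inv_mul_cancel_left]
    rw [e]
    exact F.cj_eq_of_le hR.isPGroup (hR.le.trans (inf_le_left.trans (S2_le_S1 H a b))) hWR
      (S2_le_S1 H a b (inv_mem hd)) (e ▸ (cj_mono hWR).trans htR)
  set h := k * g⁻¹ with hh
  have hth : t = h * w * h⁻¹ := by rw [ht, ht₁, hh]; group
  have hhc : ∀ u ∈ X, h * u = u * h := fun u hu =>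
    ((show Commute k u from hkc u hu).mul_left (show Commute g⁻¹ u from hgi u hu)).eq
  have hne' : ∀ x : Ω, x = a ∨ x = b → t • x ≠ x := by
    rintro x (rfl | rfl)
    · rw [hta]; exact F.ne.symm
    · rw [htb]; exact F.ne
  have hfixha : t • (h • a) = h • a := by rw [hth, mul_smul, mul_smul, inv_smul_smul, hwa]
  have hha : h • a ∈ fx X Ω := smul_mem_fx_of_commute hhc fun u hu => F.mem_fa u (hXW hu)
  refine ⟨t, h, htp, hta, ?_, htc, htW, mul_mem hkH (inv_mem hg), hhc, hth, fun x hx hfix => ?_, hha,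
    fun e => hne' _ (Or.inl e) hfixha, fun e => hne' _ (Or.inr e) hfixha⟩
  · rw [ht, show k * t₁ * k⁻¹ * (k * t₁ * k⁻¹) = k * (t₁ * t₁) * k⁻¹ by group, ht₁2, mul_one, mul_inv_cancel]
  · have hx' : h⁻¹ • x ∈ fx X Ω := smul_mem_fx_of_commute
      (fun u hu => ((show Commute h u from hhc u hu).inv_left).eq) hx
    have hfix' : w • h⁻¹ • x = h⁻¹ • x := by
      rw [hth, mul_smul, mul_smul] at hfix
      exact MulAction.injective h (hfix.trans (smul_inv_smul h x).symm)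
    by_cases e1 : h⁻¹ • x = a
    · exact Or.inl (inv_smul_eq_iff.1 e1)
    by_cases e2 : h⁻¹ • x = b
    · exact Or.inr (inv_smul_eq_iff.1 e2)
    exact absurd (hmax _ hx' e1 e2 ▸ Subgroup.mem_inf.2 ⟨hw, hfix'⟩) hwX

/-- A maximal stabilizer in `W` of a third point has index two. -/
theorem good_of_max (C : Ctx H Ω) {c : Ω} (hca : c ≠ a) (hcb : c ≠ b)
    (hmax : ∀ x : Ω, x ≠ a → x ≠ b → Nat.card ↥(W ⊓ stabilizer G x) ≤ Nat.card ↥(W ⊓ stabilizer G c)) :
    Good W (W ⊓ stabilizer G c) a b := by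
  classical
  haveI := C.finite
  set X := W ⊓ stabilizer G c with hX
  have hXW : X ≤ W := inf_le_left
  have hcX : c ∈ fx X Ω := fun u hu => (Subgroup.mem_inf.1 hu).2
  have hmx : ∀ x : Ω, x ∈ fx X Ω → x ≠ a → x ≠ b → W ⊓ stabilizer G x = X := fun x hx hxa hxb =>
    (Subgroup.eq_of_le_of_card_ge (le_inf hXW (mem_fx_iff_le.1 hx)) (hmax x hxa hxb)).symm
  have hne : X ≠ W := fun e => by
    have := F.stab_card hca hcb
    rw [← hX, e] at this
    have : 0 < Nat.card W := Nat.card_pos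
    omega
  obtain ⟨w, hw, hwX⟩ := SetLike.exists_of_lt (lt_of_le_of_ne hXW hne)
  obtain ⟨t, h, htp, hta, ht2, htc, htW, hhH, hhc, hth, hfix, hha, -, -⟩ :=
    F.exists_swap C hXW hmx hcX hca hcb hw hwX
  have hWt : ∀ y ∈ W, t * y * t⁻¹ ∈ W := fun y hy => htW ▸ conj_mem_cj hy
  -- the subgroup centralized by `t` modulo `X`
  let θ : W →* W :=
    { toFun := fun y => ⟨(y : G) * (t * y * t⁻¹), mul_mem y.2 (hWt y y.2)⟩
      map_one' := by ext; simp
      map_mul' := fun y y' => by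
        ext
        show (y : G) * y' * (t * ((y : G) * y') * t⁻¹) = y * (t * y * t⁻¹) * (y' * (t * y' * t⁻¹))
        rw [show t * ((y : G) * y') * t⁻¹ = (t * y * t⁻¹) * (t * y' * t⁻¹) by group, mul_assoc (y : G),
          ← mul_assoc (y' : G), F.comm (y' : G) y'.2 (t * y * t⁻¹) (hWt y y.2), mul_assoc (t * y * t⁻¹),
          mul_assoc (y : G) (t * y * t⁻¹)] }
  set W0 := ((X.subgroupOf W).comap θ).map W.subtype with hW0
  have hmem0 : ∀ y ∈ W0, y ∈ W ∧ y * (t * y * t⁻¹) ∈ X := by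
    rintro _ ⟨y, hy, rfl⟩
    exact ⟨y.2, hy⟩
  have hX0 : X ≤ W0 := fun x hx => ⟨⟨x, hXW hx⟩, by
    show x * (t * x * t⁻¹) ∈ X
    rw [htc x hx, mul_inv_cancel_right]
    exact mul_mem hx hx, rfl⟩
  have hsmall : Nat.card W0 ≤ 2 * Nat.card X := by
    have hsub : orb W0 (h • a) ⊆ ({h • a, h • b} : Set Ω) := by
      rintro _ ⟨y, hy, rfl⟩
      obtain ⟨hyW, hyt⟩ := hmem0 y hy
      have hyc : ∀ u ∈ X, y * u = u * y := fun u hu => F.comm y hyW u (hXW hu)
      refine hfix _ (smul_mem_fx_of_commute hyc hha) ?_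
      have e : t * y = y⁻¹ * (y * (t * y * t⁻¹)) * t := by group
      have htha : t • (h • a) = h • a := by
        rw [hth, mul_smul, mul_smul, inv_smul_smul, (mem_S2.1 (F.W_le_S2 hw)).2.1]
      rw [← mul_smul t y, e, mul_smul, mul_smul, htha, hha _ hyt, F.inv_eq hyW]
    have h1 := card_orb_mul W0 (h • a)
    have h2 : Nat.card ↥(orb W0 (h • a)) ≤ 2 := by
      rw [Nat.card_coe_set_eq]
      exact (Set.ncard_le_ncard hsub).trans ((Set.ncard_insert_le _ _).trans (by rw [Set.ncard_singleton]))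
    have h3 : Nat.card ↥(W0 ⊓ stabilizer G (h • a)) ≤ Nat.card X := by
      refine Subgroup.card_le_of_le fun y hy => ?_
      obtain ⟨hy0, hys⟩ := Subgroup.mem_inf.1 hy
      have hne' : ∀ x : Ω, x = a ∨ x = b → t • x ≠ x := by
        rintro x (rfl | rfl)
        · rw [hta]; exact F.ne.symm
        · intro e
          have := congrArg (fun z => t • z) hta
          simp only [← mul_smul, ht2, one_smul] at this
          exact F.ne (this.trans e)
      have htha : t • (h • a) = h • a := by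
        rw [hth, mul_smul, mul_smul, inv_smul_smul, (mem_S2.1 (F.W_le_S2 hw)).2.1]
      rw [← hmx _ hha (fun e => hne' _ (Or.inl e) htha) (fun e => hne' _ (Or.inr e) htha)]
      exact Subgroup.mem_inf.2 ⟨(hmem0 y hy0).1, hys⟩
    rw [← h1]
    exact Nat.mul_le_mul h2 h3
  have hfour : Nat.card W ≤ 4 * Nat.card X := by
    set W0' := (X.subgroupOf W).comap θ with hW0'
    have hcard0 : Nat.card W0 = Nat.card W0' := Subgroup.card_map_of_injective W.subtype_injective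
    have hcardX : Nat.card (X.subgroupOf W) = Nat.card X :=
      Nat.card_congr (Subgroup.subgroupOfEquivOfLe hXW).toEquiv
    have hXle : X.subgroupOf W ≤ W0' := fun x hx => by
      obtain ⟨y, hy, e⟩ := hX0 (Subgroup.mem_subgroupOf.1 hx)
      obtain rfl : y = x := Subtype.ext e
      exact hy
    have hrange : θ.range ≤ W0' := by
      rintro _ ⟨y, rfl⟩
      show (θ y : G) * (t * (θ y : G) * t⁻¹) ∈ X
      have e : t * (θ y : G) * t⁻¹ = (θ y : G) := by
        show t * ((y : G) * (t * y * t⁻¹)) * t⁻¹ = (y : G) * (t * y * t⁻¹)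
        rw [F.comm y y.2 _ (hWt y y.2)]
        calc t * (t * y * t⁻¹ * y) * t⁻¹ = (t * t) * y * (t⁻¹ * y * t⁻¹) := by group
          _ = _ := by rw [ht2, one_mul, inv_eq_of_mul_eq_one_right ht2, F.comm y y.2 (t * y * t) (by
              have := hWt y y.2
              rwa [inv_eq_of_mul_eq_one_right ht2] at this)]
      rw [e, F.sq _ (θ y).2]
      exact one_mem X
    have hidx : W0'.index ≤ 2 := by
      rw [hW0', Subgroup.index_comap]
      have h2 := card_eq_mul_relIndex hXle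
      have h0 : (X.subgroupOf W).relIndex W0' ≠ 0 := fun h => by
        rw [h, mul_zero] at h2; exact Nat.card_pos.ne' h2
      refine (Subgroup.relIndex_le_of_le_right hrange h0).trans ?_
      rw [hcard0, h2, hcardX, mul_comm] at hsmall
      exact Nat.le_of_mul_le_mul_right hsmall Nat.card_pos
    rw [← Subgroup.card_mul_index W0', ← hcard0]
    calc Nat.card W0 * W0'.index ≤ (2 * Nat.card X) * 2 := Nat.mul_le_mul hsmall hidx
      _ = 4 * Nat.card X := by ring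
  have hdvd : Nat.card W = Nat.card X * X.relIndex W := card_eq_mul_relIndex hXW
  have hrel : X.relIndex W ∣ Nat.card W := hdvd ▸ dvd_mul_left _ _
  haveI : Fact (Nat.Prime 2) := ⟨Nat.prime_two⟩
  have hle2 := two_mul_card_le_of_lt hXW hne
  have hXpos : 0 < Nat.card X := Nat.card_pos
  have hrel' : 2 ≤ X.relIndex W ∧ X.relIndex W ≤ 4 := by
    rw [hdvd] at hle2 hfour
    constructor <;> nlinarith
  have hrel3 : X.relIndex W ≠ 3 := fun e => by
    obtain ⟨i, hi⟩ := IsPGroup.iff_card.1 F.W_pgroup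
    rw [e, hi] at hrel
    have := (Nat.prime_dvd_prime_iff_eq Nat.prime_three Nat.prime_two).1 (Nat.prime_three.dvd_of_dvd_pow hrel)
    omega
  refine ⟨hXW, ?_, ⟨c, hcX, hca, hcb⟩⟩
  by_contra h2'
  have h4 : Nat.card W = 4 * Nat.card X := by
    obtain ⟨h5, h6⟩ := hrel'
    interval_cases h : X.relIndex W <;> omega
  -- the four group `W/X` forces the odd core to fix `b`
  have hWY : ∀ y ∈ W, ∀ u ∈ X, y * u = u * y := fun y hy u hu => F.comm y hy u (hXW hu)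
  obtain ⟨O, hOA, hOodd, hOinv, htrans⟩ := F.core C (hXW.trans F.le) hWY
    ⟨X, hXW, h4.le, le_rfl⟩
  set V := img X Ω W with hV
  have hWN : W ≤ Subgroup.normalizer (X : Set G) := fun y hy => mem_normalizer_of_commute (hWY y hy)
  have hker : ∀ y (hy : y ∈ W), fxHom X Ω ⟨y, hWN hy⟩ = 1 → y ∈ X := fun y hy h => by
    rw [← hmx c hcX hca hcb]
    exact Subgroup.mem_inf.2 ⟨hy, congrArg Subtype.val (Equiv.ext_iff.1 h ⟨c, hcX⟩)⟩
  haveI : IsMulCommutative V := ⟨⟨fun p q => by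
    obtain ⟨y, hyn, hy, e⟩ := exists_of_mem_img p.2
    obtain ⟨y', hyn', hy', e'⟩ := exists_of_mem_img q.2
    refine Subtype.ext ?_
    show (p : Equiv.Perm ↥(fxSub X Ω)) * q = q * p
    rw [e, e', ← map_mul, ← map_mul]
    exact congrArg _ (Subtype.ext (F.comm y hy y' hy'))⟩⟩
  have hnc : ¬ IsCyclic V := by
    intro hc
    have hsq : ∀ p : V, p ^ 2 = 1 := fun p => by
      obtain ⟨y, hyn, hy, e⟩ := exists_of_mem_img p.2
      refine Subtype.ext ?_
      rw [SubmonoidClass.coe_pow, Subgroup.coe_one, e, ← map_pow]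
      convert map_one (fxHom X Ω)
      exact Subtype.ext (by rw [SubmonoidClass.coe_pow, pow_two]; exact F.sq y hy)
    obtain ⟨g, hg⟩ := hc.exists_generator
    have hV2 : Nat.card V ≤ 2 := by
      rw [← orderOf_eq_card_of_forall_mem_zpowers hg]
      exact Nat.le_of_dvd two_pos (orderOf_dvd_of_pow_eq_one (hsq g))
    set ρ : ↥W →* Equiv.Perm ↥(fxSub X Ω) := (fxHom X Ω).comp (Subgroup.inclusion hWN) with hρ
    have hrange : ρ.range ≤ V := by
      rintro _ ⟨y, rfl⟩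
      exact mem_img_of y.2 _
    have h7 : Nat.card ρ.range * Nat.card ρ.ker = Nat.card W := by
      rw [← Subgroup.index_ker, mul_comm, Subgroup.card_mul_index]
    have h8 : Nat.card ρ.ker ≤ Nat.card X := by
      rw [← Nat.card_congr (Subgroup.subgroupOfEquivOfLe hXW).toEquiv]
      exact Subgroup.card_le_of_le fun y hy => hker y y.2 hy
    have h9 := (Subgroup.card_le_of_le hrange).trans hV2
    nlinarith
  have hVA : V ≤ img X Ω (S1 H a ⊓ Subgroup.centralizer (X : Set G)) := img_mono (F.centralizes hWY)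
  have hVn : V ≤ Subgroup.normalizer (O : Set (Equiv.Perm ↥(fxSub X Ω))) := fun p hp =>
    mem_normalizer_iff_cj.2 (hOinv p (cj_eq_self fun u hu => mul_mem (mul_mem (hVA hp) hu) (inv_mem (hVA hp))))
  have hcop : (Nat.card V).Coprime (Nat.card O) := by
    obtain ⟨i, hi⟩ := IsPGroup.iff_card.1 (F.W_pgroup)
    exact (Nat.Coprime.pow_left i (Nat.coprime_two_left.2 hOodd)).coprime_dvd_left (hi ▸ card_img_dvd W hWN)
  set xb : ↥(fxSub X Ω) := ⟨b, F.fix_b_of_le hXW⟩ with hxb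
  have hOb : O ≤ stabilizer (Equiv.Perm ↥(fxSub X Ω)) xb := by
    refine (Cfsg.Lib.Coprime.le_iSup_centralizer_of_not_isCyclic hnc hVn hcop).trans (iSup_le ?_)
    rintro ⟨p, hp, hp1⟩ σ hσ
    obtain ⟨hσO, hσp⟩ := Subgroup.mem_inf.1 hσ
    obtain ⟨y, hyn, hy, rfl⟩ := exists_of_mem_img hp
    have hyX : y ∉ X := fun hyX => hp1 (Equiv.ext fun x => Subtype.ext (x.2 y hyX))
    have hfixy : y • ((σ xb : ↥(fxSub X Ω)) : Ω) = (σ xb : ↥(fxSub X Ω)) := by
      have h := Equiv.ext_iff.1 (Subgroup.mem_centralizer_singleton_iff.1 hσp) xb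
      simp only [Equiv.Perm.mul_apply] at h
      have hyb : fxHom X Ω ⟨y, hyn⟩ xb = xb := Subtype.ext (mem_S2.1 (F.W_le_S2 hy)).2.2
      rw [hyb] at h
      exact (congrArg Subtype.val h).symm
    show σ xb = xb
    by_cases e1 : ((σ xb : ↥(fxSub X Ω)) : Ω) = a
    · exfalso
      obtain ⟨g, hgn, hg, e⟩ := exists_of_mem_img (hOA hσO)
      rw [e, fxHom_apply] at e1
      exact F.ne.symm (MulAction.injective g (e1.trans (mem_S1.1 (Subgroup.mem_inf.1 hg).1).2.symm))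
    by_cases e2 : ((σ xb : ↥(fxSub X Ω)) : Ω) = b
    · exact Subtype.ext e2
    exact absurd (hmx _ (σ xb).2 e1 e2 ▸ Subgroup.mem_inf.2 ⟨hy, hfixy⟩) hyX
  obtain ⟨σ, hσ, e⟩ := htrans xb ⟨c, hcX⟩ rfl hca
  exact hcb (congrArg Subtype.val (e.symm.trans (hOb hσ)))

theorem exists_good (C : Ctx H Ω) : ∃ X, Good W X a b := by
  haveI := C.finite
  obtain ⟨c₀, hc₀⟩ := C.exists_third a b
  haveI : Nonempty {x : Ω // x ≠ a ∧ x ≠ b} := ⟨⟨c₀, hc₀⟩⟩
  obtain ⟨⟨c, hca, hcb⟩, hmax⟩ := Finite.exists_max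
    fun x : {x : Ω // x ≠ a ∧ x ≠ b} => Nat.card ↥(W ⊓ stabilizer G x.1)
  exact ⟨_, F.good_of_max C hca hcb fun x hxa hxb => hmax ⟨x, hxa, hxb⟩⟩

/-- Three subgroups of `W` through `Y`: the fixed point count gives the third a further fixed point. -/
theorem third_count (C : Ctx H Ω) {Y : Subgroup G} (hY : Y ≤ P) (hWY : ∀ w ∈ W, ∀ u ∈ Y, w * u = u * w)
    (h4 : ∃ W₀ : Subgroup G, W₀ ≤ W ∧ Nat.card W ≤ 4 * Nat.card W₀ ∧ fx Y Ω ⊆ fx W₀ Ω)
    {x y : G} (hx : x ∈ W) (hy : y ∈ W)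
    (honly : ∀ c ∈ fx Y Ω, x • c = c → y • c = c → c = a ∨ c = b)
    (h3 : 3 ∣ Nat.card ↥(fx Y Ω)) (hx3 : 3 ∣ {c ∈ fx Y Ω | x • c = c}.ncard)
    (hy3 : 3 ∣ {c ∈ fx Y Ω | y • c = c}.ncard) :
    ∃ c ∈ fx Y Ω, (x * y) • c = c ∧ c ≠ a ∧ c ≠ b := by
  haveI := C.finite
  by_contra hno
  push Not at hno
  obtain ⟨O, hOA, hOodd, hOinv, htrans⟩ := F.core C hY hWY h4
  have ha : a ∈ fx Y Ω := fun u hu => (mem_S2.1 (F.syl.le (hY hu))).2.1
  have hb : b ∈ fx Y Ω := fun u hu => (mem_S2.1 (F.syl.le (hY hu))).2.2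
  set xa : ↥(fxSub Y Ω) := ⟨a, ha⟩
  set xb : ↥(fxSub Y Ω) := ⟨b, hb⟩
  have hWN : W ≤ Subgroup.normalizer (Y : Set G) := fun w hw => mem_normalizer_of_commute (hWY w hw)
  set σx := fxHom Y Ω ⟨x, hWN hx⟩ with hσx
  set σy := fxHom Y Ω ⟨y, hWN hy⟩ with hσy
  have hVA : ∀ w (hw : w ∈ W), fxHom Y Ω ⟨w, hWN hw⟩ ∈ img Y Ω (S1 H a ⊓ Subgroup.centralizer (Y : Set G)) :=
    fun w hw => img_mono (F.centralizes hWY) (mem_img_of hw _)
  have hn : ∀ w (hw : w ∈ W), ∀ g ∈ O,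
      fxHom Y Ω ⟨w, hWN hw⟩ * g * (fxHom Y Ω ⟨w, hWN hw⟩)⁻¹ ∈ O := fun w hw g hg => by
    have := conj_mem_cj (g := fxHom Y Ω ⟨w, hWN hw⟩) hg
    rwa [hOinv _ (cj_eq_self fun u hu => mul_mem (mul_mem (hVA w hw) hu) (inv_mem (hVA w hw)))] at this
  have hsq : ∀ w (hw : w ∈ W), fxHom Y Ω ⟨w, hWN hw⟩ * fxHom Y Ω ⟨w, hWN hw⟩ = 1 := fun w hw => by
    rw [← map_mul]; convert map_one (fxHom Y Ω); exact Subtype.ext (F.sq w hw)
  have hcomm : σx * σy = σy * σx := by
    rw [hσx, hσy, ← map_mul, ← map_mul]; exact congrArg _ (Subtype.ext (F.comm x hx y hy))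
  have hfb : ∀ w (hw : w ∈ W), fxHom Y Ω ⟨w, hWN hw⟩ • xb = xb := fun w hw =>
    Subtype.ext (mem_S2.1 (F.W_le_S2 hw)).2.2
  have horb : orb O xb = {xa}ᶜ := by
    ext p
    constructor
    · rintro ⟨σ, hσ, rfl⟩ hp
      obtain ⟨g, hgn, hg, e⟩ := exists_of_mem_img (hOA hσ)
      have h := congrArg Subtype.val (Set.mem_singleton_iff.1 hp)
      rw [Equiv.Perm.smul_def, e, fxHom_apply] at h
      exact F.ne.symm (MulAction.injective g (h.trans (mem_S1.1 (Subgroup.mem_inf.1 hg).1).2.symm))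
    · intro hp
      exact htrans xb p rfl fun e => hp (Subtype.ext e)
  have hcount := four_count hOodd (hsq x hx) (hsq y hy) hcomm (hn x hx) (hn y hy) (hfb x hx) (hfb y hy)
    (fun p hp h1 h2 => by
      rcases honly p p.2 (congrArg Subtype.val h1) (congrArg Subtype.val h2) with h | h
      · rw [horb] at hp; exact absurd (Subtype.ext h) hp
      · exact Subtype.ext h)
  have hset : ∀ (w : G) (hw : w ∈ W),
      ({p ∈ orb O xb | fxHom Y Ω ⟨w, hWN hw⟩ • p = p}).ncard + 1 = {c ∈ fx Y Ω | w • c = c}.ncard := by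
    intro w hw
    have e : {c ∈ fx Y Ω | w • c = c} =
        insert a (Subtype.val '' {p ∈ orb O xb | fxHom Y Ω ⟨w, hWN hw⟩ • p = p}) := by
      ext c
      constructor
      · rintro ⟨hc, hwc⟩
        by_cases hca : c = a
        · exact Set.mem_insert_iff.2 (Or.inl hca)
        · exact Set.mem_insert_iff.2 (Or.inr ⟨⟨c, hc⟩, ⟨by
            rw [horb]; exact fun h => hca (congrArg Subtype.val (Set.mem_singleton_iff.1 h)),
            Subtype.ext hwc⟩, rfl⟩)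
      · rintro (rfl | ⟨p, ⟨-, hp⟩, rfl⟩)
        · exact ⟨ha, (mem_S2.1 (F.W_le_S2 hw)).2.1⟩
        · exact ⟨p.2, congrArg Subtype.val hp⟩
    rw [e, Set.ncard_insert_of_notMem, Set.ncard_image_of_injective _ Subtype.val_injective]
    rintro ⟨p, ⟨hp, -⟩, hpa⟩
    rw [horb] at hp
    exact hp (Subtype.ext hpa)
  have hxy : ({p ∈ orb O xb | (σx * σy) • p = p}).ncard = 1 := by
    rw [Set.ncard_eq_one]
    refine ⟨xb, Set.eq_singleton_iff_unique_mem.2 ⟨⟨self_mem_orb O xb, by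
      rw [mul_smul, hfb y hy, hfb x hx]⟩, fun p hp => ?_⟩⟩
    obtain ⟨hp, hfix⟩ := hp
    rw [horb] at hp
    refine Subtype.ext ?_
    by_contra hpb
    refine hpb (hno p p.2 ?_ fun e => hp (Subtype.ext e))
    rw [mul_smul] at hfix ⊢
    exact congrArg Subtype.val hfix
  have hO1 : Nat.card ↥(orb O xb) = Nat.card ↥(fx Y Ω) - 1 := by
    rw [horb, Nat.card_coe_set_eq, Set.ncard_compl, Set.ncard_singleton]
    rfl
  rw [hxy, mul_one, hO1] at hcount
  have h1 := hset x hx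
  have h2 := hset y hy
  rw [← hσx] at h1
  rw [← hσy] at h2
  generalize ({p ∈ orb O xb | σx • p = p}).ncard = A at h1 hcount
  generalize ({p ∈ orb O xb | σy • p = p}).ncard = B at h2 hcount
  have hpos : 0 < Nat.card ↥(fx Y Ω) := by
    haveI : Nonempty ↥(fx Y Ω) := ⟨⟨a, ha⟩⟩
    exact Nat.card_pos
  have hA : A % 3 = 2 := by omega
  have hB : B % 3 = 2 := by omega
  have hAB : A * B % 3 = 1 := by rw [Nat.mul_mod, hA, hB]
  omega

/-- A hyperplane through the intersection of two good hyperplanes is good. -/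
theorem closure (C : Ctx H Ω) {X X' Z : Subgroup G} (hX : Good W X a b) (hX' : Good W X' a b)
    (hne : X ≠ X') (hZ : Z ≤ W) (hZc : 2 * Nat.card Z = Nat.card W) (hle : X ⊓ X' ≤ Z) :
    Good W Z a b := by
  by_cases hZX : Z = X
  · exact hZX ▸ hX
  by_cases hZX' : Z = X'
  · exact hZX' ▸ hX'
  set Y := X ⊓ X' with hY
  have hYW : Y ≤ W := inf_le_left.trans hX.le
  -- elements outside
  have hXX' : ¬ X ≤ X' := fun h => hne (Subgroup.eq_of_le_of_card_ge h (by have := hX.card; have := hX'.card; omega))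
  have hX'X : ¬ X' ≤ X := fun h => hne (Subgroup.eq_of_le_of_card_ge h (by have := hX.card; have := hX'.card; omega)).symm
  obtain ⟨x, hxX, hxX'⟩ := SetLike.not_le_iff_exists.1 hXX'
  obtain ⟨y, hyX', hyX⟩ := SetLike.not_le_iff_exists.1 hX'X
  have hx : x ∈ W := hX.le hxX
  have hy : y ∈ W := hX'.le hyX'
  have hcos : ∀ {K : Subgroup G}, K ≤ W → 2 * Nat.card K = Nat.card W → ∀ {u v : G}, u ∈ W → v ∈ W →
      u ∉ K → v ∉ K → u * v ∈ K := by
    intro K hK hKc u v hu hv huK hvK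
    have hidx : (K.subgroupOf W).index = 2 := by
      have h1 := card_eq_mul_relIndex hK
      rw [← hKc, mul_comm] at h1
      exact (Nat.eq_of_mul_eq_mul_left Nat.card_pos h1).symm
    have := (Subgroup.mul_mem_iff_of_index_two hidx (a := ⟨u, hu⟩) (b := ⟨v, hv⟩)).2 ⟨fun h => absurd h huK, fun h => absurd h hvK⟩
    exact this
  -- the decomposition of `W`
  have hdec : ∀ u ∈ W, (u ∈ Y ∨ u * x ∈ Y) ∨ (u * y ∈ Y ∨ u * (x * y) ∈ Y) := by
    intro u hu
    by_cases h1 : u ∈ X <;> by_cases h2 : u ∈ X'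
    · exact Or.inl (Or.inl (Subgroup.mem_inf.2 ⟨h1, h2⟩))
    · exact Or.inl (Or.inr (Subgroup.mem_inf.2 ⟨mul_mem h1 hxX, hcos hX'.le hX'.card hu hx h2 hxX'⟩))
    · exact Or.inr (Or.inl (Subgroup.mem_inf.2 ⟨hcos hX.le hX.card hu hy h1 hyX, mul_mem h2 hyX'⟩))
    · refine Or.inr (Or.inr (Subgroup.mem_inf.2 ⟨hcos hX.le hX.card hu (mul_mem hx hy) h1 ?_,
        hcos hX'.le hX'.card hu (mul_mem hx hy) h2 ?_⟩))
      · exact fun h => hyX ((mul_mem_cancel_left hxX).1 h)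
      · exact fun h => hxX' ((mul_mem_cancel_right hyX').1 h)
  have hgen : ∀ c : Ω, c ∈ fx Y Ω → x • c = c → y • c = c → c = a ∨ c = b := by
    intro c hc h1 h2
    refine F.fix c fun u hu => ?_
    have hYc : ∀ {v : G}, v ∈ Y → v • c = c := fun hv => hc _ hv
    have key : ∀ {v : G}, u * v ∈ Y → v • c = c → u • c = c := fun {v} huv hv => by
      have := hYc huv
      rwa [mul_smul, hv] at this
    rcases hdec u hu with (h | h) | (h | h)
    · exact hYc h
    · exact key h h1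
    · exact key h h2
    · exact key h (by rw [mul_smul, h2, h1])
  have hxy : x * y ∈ Z := by
    -- `Z` contains neither `x` nor `y`
    have hxZ : x ∉ Z := fun h => hZX (Subgroup.eq_of_le_of_card_ge (fun u hu => by
      by_cases h' : u ∈ X'
      · exact hle (Subgroup.mem_inf.2 ⟨hu, h'⟩)
      · have h'' := hle (Subgroup.mem_inf.2 ⟨mul_mem hu hxX, hcos hX'.le hX'.card (hX.le hu) hx h' hxX'⟩)
        exact (mul_mem_cancel_right h).1 h'') (by have := hX.card; omega)).symm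
    have hyZ : y ∉ Z := fun h => hZX' (Subgroup.eq_of_le_of_card_ge (fun u hu => by
      by_cases h' : u ∈ X
      · exact hle (Subgroup.mem_inf.2 ⟨h', hu⟩)
      · have h'' := hle (Subgroup.mem_inf.2 ⟨hcos hX.le hX.card (hX'.le hu) hy h' hyX, mul_mem hu hyX'⟩)
        exact (mul_mem_cancel_right h).1 h'') (by have := hX'.card; omega)).symm
    exact hcos hZ hZc hx hy hxZ hyZ
  have h4 : Nat.card W ≤ 4 * Nat.card Y := by
    have h1 : Y.relIndex X ≤ 2 := by
      rw [hY, Subgroup.inf_relIndex_left]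
      have h2 := card_eq_mul_relIndex hX'.le
      have h3 := hX'.card
      have h4 : X'.relIndex W = 2 := by
        have : 0 < Nat.card X' := Nat.card_pos
        nlinarith
      exact (Subgroup.relIndex_le_of_le_right hX.le (by rw [h4]; norm_num)).trans h4.le
    have h2 := card_eq_mul_relIndex (inf_le_left : Y ≤ X)
    have := hX.card
    nlinarith
  have hxX'' : ∀ {K : Subgroup G} (hK : Good W K a b) {v : G}, Y ≤ K → v ∈ K → v ∉ Y →
      {c ∈ fx Y Ω | v • c = c} = fx K Ω := by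
    intro K hK v hYK hv hvY
    ext c
    refine ⟨fun ⟨hc, hvc⟩ u hu => ?_, fun hc => ⟨fun u hu => hc u (hYK hu), hc v hv⟩⟩
    by_cases hab : c = a ∨ c = b
    · rcases hab with rfl | rfl
      exacts [F.mem_fa u (hK.le hu), F.mem_fb u (hK.le hu)]
    push Not at hab
    have hle' : Y ⊔ Subgroup.zpowers v ≤ K := sup_le hYK (Subgroup.zpowers_le.2 hv)
    have hlt : Y ≠ Y ⊔ Subgroup.zpowers v := fun e => hvY (e ▸ Subgroup.mem_sup_right (Subgroup.mem_zpowers v))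
    have h5 := two_mul_card_le_of_lt (le_sup_left : Y ≤ _) hlt
    have h6 := hK.card
    have e : Y ⊔ Subgroup.zpowers v = K := Subgroup.eq_of_le_of_card_ge hle' (by omega)
    have hst : K ≤ stabilizer G c := e ▸ sup_le (mem_fx_iff_le.1 hc) (Subgroup.zpowers_le.2 hvc)
    exact hst hu
  obtain ⟨c, hc, hxyc, hca, hcb⟩ := F.third_count C (hYW.trans F.le) (fun w hw u hu => F.comm w hw u (hYW hu))
    ⟨Y, hYW, h4, le_rfl⟩ hx hy hgen
    (by
      obtain ⟨d, hd, hda, hdb⟩ := hX.fix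
      exact F.three_dvd_sub C (hX.le.trans F.le) inf_le_left hd hda hdb (F.good_three C hX))
    (by rw [hxX'' hX inf_le_left hxX fun h => hxX' (Subgroup.mem_inf.1 h).2, ← Nat.card_coe_set_eq]
        exact F.good_three C hX)
    (by rw [hxX'' hX' inf_le_right hyX' fun h => hyX (Subgroup.mem_inf.1 h).1, ← Nat.card_coe_set_eq]
        exact F.good_three C hX')
  refine ⟨hZ, hZc, ⟨c, ?_, hca, hcb⟩⟩
  have hlt : Y ≠ Y ⊔ Subgroup.zpowers (x * y) := fun e => by
    have : x * y ∈ Y := e ▸ Subgroup.mem_sup_right (Subgroup.mem_zpowers _)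
    exact hyX ((mul_mem_cancel_left hxX).1 (Subgroup.mem_inf.1 this).1)
  have h5 := two_mul_card_le_of_lt (le_sup_left : Y ≤ _) hlt
  have e : Y ⊔ Subgroup.zpowers (x * y) = Z :=
    Subgroup.eq_of_le_of_card_ge (sup_le hle (Subgroup.zpowers_le.2 hxy)) (by omega)
  rw [mem_fx_iff_le, ← e]
  exact sup_le (mem_fx_iff_le.1 hc) (Subgroup.zpowers_le.2 hxyc)

end Frame

end Cfsg.Lib.Wagner
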