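import Cfsg.Agent.Lib.Wagner.GoodAffine
import Cfsg.Agent.Lib.Invol.BaerSuzuki

/-!
# `W` of order at least four: all hyperplanes are good and `W` is self-centralizing in `P`
-/

set_option autoImplicit false
set_option linter.unusedSectionVars false
set_option linter.style.haveILetI false

namespace Cfsg.Lib.Wagner

open MulAction Cfsg.Lib.Plane

universe u v

variable {G : Type u} [Group G] [Finite G] {Ω : Type v} [MulAction G Ω]

/-! ### Hyperplanes of an elementary abelian 2-group -/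

/-- Joining an element to a subgroup of a group of exponent two adds one coset. -/
theorem mem_sup_zpowers {W M : Subgroup G} (hsq : ∀ x ∈ W, x * x = 1) (hM : M ≤ W) {x u : G} (hx : x ∈ W)
    (hu : u ∈ M ⊔ Subgroup.zpowers x) : u ∈ M ∨ u * x ∈ M := by
  let M' : Subgroup G :=
    { carrier := {u | u ∈ W ∧ (u ∈ M ∨ u * x ∈ M)}
      one_mem' := ⟨one_mem W, Or.inl (one_mem M)⟩
      mul_mem' := fun {s t} hs ht => ⟨mul_mem hs.1 ht.1, by
        rcases hs.2 with h1 | h1 <;> rcases ht.2 with h2 | h2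
        · exact Or.inl (mul_mem h1 h2)
        · exact Or.inr (by rw [mul_assoc]; exact mul_mem h1 h2)
        · exact Or.inr (by rw [mul_assoc, comm_of_sq hsq ht.1 hx, ← mul_assoc]; exact mul_mem h1 h2)
        · refine Or.inl ?_
          have := mul_mem h1 h2
          rwa [mul_assoc, ← mul_assoc x, comm_of_sq hsq hx ht.1, mul_assoc t, hsq x hx, mul_one] at this⟩
      inv_mem' := fun {s} hs => by rw [inv_eq_of_mul_eq_one_right (hsq s hs.1)]; exact hs }
  exact ((sup_le (fun y hy => ⟨hM hy, Or.inl hy⟩)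
    (Subgroup.zpowers_le.2 (show x ∈ M' from ⟨hx, Or.inr (by rw [hsq x hx]; exact one_mem M)⟩)) :
      M ⊔ Subgroup.zpowers x ≤ M') hu).2

/-- A subgroup avoiding `v` is contained in a hyperplane avoiding `v`. -/
theorem exists_hyper {W K : Subgroup G} (hsq : ∀ x ∈ W, x * x = 1) (hK : K ≤ W) {v : G} (hv : v ∈ W)
    (hvK : v ∉ K) : ∃ M : Subgroup G, K ≤ M ∧ M ≤ W ∧ 2 * Nat.card M = Nat.card W ∧ v ∉ M := by
  haveI : Nonempty {M : Subgroup G // K ≤ M ∧ M ≤ W ∧ v ∉ M} := ⟨⟨K, le_rfl, hK, hvK⟩⟩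
  obtain ⟨⟨M, hKM, hMW, hvM⟩, hmax⟩ :=
    Finite.exists_max fun M : {M : Subgroup G // K ≤ M ∧ M ≤ W ∧ v ∉ M} => Nat.card M.1
  refine ⟨M, hKM, hMW, ?_, hvM⟩
  have hcos : ∀ x ∈ W, x ∉ M → x * v ∈ M := by
    intro x hx hxM
    by_contra hxv
    have hlt : M ≠ M ⊔ Subgroup.zpowers x := fun e =>
      hxM (e.ge (Subgroup.mem_sup_right (Subgroup.mem_zpowers x)))
    have h2 := two_mul_card_le_of_lt (le_sup_left : M ≤ _) hlt
    have hv' : v ∈ M ⊔ Subgroup.zpowers x := by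
      by_contra h
      have := hmax ⟨M ⊔ Subgroup.zpowers x, hKM.trans le_sup_left,
        sup_le hMW (Subgroup.zpowers_le.2 hx), h⟩
      have : 0 < Nat.card M := Nat.card_pos
      simp only at *
      omega
    rcases mem_sup_zpowers hsq hMW hx hv' with h | h
    · exact hvM h
    · exact hxv (by rwa [comm_of_sq hsq hx hv])
  have hidx : (M.subgroupOf W).index = 2 := by
    rw [Subgroup.index_eq_two_iff]
    refine ⟨⟨v, hv⟩, fun x => ?_⟩
    simp only [Subgroup.mem_subgroupOf, Subgroup.coe_mul]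
    by_cases h : (x : G) ∈ M
    · exact Or.inr ⟨h, fun h' => hvM ((mul_mem_cancel_left h).1 h')⟩
    · exact Or.inl ⟨hcos x x.2 h, h⟩
  rw [card_eq_mul_relIndex hMW, mul_comm]
  exact congrArg _ hidx.symm

theorem hyper_mul {W K : Subgroup G} (hK : K ≤ W) (hKc : 2 * Nat.card K = Nat.card W) {u v : G} (hu : u ∈ W)
    (hv : v ∈ W) (huK : u ∉ K) (hvK : v ∉ K) : u * v ∈ K := by
  have hidx : (K.subgroupOf W).index = 2 := by
    have h1 := card_eq_mul_relIndex hK
    rw [← hKc, mul_comm] at h1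
    exact (Nat.eq_of_mul_eq_mul_left Nat.card_pos h1).symm
  exact (Subgroup.mul_mem_iff_of_index_two hidx (a := ⟨u, hu⟩) (b := ⟨v, hv⟩)).2
    ⟨fun h => absurd h huK, fun h => absurd h hvK⟩

theorem card_le_two_mul_inf {W K L : Subgroup G} (hK : K ≤ W) (hKc : 2 * Nat.card K = Nat.card W) (hL : L ≤ W) :
    Nat.card L ≤ 2 * Nat.card ↥(L ⊓ K) := by
  have h1 : (L ⊓ K).relIndex L ≤ 2 := by
    rw [Subgroup.inf_relIndex_left]
    have h2 := card_eq_mul_relIndex hK
    have h4 : K.relIndex W = 2 := by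
      have : 0 < Nat.card K := Nat.card_pos
      nlinarith
    exact (Subgroup.relIndex_le_of_le_right hL (by rw [h4]; norm_num)).trans h4.le
  rw [card_eq_mul_relIndex (inf_le_left : L ⊓ K ≤ L), mul_comm]
  exact Nat.mul_le_mul_right _ h1

/-- Two elements of order at most two in a cyclic group. -/
theorem cyclic_two {A : Type*} [Group A] [Finite A] [IsCyclic A] {x y : A} (hx : x * x = 1) (hy : y * y = 1) :
    x = 1 ∨ y = 1 ∨ x = y := by
  classical
  haveI := Fintype.ofFinite A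
  by_contra h
  push Not at h
  have h1 := IsCyclic.card_pow_eq_one_le (α := A) two_pos
  have h2 : ({1, x, y} : Finset A) ⊆ Finset.univ.filter fun z : A => z ^ 2 = 1 := by
    intro z hz
    simp only [Finset.mem_insert, Finset.mem_singleton] at hz
    refine Finset.mem_filter.2 ⟨Finset.mem_univ _, ?_⟩
    rw [pow_two]
    rcases hz with rfl | rfl | rfl
    exacts [one_mul 1, hx, hy]
  have h3 := (Finset.card_le_card h2).trans h1
  rw [Finset.card_insert_of_notMem (by simp [Ne.symm h.1, Ne.symm h.2.1]), Finset.card_pair h.2.2] at h3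
  omega

/-- Two transvections of an elementary abelian 2-group generate a 2-group or a group with an element of order
three. -/
theorem transvection_pair {V : Type*} [CommGroup V] (hsq : ∀ x : V, x * x = 1) (s t : MulAut V) {v w : V}
    (hs : ∀ x, s x = x ∨ s x = x * v) (ht : ∀ x, t x = x ∨ t x = x * w) (hsv : s v = v) (htw : t w = w) :
    (s * t) ^ 4 = 1 ∨ (s * t) ^ 3 = 1 := by
  have hsq' : ∀ x y : V, x * (x * y) = y := fun x y => by rw [← mul_assoc, hsq, one_mul]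
  by_cases hc : s w = w * v ∧ t v = v * w
  · right
    ext x
    simp only [pow_succ, pow_zero, one_mul, MulAut.mul_apply, MulAut.one_apply]
    rcases hs x with h1 | h1 <;> rcases ht x with h2 | h2 <;>
      simp [h1, h2, hc.1, hc.2, hsv, htw, hsq, hsq', mul_comm, mul_left_comm, mul_assoc]
  · left
    ext x
    simp only [pow_succ, pow_zero, one_mul, MulAut.mul_apply, MulAut.one_apply]
    have hcc : s w = w ∨ t v = v := by
      rcases hs w with h | h
      · exact Or.inl h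
      · rcases ht v with h' | h'
        · exact Or.inr h'
        · exact absurd ⟨h, h'⟩ hc
    rcases hs x with h1 | h1 <;> rcases ht x with h2 | h2 <;> rcases hs w with h3 | h3 <;>
      rcases ht v with h4 | h4 <;>
      simp [h1, h2, h3, h4, hsv, htw, hsq, hsq', mul_comm, mul_left_comm, mul_assoc] <;>
      exact absurd (And.intro h3 h4) hc

namespace Frame

variable {H : Subgroup G} {a b : Ω} {P W : Subgroup G} (F : Frame H a b P W)
include F

theorem pair_fix {n : G} (hn : (n • a = a ∧ n • b = b) ∨ (n • a = b ∧ n • b = a)) {c : Ω} (hca : c ≠ a)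
    (hcb : c ≠ b) : n • c ≠ a ∧ n • c ≠ b := by
  rcases hn with ⟨h1, h2⟩ | ⟨h1, h2⟩
  · exact ⟨fun e => hca (MulAction.injective n (e.trans h1.symm)),
      fun e => hcb (MulAction.injective n (e.trans h2.symm))⟩
  · exact ⟨fun e => hcb (MulAction.injective n (e.trans h2.symm)),
      fun e => hca (MulAction.injective n (e.trans h1.symm))⟩

theorem good_map {n : G} (hnW : cj n W = W) (hn : (n • a = a ∧ n • b = b) ∨ (n • a = b ∧ n • b = a))
    {X : Subgroup G} (hX : Good W X a b) : Good W (cj n X) a b := by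
  obtain ⟨c, hc, hca, hcb⟩ := hX.fix
  refine ⟨(cj_mono hX.le).trans hnW.le, by rw [card_cj]; exact hX.card, n • c, ?_, F.pair_fix hn hca hcb⟩
  rw [mem_fx_cj, inv_smul_smul]
  exact hc

/-- Every hyperplane is good, and the hyperplanes meet trivially. -/
theorem all_good (C : Ctx H Ω) (hI : Below.{v} (Nat.card Ω)) (hT : ¬ Two H Ω) :
    (∀ X : Subgroup G, X ≤ W → 2 * Nat.card X = Nat.card W → Good W X a b) ∧
      ∀ u ∈ W, (∀ X, Good W X a b → u ∈ X) → u = 1 := by
  obtain ⟨X₀, hX₀⟩ := F.exists_good C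
  let R : Subgroup G :=
    { carrier := {u | u ∈ W ∧ ∀ X, Good W X a b → u ∈ X}
      one_mem' := ⟨one_mem W, fun X _ => one_mem X⟩
      mul_mem' := fun hx hy => ⟨mul_mem hx.1 hy.1, fun X hX => mul_mem (hx.2 X hX) (hy.2 X hX)⟩
      inv_mem' := fun hx => ⟨inv_mem hx.1, fun X hX => inv_mem (hx.2 X hX)⟩ }
  have hinv : ∀ n : G, cj n W = W → ((n • a = a ∧ n • b = b) ∨ (n • a = b ∧ n • b = a)) → cj n R = R := by
    intro n hnW hn
    refine cj_eq_self fun u hu => ⟨hnW ▸ conj_mem_cj hu.1, fun X hX => ?_⟩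
    have hn' : (n⁻¹ • a = a ∧ n⁻¹ • b = b) ∨ (n⁻¹ • a = b ∧ n⁻¹ • b = a) := by
      rcases hn with ⟨h1, h2⟩ | ⟨h1, h2⟩
      · exact Or.inl ⟨inv_smul_eq_iff.2 h1.symm, inv_smul_eq_iff.2 h2.symm⟩
      · exact Or.inr ⟨inv_smul_eq_iff.2 h2.symm, inv_smul_eq_iff.2 h1.symm⟩
    have hW' : cj n⁻¹ W = W := by
      conv_lhs => rw [← hnW]
      rw [cj_cj, inv_mul_cancel, cj_one]
    have h1 := hu.2 _ (F.good_map hW' hn' hX)
    rw [mem_cj, inv_inv] at h1
    exact h1
  have hR : R = ⊥ := by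
    by_contra hne
    obtain ⟨c, hc, hca, hcb⟩ := hX₀.fix
    refine hT (F.two_of_inv C hI (R := R) (fun u hu => hu.1) hne (fun n hn hnW => hinv n hnW ?_)
      (fun g hg hP => hinv g (F.char g hP) hg) hca hcb fun u hu => hc u (hu.2 X₀ hX₀))
    exact Or.inl (mem_S2.1 (F.normalizer_fix hn hnW)).2
  refine ⟨?_, fun u hu h => Subgroup.mem_bot.1 (hR ▸ (show u ∈ R from ⟨hu, h⟩))⟩
  haveI : Nonempty {I : Subgroup G // I ≤ W ∧ ∀ X : Subgroup G, X ≤ W → 2 * Nat.card X = Nat.card W →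
      I ≤ X → Good W X a b} := ⟨⟨X₀, hX₀.le, fun X _ hc hle => by
    rw [← Subgroup.eq_of_le_of_card_ge hle (by have := hX₀.card; omega)]
    exact hX₀⟩⟩
  obtain ⟨⟨I, hIW, hI'⟩, hmin⟩ := Finite.exists_min fun I : {I : Subgroup G // I ≤ W ∧ ∀ X : Subgroup G,
    X ≤ W → 2 * Nat.card X = Nat.card W → I ≤ X → Good W X a b} => Nat.card I.1
  have hIbot : I = ⊥ := by
    refine le_bot_iff.1 (hR ▸ fun u hu => ⟨hIW hu, fun X hX => ?_⟩)
    by_contra huX
    have hlt : I ⊓ X ≠ I := fun e => huX (Subgroup.mem_inf.1 (e.symm ▸ hu : u ∈ I ⊓ X)).2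
    have h2 := two_mul_card_le_of_lt (inf_le_left : I ⊓ X ≤ I) hlt
    have := hmin ⟨I ⊓ X, inf_le_left.trans hIW, fun Z hZ hZc hle => by
      by_cases hZX : Z = X
      · exact hZX ▸ hX
      by_cases hIZ : I ≤ Z
      · exact hI' Z hZ hZc hIZ
      -- the hyperplane spanned by `I` and `Z ⊓ X`
      set Z' := (Z ⊓ X) ⊔ I with hZ'
      have hZ'W : Z' ≤ W := sup_le (inf_le_left.trans hZ) hIW
      obtain ⟨i, hi, hiX⟩ : ∃ i ∈ I, i ∉ X := ⟨u, hu, huX⟩
      have hle' : Z' ≤ (Z ⊓ X) ⊔ Subgroup.zpowers i := by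
        refine sup_le le_sup_left fun j hj => ?_
        by_cases hjX : j ∈ X
        · exact Subgroup.mem_sup_left (Subgroup.mem_inf.2 ⟨hle (Subgroup.mem_inf.2 ⟨hj, hjX⟩), hjX⟩)
        · have h1 : j * i ∈ Z ⊓ X := by
            have h := hyper_mul hX.le hX.card (hIW hj) (hIW hi) hjX hiX
            exact Subgroup.mem_inf.2 ⟨hle (Subgroup.mem_inf.2 ⟨mul_mem hj hi, h⟩), h⟩
          have h3 := mul_mem (Subgroup.mem_sup_left h1 : _ ∈ (Z ⊓ X) ⊔ Subgroup.zpowers i)
            (Subgroup.mem_sup_right (Subgroup.mem_zpowers i))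
          rwa [mul_assoc, F.sq i (hIW hi), mul_one] at h3
      have hiZX : i ∉ Z ⊓ X := fun h => hiX (Subgroup.mem_inf.1 h).2
      have hlo : 2 * Nat.card ↥(Z ⊓ X) ≤ Nat.card Z' := two_mul_card_le_of_lt le_sup_left
        fun e => hiZX (e.ge (Subgroup.mem_sup_right hi))
      have hhi : Nat.card Z' ≤ 2 * Nat.card ↥(Z ⊓ X) := by
        have hcase : ∀ j ∈ Z', j ∈ Z ⊓ X ∨ j * i ∈ Z ⊓ X := fun j hj =>
          mem_sup_zpowers F.sq (inf_le_left.trans hZ) (hIW hi) (hle' hj)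
        classical
        refine le_trans (Nat.card_le_card_of_injective
          (β := ↥(Z ⊓ X) × Bool) (fun j => if h : (j : G) ∈ Z ⊓ X then (⟨j, h⟩, true)
            else (⟨(j : G) * i, (hcase j j.2).resolve_left h⟩, false)) ?_) ?_
        · intro j k e
          simp only at e
          split_ifs at e with h1 h2 h2
          · exact Subtype.ext (congrArg (fun p : ↥(Z ⊓ X) × Bool => (p.1 : G)) e)
          · exact absurd (congrArg Prod.snd e) (by simp)
          · exact absurd (congrArg Prod.snd e) (by simp)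
          · exact Subtype.ext (mul_right_cancel (congrArg (fun p : ↥(Z ⊓ X) × Bool => (p.1 : G)) e))
        · rw [Nat.card_prod, Nat.card_eq_fintype_card (α := Bool), Fintype.card_bool, mul_comm]
      -- `Z ⊓ X` has index four
      have hZXc : 4 * Nat.card ↥(Z ⊓ X) = Nat.card W := by
        have h1 := card_le_two_mul_inf hX.le hX.card hZ
        have h4 := two_mul_card_le_of_lt (inf_le_left : Z ⊓ X ≤ Z) fun e => hZX
          (Subgroup.eq_of_le_of_card_ge (e.ge.trans inf_le_right) (by have := hX.card; omega))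
        omega
      have hZ'good : Good W Z' a b := hI' Z' hZ'W (by omega) le_sup_right
      have hne : X ≠ Z' := fun e => hiX (e.ge (Subgroup.mem_sup_right hi))
      refine F.closure C hX hZ'good hne hZ hZc ?_
      have heq : Z ⊓ X = X ⊓ Z' := by
        refine Subgroup.eq_of_le_of_card_ge (le_inf inf_le_right le_sup_left) ?_
        have h4 := two_mul_card_le_of_lt (inf_le_right : X ⊓ Z' ≤ Z') fun e => hne
          (Subgroup.eq_of_le_of_card_ge (e.ge.trans inf_le_left) (by have := hX.card; omega)).symm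
        omega
      exact heq ▸ inf_le_left⟩
    simp only at this
    have : 0 < Nat.card ↥(I ⊓ X) := Nat.card_pos
    omega
  exact fun X hX hc => hI' X hX hc (hIbot ▸ bot_le)

/-- No element normalising `W` and the pair induces a transvection on `W`. -/
theorem transv (C : Ctx H Ω) (hI : Below.{v} (Nat.card Ω)) (hT : ¬ Two H Ω) {n : G} (hn : n ∈ pairStab H a b)
    (hnW : cj n W = W) {X : Subgroup G} (hX : Good W X a b) (hnX : ∀ u ∈ X, n * u = u * n) :
    ∀ u ∈ W, n * u = u * n := by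
  classical
  haveI : Fact (Nat.Prime 2) := ⟨Nat.prime_two⟩
  haveI := C.normal
  obtain ⟨hgood, hcore⟩ := F.all_good C hI hT
  set M1 := pairStab H a b ⊓ Subgroup.normalizer (W : Set G) with hM1
  set T : Set G := {m | m ∈ M1 ∧ ∃ X, Good W X a b ∧ ∀ u ∈ X, m * u = u * m} with hTdef
  let R : Subgroup G :=
    { carrier := {u | u ∈ W ∧ ∀ m ∈ T, m * u = u * m}
      one_mem' := ⟨one_mem W, fun m _ => by rw [one_mul, mul_one]⟩
      mul_mem' := fun {x y} hx hy => ⟨mul_mem hx.1 hy.1, fun m hm => by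
        rw [← mul_assoc, hx.2 m hm, mul_assoc, hy.2 m hm, mul_assoc]⟩
      inv_mem' := fun {x} hx => by rw [F.inv_eq hx.1]; exact hx }
  by_contra hne
  push Not at hne
  obtain ⟨u₀, hu₀, hnu₀⟩ := hne
  have hnT : n ∈ T := ⟨Subgroup.mem_inf.2 ⟨hn, mem_normalizer_iff_cj.2 hnW⟩, X, hX, hnX⟩
  have hu₀R : u₀ ∉ R := fun h => hnu₀ (h.2 n hnT)
  obtain ⟨X₁, hRX₁, hX₁W, hX₁c, -⟩ := exists_hyper (K := R) F.sq (fun u hu => hu.1) hu₀ hu₀R
  obtain ⟨c, hc, hca, hcb⟩ := (hgood X₁ hX₁W hX₁c).fix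
  -- the invariance of `R`
  have hinv : ∀ g : G, cj g W = W → ((g • a = a ∧ g • b = b) ∨ (g • a = b ∧ g • b = a)) → cj g R = R := by
    intro g hgW hg
    have hgW' : cj g⁻¹ W = W := by
      conv_lhs => rw [← hgW]
      rw [cj_cj, inv_mul_cancel, cj_one]
    have hg' : (g⁻¹ • a = a ∧ g⁻¹ • b = b) ∨ (g⁻¹ • a = b ∧ g⁻¹ • b = a) := by
      rcases hg with ⟨h1, h2⟩ | ⟨h1, h2⟩
      · exact Or.inl ⟨inv_smul_eq_iff.2 h1.symm, inv_smul_eq_iff.2 h2.symm⟩
      · exact Or.inr ⟨inv_smul_eq_iff.2 h2.symm, inv_smul_eq_iff.2 h1.symm⟩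
    refine cj_eq_self fun u hu => ⟨hgW ▸ conj_mem_cj hu.1, fun m hm => ?_⟩
    obtain ⟨hmM, X', hX', hmX⟩ := hm
    obtain ⟨hmp, hmW⟩ := Subgroup.mem_inf.1 hmM
    have hm' : g⁻¹ * m * g ∈ T := by
      refine ⟨Subgroup.mem_inf.2 ⟨?_, ?_⟩, cj g⁻¹ X', F.good_map hgW' hg' hX', fun v hv => ?_⟩
      · obtain ⟨hmH, hm2⟩ := mem_pairStab.1 hmp
        refine mem_pairStab.2 ⟨Subgroup.Normal.conj_mem' inferInstance m hmH g, ?_⟩
        rcases hg with ⟨g1, g2⟩ | ⟨g1, g2⟩ <;> rcases hm2 with ⟨m1, m2⟩ | ⟨m1, m2⟩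
        · exact Or.inl ⟨by rw [mul_smul, mul_smul, g1, m1, inv_smul_eq_iff, g1],
            by rw [mul_smul, mul_smul, g2, m2, inv_smul_eq_iff, g2]⟩
        · exact Or.inr ⟨by rw [mul_smul, mul_smul, g1, m1, inv_smul_eq_iff, g2],
            by rw [mul_smul, mul_smul, g2, m2, inv_smul_eq_iff, g1]⟩
        · exact Or.inl ⟨by rw [mul_smul, mul_smul, g1, m2, inv_smul_eq_iff, g1],
            by rw [mul_smul, mul_smul, g2, m1, inv_smul_eq_iff, g2]⟩
        · exact Or.inr ⟨by rw [mul_smul, mul_smul, g1, m2, inv_smul_eq_iff, g2],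
            by rw [mul_smul, mul_smul, g2, m1, inv_smul_eq_iff, g1]⟩
      · refine mem_normalizer_iff_cj.2 ?_
        rw [← cj_cj, ← cj_cj, hgW, mem_normalizer_iff_cj.1 hmW, hgW']
      · rw [mem_cj, inv_inv] at hv
        have h := hmX _ hv
        calc g⁻¹ * m * g * v = g⁻¹ * (m * (g * v * g⁻¹)) * g := by group
          _ = g⁻¹ * ((g * v * g⁻¹) * m) * g := by rw [h]
          _ = v * (g⁻¹ * m * g) := by group
    have h := hu.2 _ hm'
    calc m * (g * u * g⁻¹) = g * ((g⁻¹ * m * g) * u) * g⁻¹ := by group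
      _ = g * (u * (g⁻¹ * m * g)) * g⁻¹ := by rw [h]
      _ = g * u * g⁻¹ * m := by group
  refine hT (F.two_of_inv C hI (R := R) (fun u hu => hu.1) ?_ (fun k hk hkW => hinv k hkW
    (Or.inl (mem_S2.1 (F.normalizer_fix hk hkW)).2)) (fun g hg hP => hinv g (F.char g hP) hg) hca hcb
    fun u hu => hc u (hRX₁ hu))
  -- the transvections generate a 2-group
  letI : CommGroup W := { W.toGroup with mul_comm := fun x y => Subtype.ext (F.comm x x.2 y y.2) }
  have hM1n : ∀ m ∈ M1, m ∈ Subgroup.normalizer (W : Set G) := fun m hm => (Subgroup.mem_inf.1 hm).2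
  set φ : ↥M1 →* MulAut W := (W.normalizerMonoidHom).comp (Subgroup.inclusion fun m hm => hM1n m hm) with hφ
  have hφ' : ∀ (m : M1) (x : W), ((φ m x : W) : G) = (m : G) * x * (m : G)⁻¹ := fun m x => rfl
  set A := φ.range with hA
  have hA3 : ¬ 3 ∣ Nat.card A := by
    intro h
    haveI : Fact (Nat.Prime 3) := ⟨Nat.prime_three⟩
    obtain ⟨g, hg⟩ := exists_prime_orderOf_dvd_card' (G := M1) 3 (h.trans (Subgroup.card_range_dvd φ))
    obtain ⟨hgH, hgp⟩ := mem_pairStab.1 (Subgroup.mem_inf.1 g.2).1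
    have hord : orderOf (g : G) = 3 := by rw [Subgroup.orderOf_coe]; exact hg
    rcases hgp with ⟨h1, -⟩ | ⟨h1, h2⟩
    · exact F.three a (hord ▸ Subgroup.orderOf_dvd_natCard _ (mem_S1.2 ⟨hgH, h1⟩))
    · have h3 : ((g : G) ^ 3) • a = b := by
        simp only [pow_succ, pow_zero, one_mul, mul_smul, h1, h2]
      rw [← hord, pow_orderOf_eq_one, one_smul] at h3
      exact F.ne h3
  set TA : Set A := {σ | ∃ m : M1, (m : G) ∈ T ∧ φ m = σ} with hTA
  have hform : ∀ σ ∈ TA, ∃ v : W, (σ : MulAut W) v = v ∧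
      ∀ x, (σ : MulAut W) x = x ∨ (σ : MulAut W) x = x * v := by
    rintro ⟨σ, hσA⟩ ⟨m, ⟨-, X', hX', hmX⟩, e⟩
    subst e
    obtain ⟨y, hy, hyX⟩ := F.exists_outside hX'
    set v : W := φ m ⟨y, hy⟩ * ⟨y, hy⟩ with hv
    have hfixX : ∀ x : W, (x : G) ∈ X' → φ m x = x := fun x hx =>
      Subtype.ext (by rw [hφ', hmX x hx, mul_inv_cancel_right])
    have hout : ∀ x : W, (x : G) ∉ X' → (φ m x : G) ∉ X' := by
      intro x hx h
      have h1 := hfixX _ h
      rw [(φ m).injective h1] at h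
      exact hx h
    have hvX : (v : G) ∈ X' := hyper_mul hX'.le hX'.card (φ m ⟨y, hy⟩).2 hy (hout _ hyX) hyX
    have hsq' : ∀ x : W, x * x = 1 := fun x => Subtype.ext (F.sq x x.2)
    refine ⟨v, hfixX v hvX, fun x => ?_⟩
    by_cases hx : (x : G) ∈ X'
    · exact Or.inl (hfixX x hx)
    · refine Or.inr ?_
      have h1 := hfixX (x * ⟨y, hy⟩) (hyper_mul hX'.le hX'.card x.2 hy hx hyX)
      rw [map_mul] at h1
      have hyy : φ m ⟨y, hy⟩ * φ m ⟨y, hy⟩ = 1 := hsq' _
      calc φ m x = φ m x * φ m ⟨y, hy⟩ * φ m ⟨y, hy⟩ := by rw [mul_assoc, hyy, mul_one]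
        _ = x * ⟨y, hy⟩ * φ m ⟨y, hy⟩ := by rw [h1]
        _ = x * v := by rw [hv, mul_assoc]; exact congrArg _ (mul_comm _ _)
  have hsqA : ∀ σ ∈ TA, σ * σ = 1 := by
    intro σ hσ
    obtain ⟨v, hv, hx⟩ := hform σ hσ
    refine Subtype.ext (MulEquiv.ext fun x => ?_)
    show (σ : MulAut W) ((σ : MulAut W) x) = x
    rcases hx x with h | h <;> rw [h]
    · exact h
    · rw [map_mul, hv, h, mul_assoc, show v * v = 1 from Subtype.ext (F.sq v v.2), mul_one]
  have hconjT : ∀ σ ∈ TA, ∀ τ : A, τ * σ * τ⁻¹ ∈ TA := by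
    rintro σ ⟨m, ⟨hmM, X', hX', hmX⟩, e⟩ ⟨_, k, rfl⟩
    obtain ⟨hkp, hkW⟩ := Subgroup.mem_inf.1 k.2
    refine ⟨k * m * k⁻¹, ⟨(k * m * k⁻¹ : M1).2, cj (k : G) X',
      F.good_map (mem_normalizer_iff_cj.1 hkW) (mem_pairStab.1 hkp).2 hX', fun v hv => ?_⟩, ?_⟩
    · rw [mem_cj] at hv
      have h := hmX _ hv
      show (k : G) * m * (k : G)⁻¹ * v = v * ((k : G) * m * (k : G)⁻¹)
      calc (k : G) * m * (k : G)⁻¹ * v = (k : G) * ((m : G) * ((k : G)⁻¹ * v * k)) * (k : G)⁻¹ := by group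
        _ = (k : G) * (((k : G)⁻¹ * v * k) * (m : G)) * (k : G)⁻¹ := by rw [h]
        _ = _ := by group
    · show φ (k * m * k⁻¹) = φ k * (σ : MulAut W) * (φ k)⁻¹
      rw [map_mul, map_mul, map_inv, e]
  obtain ⟨S⟩ : Nonempty (Sylow 2 A) := inferInstance
  have hTS : ∀ σ ∈ TA, σ ∈ (S : Subgroup A) := by
    intro σ hσ
    by_cases hσ1 : σ = 1
    · rw [hσ1]; exact one_mem _
    have hord : ∀ τ ∈ TA, τ ≠ 1 → orderOf τ = 2 := fun τ hτ h1 =>
      orderOf_eq_prime (by rw [pow_two]; exact hsqA τ hτ) h1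
    obtain ⟨N, hN, hNp, hσN⟩ := Invol.baerSuzuki (p := 2) (Subgroup.zpowers σ)
      (IsPGroup.of_card (n := 1) (by rw [Nat.card_zpowers, hord σ hσ hσ1, pow_one])) (fun g => by
        set τ := g * σ * g⁻¹ with hτ
        have hτT : τ ∈ TA := hconjT σ hσ g
        have hτ1 : τ ≠ 1 := fun e => hσ1 (conj_eq_one_iff.1 e)
        have hle : Subgroup.zpowers σ ⊔ (Subgroup.zpowers σ).map (MulAut.conj g).toMonoidHom ≤
            Subgroup.closure ({σ, τ} : Set A) := by
          refine sup_le (Subgroup.zpowers_le.2 (Subgroup.subset_closure (by simp))) ?_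
          rw [MonoidHom.map_zpowers]
          exact Subgroup.zpowers_le.2 (Subgroup.subset_closure (by simp [hτ]))
        refine IsPGroup.to_le ?_ hle
        have h4 : (σ * τ) ^ 4 = 1 := by
          obtain ⟨v, hv, hsx⟩ := hform σ hσ
          obtain ⟨w, hw, htx⟩ := hform τ hτT
          rcases transvection_pair (fun x : W => Subtype.ext (F.sq x x.2)) (σ : MulAut W) (τ : MulAut W)
              hsx htx hv hw with h | h
          · exact Subtype.ext (by rw [SubmonoidClass.coe_pow, Subgroup.coe_mul, Subgroup.coe_one]; exact h)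
          · have h' : (σ * τ) ^ 3 = 1 :=
              Subtype.ext (by rw [SubmonoidClass.coe_pow, Subgroup.coe_mul, Subgroup.coe_one]; exact h)
            rcases (Nat.dvd_prime Nat.prime_three).1 (orderOf_dvd_of_pow_eq_one h') with h1 | h1
            · rw [orderOf_eq_one_iff.1 h1, one_pow]
            · exact absurd (h1 ▸ (_root_.orderOf_dvd_natCard (σ * τ))) hA3
        intro x
        refine ⟨3, Subtype.ext ?_⟩
        rw [SubmonoidClass.coe_pow, Subgroup.coe_one]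
        obtain ⟨i, hi | hi⟩ := (Invol.mem_closure_pair (hord σ hσ hσ1) (hord τ hτT hτ1)).1 x.2
        · rw [hi, ← zpow_natCast, ← zpow_mul, mul_comm, zpow_mul, zpow_natCast,
            show (σ * τ) ^ 2 ^ 3 = ((σ * τ) ^ 4) ^ 2 by rw [← pow_mul]; norm_num, h4, one_pow, one_zpow]
        · have hinv' : σ * (σ * τ) * σ⁻¹ = (σ * τ)⁻¹ := by
            rw [← mul_assoc, hsqA σ hσ, one_mul, mul_inv_rev, inv_eq_of_mul_eq_one_right (hsqA σ hσ),
              inv_eq_of_mul_eq_one_right (hsqA τ hτT)]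
          rw [hi, show (2 : ℕ) ^ 3 = 2 * 4 by norm_num, pow_mul, pow_two,
            Invol.mul_zpow_sq (hsqA σ hσ) hinv', one_pow])
    haveI := hN
    exact hNp.le_sylow_of_normal S (hσN (Subgroup.mem_zpowers σ))
  intro hbot
  letI : MulAction (S : Subgroup A) W :=
    MulAction.compHom W (A.subtype.comp (S : Subgroup A).subtype)
  have hW2 : 2 ∣ Nat.card W := ⟨Nat.card X, hX.card.symm⟩
  obtain ⟨x, hx, hx1⟩ := S.isPGroup'.exists_fixed_point_of_prime_dvd_card_of_fixed_point W hW2 (a := (1 : W))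
    (fun σ => map_one ((σ : A) : MulAut W))
  have hxR : (x : G) ∈ R := by
    refine ⟨x.2, fun m hm => ?_⟩
    have h1 := hx ⟨⟨φ ⟨m, hm.1⟩, ⟨_, rfl⟩⟩, hTS _ ⟨⟨m, hm.1⟩, hm, rfl⟩⟩
    have h2 : m * (x : G) * m⁻¹ = x := congrArg Subtype.val h1
    exact mul_inv_eq_iff_eq_mul.1 h2
  rw [hbot, Subgroup.mem_bot] at hxR
  exact hx1 (Subtype.ext hxR.symm)

end Frame

end Cfsg.Lib.Wagner
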