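import Cfsg.Agent.Lib.Wagner.Descent
import Cfsg.Agent.Lib.Wagner.Endgame

/-!
# Two colours: the subgroup `PSL₂(|Ω| - 1)`
-/

set_option autoImplicit false
set_option linter.unusedSectionVars false
set_option linter.style.haveILetI false

namespace Cfsg.Lib.Wagner

open MulAction Cfsg.Lib.Plane

universe u v

variable {G : Type u} [Group G] [Finite G] {Ω : Type v} [MulAction G Ω] {H : Subgroup G} (C : Ctx H Ω)
include C

namespace Ctx

theorem three_of_col (hall : ∀ a b c d : Ω, a ≠ b → c ≠ a → c ≠ b → d ≠ a → d ≠ b → Col H a b c d) :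
    IsMultiplyPretransitive H Ω 3 := by
  haveI := C.normal
  constructor
  intro x y
  have ne : ∀ (z : Fin 3 ↪ Ω) {i j : Fin 3}, i ≠ j → z i ≠ z j := fun z i j hij e => hij (z.injective e)
  obtain ⟨h, hh, h1, h2⟩ := C.h_exists2 (ne x (show (0 : Fin 3) ≠ 1 by decide)) (ne y (show (0 : Fin 3) ≠ 1 by decide))
  obtain ⟨k, hk, k1, k2, k3⟩ := (hall (y 0) (y 1) (h • x 2) (y 2) (ne y (by decide))
    (fun e => ne x (show (2 : Fin 3) ≠ 0 by decide) (MulAction.injective h (e.trans h1.symm)))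
    (fun e => ne x (show (2 : Fin 3) ≠ 1 by decide) (MulAction.injective h (e.trans h2.symm)))
    (ne y (by decide)) (ne y (by decide))).exists'
  refine ⟨⟨k * h, mul_mem hk hh⟩, Function.Embedding.ext fun i => ?_⟩
  show (k * h) • x i = y i
  rw [mul_smul]
  fin_cases i
  · simp [h1, k1]
  · simp [h2, k2]
  · exact k3

theorem second (hT : Two H Ω) (hn4 : Nat.card Ω % 4 ≠ 2) :
    IsMultiplyPretransitive H Ω 3 ∨ HasPSL H Ω := by
  classical
  by_cases hall : ∀ a b c d : Ω, a ≠ b → c ≠ a → c ≠ b → d ≠ a → d ≠ b → Col H a b c d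
  · exact Or.inl (C.three_of_col hall)
  refine Or.inr ?_
  push Not at hall
  obtain ⟨a, b, c, d, hab, hca, hcb, hda, hdb, hcd⟩ := hall
  haveI := C.normal
  haveI := C.faithful
  haveI := C.finite
  haveI : Fact (Nat.Prime 2) := ⟨Nat.prime_two⟩
  have hother : ∀ e, e ≠ a → e ≠ b → Col H a b c e ∨ Col H a b d e := by
    intro e hea heb
    rcases hT a b c d e hab hca hcb hda hdb hea heb with h | h | h
    exacts [absurd h hcd, Or.inl h, Or.inr h]
  have hn2 : Nat.card Ω - 2 = 2 * Nat.card ↥(orb (S2 H a b) c) := by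
    have hdis : Disjoint (orb (S2 H a b) c) (orb (S2 H a b) d) :=
      Set.disjoint_left.2 fun w hw hw' => hcd (orb_trans hw (orb_symm hw'))
    have heq : orb (S2 H a b) c ∪ orb (S2 H a b) d = ({a, b} : Set Ω)ᶜ := by
      refine le_antisymm (Set.union_subset (C.orb_subset hca hcb) (C.orb_subset hda hdb)) fun e he => ?_
      simp only [Set.mem_compl_iff, Set.mem_insert_iff, Set.mem_singleton_iff, not_or] at he
      exact hother e he.1 he.2
    have h1 := congrArg Set.ncard heq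
    rw [Set.ncard_union_eq hdis, Set.ncard_compl, Set.ncard_pair hab] at h1
    have h2 := C.card_orb_eq hab hca hcb hda hdb
    rw [Nat.card_coe_set_eq, Nat.card_coe_set_eq] at h2
    rw [Nat.card_coe_set_eq]
    omega
  have hn := C.lt
  have hrodd : Odd (Nat.card ↥(orb (S2 H a b) c)) := by
    rw [← Nat.not_even_iff_odd]
    rintro ⟨i, hi⟩
    omega
  have heven : Even (Nat.card Ω) := ⟨Nat.card ↥(orb (S2 H a b) c) + 1, by omega⟩
  have hns : ¬ Sym H Ω := fun hs => hcd (C.col_of_sym_odd hs hab hca hcb hda hdb hrodd)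
  -- the stabilizer of a colour
  set E : Subgroup G := stabilizer G a ⊓ stabilizer G b ⊓ stabilizer G c with hE
  set L := H ⊔ E with hL
  have hLmem : ∀ x ∈ L, ∃ h ∈ H, h • a = x • a ∧ h • b = x • b ∧ h • c = x • c := by
    intro x hx
    obtain ⟨h, hh, e, he, rfl⟩ := Subgroup.mem_sup_of_normal_left.1 hx
    obtain ⟨⟨e1, e2⟩, e3⟩ := he
    refine ⟨h, hh, ?_, ?_, ?_⟩
    · rw [mul_smul, mem_stabilizer_iff.1 e1]
    · rw [mul_smul, mem_stabilizer_iff.1 e2]
    · rw [mul_smul, mem_stabilizer_iff.1 e3]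
  obtain ⟨g₁, g1a, g1b, g1c⟩ := C.exists_move hab hca hcb hda hdb
  have hg1 : g₁ ∉ L := fun h => by
    obtain ⟨k, hk, k1, k2, k3⟩ := hLmem g₁ h
    exact hcd (Col.mk hk (k1.trans g1a) (k2.trans g1b) (k3.trans g1c))
  have hcover : ∀ x : G, x ∈ L ∨ g₁⁻¹ * x ∈ L := by
    intro x
    have hne : x • a ≠ x • b := fun e => hab (MulAction.injective x e)
    obtain ⟨h, hh, h1, h2⟩ := C.h_exists2 hne hab
    have hxa : (h * x) • c ≠ a := fun e => hca (MulAction.injective (h * x) (e.trans (show a = (h * x) • a by rw [mul_smul, h1])))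
    have hxb : (h * x) • c ≠ b := fun e => hcb (MulAction.injective (h * x) (e.trans (show b = (h * x) • b by rw [mul_smul, h2])))
    rcases hother _ hxa hxb with hcol | hcol
    · obtain ⟨k, hk, k1, k2, k3⟩ := hcol.symm.exists'
      left
      have hmem : k * (h * x) ∈ E := Subgroup.mem_inf.2 ⟨Subgroup.mem_inf.2
        ⟨mem_stabilizer_iff.2 (by rw [mul_smul, mul_smul, h1, k1]),
          mem_stabilizer_iff.2 (by rw [mul_smul, mul_smul, h2, k2])⟩,
        mem_stabilizer_iff.2 (by rw [mul_smul, k3])⟩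
      have := mul_mem (Subgroup.mem_sup_left (T := E) (mul_mem (inv_mem hh) (inv_mem hk)))
        (Subgroup.mem_sup_right (S := H) hmem)
      simpa [mul_assoc] using this
    · obtain ⟨k, hk, k1, k2, k3⟩ := hcol.symm.exists'
      right
      have hmem : g₁⁻¹ * (k * (h * x)) ∈ E := Subgroup.mem_inf.2 ⟨Subgroup.mem_inf.2
        ⟨mem_stabilizer_iff.2 (by rw [mul_smul, mul_smul, mul_smul, h1, k1, inv_smul_eq_iff, g1a]),
          mem_stabilizer_iff.2 (by rw [mul_smul, mul_smul, mul_smul, h2, k2, inv_smul_eq_iff, g1b])⟩,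
        mem_stabilizer_iff.2 (by rw [mul_smul, mul_smul k, k3, inv_smul_eq_iff, g1c])⟩
      have hmem' : g₁⁻¹ * (h⁻¹ * k⁻¹) * g₁ ∈ H :=
        Subgroup.Normal.conj_mem' inferInstance _ (mul_mem (inv_mem hh) (inv_mem hk)) g₁
      have := mul_mem (Subgroup.mem_sup_left (T := E) hmem') (Subgroup.mem_sup_right (S := H) hmem)
      simpa [mul_assoc] using this
  have hidx : L.index = 2 := by
    rw [Subgroup.index_eq_two_iff]
    refine ⟨g₁, fun x => ?_⟩
    by_cases hx : x ∈ L
    · refine Or.inr ⟨hx, fun h => hg1 ?_⟩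
      have := mul_mem (inv_mem hx) h
      rwa [inv_mul_cancel_left] at this
    · refine Or.inl ⟨?_, hx⟩
      have h1 := (hcover x⁻¹).resolve_left fun h => hx (by simpa using inv_mem h)
      simpa using inv_mem h1
  haveI : L.Normal := Subgroup.normal_of_index_eq_two hidx
  have hEodd : ∀ z : G, z • a = a → z • b = b → z • c = c → orderOf z ≠ 2 := by
    intro z za zb zc hz
    obtain ⟨x, hx⟩ : ∃ x : Ω, z • x ≠ x := by
      by_contra hall'
      push Not at hall'
      have h1 : z = 1 := FaithfulSMul.eq_of_smul_eq_smul (α := Ω) fun x => by rw [one_smul]; exact hall' x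
      rw [h1, orderOf_one] at hz
      omega
    have hzz : z • z • x = x := by
      rw [← mul_smul, Cfsg.Lib.Invol.inv_mul_self hz, one_smul]
    have hxa : x ≠ a := fun e => hx (by rw [e, za])
    have hzxa : z • x ≠ a := fun e => hxa (MulAction.injective z (e.trans za.symm))
    obtain ⟨g, g1, g2, g3⟩ := C.exists3 hab hca.symm hcb.symm hx.symm hxa hzxa
    have hw : g⁻¹ * z * g ∈ L :=
      Subgroup.Normal.conj_mem' inferInstance z (Subgroup.mem_sup_right (show z ∈ E from ⟨⟨za, zb⟩, zc⟩)) g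
    obtain ⟨h, hh, e1, e2, e3⟩ := hLmem _ hw
    refine hns (C.sym_of_one hab hca.symm hcb.symm hh ?_ ?_ ?_)
    · rw [e1, mul_smul, mul_smul, g1, inv_smul_eq_iff, g2]
    · rw [e2, mul_smul, mul_smul, g2, hzz, inv_smul_eq_iff, g1]
    · rw [e3, mul_smul, mul_smul, g3, za, inv_smul_eq_iff, g3]
  set P := stabilizer G a ⊓ stabilizer G b with hP
  have hPeven : 2 ∣ Nat.card P := by
    have h1 := card_orb_mul P c
    rw [show orb P c = ({a, b} : Set Ω)ᶜ from ?_, Nat.card_coe_set_eq, Set.ncard_compl,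
      Set.ncard_pair hab] at h1
    · rw [← h1, hn2]
      exact Dvd.dvd.mul_right (dvd_mul_right 2 _) _
    ext y
    constructor
    · rintro ⟨k, hk, rfl⟩ h
      obtain ⟨hk1, hk2⟩ := Subgroup.mem_inf.1 hk
      rcases h with h | h
      · exact hca (MulAction.injective k (h.trans (mem_stabilizer_iff.1 hk1).symm))
      · exact hcb (MulAction.injective k (h.trans (mem_stabilizer_iff.1 hk2).symm))
    · intro hy
      simp only [Set.mem_compl_iff, Set.mem_insert_iff, Set.mem_singleton_iff, not_or] at hy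
      obtain ⟨k, hk1, hk2, hk3⟩ := C.exists_move hab hca hcb hy.1 hy.2
      exact ⟨k, ⟨hk1, hk2⟩, hk3⟩
  obtain ⟨u, hu⟩ := exists_prime_orderOf_dvd_card' (G := P) 2 hPeven
  rw [← Subgroup.orderOf_coe] at hu
  have hua : (u : G) • a = a := (Subgroup.mem_inf.1 u.2).1
  have hub : (u : G) • b = b := (Subgroup.mem_inf.1 u.2).2
  refine (C.endgame hab (C.odd_S1_of_not_sym hns a) heven hu hua hub fun x hx => ?_).1
  by_contra hx'
  push Not at hx'
  obtain ⟨g, g1, g2, g3⟩ := C.exists3 hab hca.symm hcb.symm hab hx'.1.symm hx'.2.symm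
  refine hEodd (g⁻¹ * u * g) ?_ ?_ ?_ (by rw [show g⁻¹ * (u : G) * g = g⁻¹ * u * g⁻¹⁻¹ by rw [inv_inv],
    Cfsg.Lib.Invol.orderOf_conj_eq, hu])
  · rw [mul_smul, mul_smul, g1, hua, inv_smul_eq_iff, g1]
  · rw [mul_smul, mul_smul, g2, hub, inv_smul_eq_iff, g2]
  · rw [mul_smul, mul_smul, g3, hx, inv_smul_eq_iff, g3]

end Ctx

end Cfsg.Lib.Wagner
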