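import Cfsg.Agent.Lib.Wagner.Count
import Cfsg.Agent.Lib.Wagner.CaseOne
import Cfsg.Agent.Lib.Wagner.GoodAffine
import Cfsg.Agent.Lib.Wagner.Second

/-!
# At most two colours
-/

set_option autoImplicit false
set_option linter.unusedSectionVars false
set_option linter.style.haveILetI false

namespace Cfsg.Lib.Wagner

open MulAction Cfsg.Lib.Plane

universe u v

variable {G : Type u} [Group G] [Finite G] {Ω : Type v} [MulAction G Ω]

/-- The induction step. -/
theorem Ctx.two_of_below {H : Subgroup G} (C : Ctx H Ω) (hI : Below.{v} (Nat.card Ω)) : Two H Ω := by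
  haveI : Fact (Nat.Prime 2) := ⟨Nat.prime_two⟩
  by_contra hT
  have hs : Sym H Ω := by
    by_contra h
    exact C.caseOne hT h
  haveI := C.finite
  obtain ⟨a⟩ := C.nonempty
  obtain ⟨b, hba, -⟩ := C.exists_third a a
  have hab : a ≠ b := hba.symm
  obtain ⟨c, hca, hcb⟩ := C.exists_third a b
  have hr : 2 ∣ Nat.card ↥(orb (S2 H a b) c) := by
    by_contra h
    refine hT (Two.of_pair C hab fun c₁ c₂ c₃ h1a h1b h2a h2b _ _ =>
      Or.inl (C.col_of_sym_odd hs hab h1a h1b h2a h2b ?_))
    rw [C.card_orb_eq hab h1a h1b hca hcb]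
    exact Nat.odd_iff.2 (Nat.two_dvd_ne_zero.1 h)
  have heven : Even (Nat.card Ω) := by
    have h1 := hr.trans (C.card_orb_dvd hab hca hcb)
    have h2 := C.lt
    rw [even_iff_two_dvd]
    omega
  have h2 : 2 ∣ Nat.card (S2 H a b) := C.card_S2_eq a b c ▸ hr.mul_right _
  obtain ⟨P, W, F0⟩ := C.exists_frame0 heven (C.not_three_dvd hI hT) hab
  have F := F0.toFrame C hI hT h2
  by_cases hW : Nat.card W = 2
  · exact hT (F.two_of_small C hs hW)
  obtain ⟨X, hX⟩ := F.exists_good C
  obtain ⟨k, hk⟩ := IsPGroup.iff_card.1 F.W_pgroup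
  have h3 := hX.card
  have hXpos : 0 < Nat.card X := Nat.card_pos
  refine Big.elim (H := H) (a := a) (b := b) (P := P) (W := W) ⟨F, C, hI, hT, ?_⟩
  rcases k with _ | _ | k
  · rw [pow_zero] at hk; omega
  · exact absurd (by rw [hk]; rfl) hW
  · rw [hk, pow_succ, pow_succ]
    have : 1 ≤ 2 ^ k := Nat.one_le_two_pow
    omega

/-- The bound holds below every degree. -/
theorem below_all (n : ℕ) : Below.{v} n := by
  induction n with
  | zero => intro G' _ _ Ω' _ H' _ hlt; omega
  | succ m ih =>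
    intro G' _ _ Ω' _ H' C hlt
    exact C.two_of_below fun G'' _ _ Ω'' _ H'' C'' hlt'' => ih G'' Ω'' H'' C'' (by omega)

/-- At most two colours. -/
theorem Ctx.two {H : Subgroup G} (C : Ctx H Ω) : Two H Ω := C.two_of_below (below_all _)

end Cfsg.Lib.Wagner
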