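import Cfsg.Agent.Lib.Wagner.SelfCent

/-!
# The pattern of fixed points of the swapping involutions centralizing `W`

Exactly one of the two cosets of a hyperplane `X` in `T₀ \ W` has fixed points on the fixed set of `X`.
-/

set_option autoImplicit false
set_option linter.unusedSectionVars false
set_option linter.style.haveILetI false

namespace Cfsg.Lib.Wagner

open MulAction Cfsg.Lib.Plane

universe u v

variable {G : Type u} [Group G] [Finite G] {Ω : Type v} [MulAction G Ω]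

/-- The setting with `W` large. -/
structure Big (H : Subgroup G) (a b : Ω) (P W : Subgroup G) : Prop where
  frame : Frame H a b P W
  ctx : Ctx H Ω
  below : Below.{v} (Nat.card Ω)
  notTwo : ¬ Two H Ω
  card : 4 ≤ Nat.card W

/-- A Sylow 2-subgroup of the centralizer of `W` in the pair stabilizer. -/
structure TData (H : Subgroup G) (a b : Ω) (W T0 : Subgroup G) : Prop where
  syl : IsSyl 2 T0 (pairStab H a b ⊓ Subgroup.centralizer (W : Set G))
  le : W ≤ T0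
  inf : T0 ⊓ S2 H a b = W

theorem card_le_two_inf {H : Subgroup G} {a b : Ω} {R : Subgroup G} (hR : R ≤ pairStab H a b) :
    Nat.card R ≤ 2 * Nat.card ↥(R ⊓ S2 H a b) := by
  classical
  by_cases h : R ≤ S2 H a b
  · rw [inf_eq_left.2 h]; omega
  obtain ⟨t, ht, htS⟩ := SetLike.not_le_iff_exists.1 h
  have hsw : ∀ r ∈ R, r ∉ S2 H a b → r • a = b ∧ r • b = a := by
    intro r hr hrS
    rcases (mem_pairStab.1 (hR hr)).2 with h1 | h1
    · exact absurd (mem_S2.2 ⟨(mem_pairStab.1 (hR hr)).1, h1⟩) hrS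
    · exact h1
  have hcase : ∀ r ∈ R, r ∈ R ⊓ S2 H a b ∨ r * t ∈ R ⊓ S2 H a b := by
    intro r hr
    by_cases hrS : r ∈ S2 H a b
    · exact Or.inl ⟨hr, hrS⟩
    · refine Or.inr ⟨mul_mem hr ht, mem_S2.2 ⟨mul_mem (mem_pairStab.1 (hR hr)).1 (mem_pairStab.1 (hR ht)).1,
        ?_, ?_⟩⟩
      · rw [mul_smul, (hsw t ht htS).1, (hsw r hr hrS).2]
      · rw [mul_smul, (hsw t ht htS).2, (hsw r hr hrS).1]
  refine le_trans (Nat.card_le_card_of_injective (β := ↥(R ⊓ S2 H a b) × Bool)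
    (fun q => if h : (q : G) ∈ R ⊓ S2 H a b then (⟨q, h⟩, true)
      else (⟨(q : G) * t, (hcase q q.2).resolve_left h⟩, false)) ?_) ?_
  · intro j k e
    simp only at e
    split_ifs at e with h1 h2 h2
    · exact Subtype.ext (congrArg (fun p : ↥(R ⊓ S2 H a b) × Bool => (p.1 : G)) e)
    · exact absurd (congrArg Prod.snd e) (by simp)
    · exact absurd (congrArg Prod.snd e) (by simp)
    · exact Subtype.ext (mul_right_cancel (congrArg (fun p : ↥(R ⊓ S2 H a b) × Bool => (p.1 : G)) e))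
  · rw [Nat.card_prod, Nat.card_eq_fintype_card (α := Bool), Fintype.card_bool, mul_comm]

namespace Big

variable {H : Subgroup G} {a b : Ω} {P W : Subgroup G} (B : Big H a b P W)
include B

theorem good {X : Subgroup G} (hX : X ≤ W) (hc : 2 * Nat.card X = Nat.card W) : Good W X a b :=
  (B.frame.all_good B.ctx B.below B.notTwo).1 X hX hc

theorem cP_eq : cP P W = W := B.frame.cP_eq B.ctx B.below B.notTwo B.card

theorem card_le_W {X : Subgroup G} (hX : Good W X a b) {R : Subgroup G} (hR : IsPGroup 2 R)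
    (hRS : R ≤ S2 H a b) (hRX : R ≤ Subgroup.centralizer (X : Set G)) : Nat.card R ≤ Nat.card W := by
  have h := B.frame.card_le_cP B.ctx B.below B.notTwo hX hR hRS
    fun r hr u hu => (Subgroup.mem_centralizer_iff.1 (hRX hr) u hu).symm
  rwa [B.cP_eq] at h

theorem W_le_cent {X : Subgroup G} (hX : Good W X a b) : W ≤ Subgroup.centralizer (X : Set G) := fun w hw =>
  Subgroup.mem_centralizer_iff.2 fun u hu => B.frame.comm u (hX.le hu) w hw

theorem syl_W {X : Subgroup G} (hX : Good W X a b) :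
    IsSyl 2 W (S2 H a b ⊓ Subgroup.centralizer (X : Set G)) := by
  haveI : Fact (Nat.Prime 2) := ⟨Nat.prime_two⟩
  obtain ⟨R, hR, hWR⟩ := exists_isSyl_ge 2 B.frame.W_pgroup (le_inf B.frame.W_le_S2 (B.W_le_cent hX))
  rwa [Subgroup.eq_of_le_of_card_ge hWR
    (B.card_le_W hX hR.isPGroup (hR.le.trans inf_le_left) (hR.le.trans inf_le_right))]

theorem exists_tdata : ∃ T0, TData H a b W T0 := by
  obtain ⟨T0, hT0, hle, hinf⟩ := B.frame.exists_T0 B.ctx B.below B.notTwo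
  rw [B.cP_eq] at hle hinf
  exact ⟨T0, hT0, hle, hinf⟩

variable {T0 : Subgroup G} (D : TData H a b W T0)
include D

theorem T0_sq : ∀ u ∈ T0, u * u = 1 :=
  (B.frame.T0_sq B.ctx B.below B.notTwo B.card D.syl D.le D.inf).1

theorem T0_swap {u : G} (hu : u ∈ T0) (huW : u ∉ W) : u • a = b ∧ u • b = a :=
  (B.frame.T0_sq B.ctx B.below B.notTwo B.card D.syl D.le D.inf).2 u hu huW

theorem T0_comm {u v : G} (hu : u ∈ T0) (hv : v ∈ T0) : u * v = v * u := comm_of_sq (B.T0_sq D) hu hv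

theorem T0_inv {u : G} (hu : u ∈ T0) : u⁻¹ = u := inv_eq_of_mul_eq_one_right (B.T0_sq D u hu)

theorem T0_mem_H {u : G} (hu : u ∈ T0) : u ∈ H :=
  (mem_pairStab.1 (Subgroup.mem_inf.1 (D.syl.le hu)).1).1

theorem T0_cent_X {X : Subgroup G} (hX : Good W X a b) {u : G} (hu : u ∈ T0) :
    ∀ x ∈ X, u * x = x * u := fun _ hx => B.T0_comm D hu (D.le (hX.le hx))

theorem T0_mul_mem {u v : G} (hu : u ∈ T0) (huW : u ∉ W) (hv : v ∈ T0) (hvW : v ∉ W) : u * v ∈ W := by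
  refine D.inf.le (Subgroup.mem_inf.2 ⟨mul_mem hu hv, mem_S2.2 ⟨mul_mem (B.T0_mem_H D hu) (B.T0_mem_H D hv), ?_, ?_⟩⟩)
  · rw [mul_smul, (B.T0_swap D hv hvW).1, (B.T0_swap D hu huW).2]
  · rw [mul_smul, (B.T0_swap D hv hvW).2, (B.T0_swap D hu huW).1]

theorem exists_swap_mem : ∃ t ∈ T0, t ∉ W := by
  obtain ⟨X, hX⟩ := B.frame.exists_good B.ctx
  obtain ⟨t, ht, _, _, hta, -⟩ := B.frame.exists_wX B.ctx B.below B.notTwo D.syl (D.inf.trans B.cP_eq.symm) hX
  exact ⟨t, ht, fun h => B.frame.ne ((mem_S2.1 (B.frame.W_le_S2 h)).2.1.symm.trans hta)⟩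

theorem card_T0 : Nat.card T0 = 2 * Nat.card W := by
  obtain ⟨t, ht, htW⟩ := B.exists_swap_mem D
  have h1 := two_mul_card_le_of_lt D.le fun e => htW (e.ge ht)
  have h2 := card_le_two_inf (R := T0) (D.syl.le.trans inf_le_left)
  rw [D.inf] at h2
  omega

theorem syl_T0 {X : Subgroup G} (hX : Good W X a b) :
    IsSyl 2 T0 (pairStab H a b ⊓ Subgroup.centralizer (X : Set G)) := by
  haveI : Fact (Nat.Prime 2) := ⟨Nat.prime_two⟩
  obtain ⟨R, hR, hTR⟩ := exists_isSyl_ge 2 D.syl.isPGroup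
    (show T0 ≤ pairStab H a b ⊓ Subgroup.centralizer (X : Set G) from le_inf (D.syl.le.trans inf_le_left)
      fun u hu => Subgroup.mem_centralizer_iff.2 fun x hx => (B.T0_cent_X D hX hu x hx).symm)
  have h1 := card_le_two_inf (R := R) (hR.le.trans inf_le_left)
  have h2 := B.card_le_W hX (hR.isPGroup.to_le inf_le_left) inf_le_right
    ((inf_le_left : R ⊓ S2 H a b ≤ R).trans (hR.le.trans inf_le_right))
  rwa [Subgroup.eq_of_le_of_card_ge hTR (by rw [B.card_T0 D]; omega)]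

/-- An element of `T₀ \ W` with a fixed point on the fixed set of `X` has exactly two. -/
theorem fix_two {X : Subgroup G} (hX : Good W X a b) {u w : G} (hu : u ∈ T0) (huW : u ∉ W) (hw : w ∈ W)
    (hwX : w ∉ X) {c : Ω} (hc : c ∈ fx X Ω) (huc : u • c = c) :
    c ≠ a ∧ c ≠ b ∧ w • c ≠ c ∧ u • (w • c) = w • c ∧ w • c ∈ fx X Ω ∧
      ∀ x ∈ fx X Ω, u • x = x → x = c ∨ x = w • c := by
  haveI : Fact (Nat.Prime 2) := ⟨Nat.prime_two⟩
  haveI := B.ctx.normal
  have F := B.frame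
  obtain ⟨hua, hub⟩ := B.T0_swap D hu huW
  have hca : c ≠ a := fun e => F.ne (by rw [← hua, ← e, huc, e])
  have hcb : c ≠ b := fun e => F.ne.symm (by rw [← hub, ← e, huc, e])
  have hwc : w • c ≠ c := fun e => (F.outside_fix hX hw hwX hc e).elim hca hcb
  have huw : u • (w • c) = w • c := by rw [← mul_smul, B.T0_comm D hu (D.le hw), mul_smul, huc]
  have hwfx : w • c ∈ fx X Ω := smul_mem_fx_of_commute (fun x hx => F.comm w hw x (hX.le hx)) hc
  refine ⟨hca, hcb, hwc, huw, hwfx, fun x hx hux => ?_⟩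
  obtain ⟨g, hg, hgc, hga, hgb⟩ := F.cTrans B.ctx (hX.le.trans F.le) hc hca hcb hc hwfx hwc.symm
  have hgi : ∀ y ∈ X, g⁻¹ * y = y * g⁻¹ := fun y hy => ((show Commute g y from hgc y hy).inv_left).eq
  set s := g⁻¹ * u * g with hs
  have hsC : s ∈ S2 H a b ⊓ Subgroup.centralizer (X : Set G) := by
    refine Subgroup.mem_inf.2 ⟨mem_S2.2 ⟨mul_mem (mul_mem (inv_mem hg) (B.T0_mem_H D hu)) hg, ?_, ?_⟩, ?_⟩
    · rw [hs, mul_smul, mul_smul, hga, huc, inv_smul_eq_iff, hga]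
    · rw [hs, mul_smul, mul_smul, hgb, huw, inv_smul_eq_iff, hgb]
    · refine Subgroup.mem_centralizer_iff.2 fun y hy => ?_
      exact ((((show Commute g⁻¹ y from hgi y hy).mul_left (B.T0_cent_X D hX hu y hy)).mul_left (hgc y hy))).eq.symm
  have hs2 : s ^ 2 ^ 1 = 1 := by
    rw [pow_one, pow_two, hs, show g⁻¹ * u * g * (g⁻¹ * u * g) = g⁻¹ * (u * u) * g by group, B.T0_sq D u hu,
      mul_one, inv_mul_cancel]
  obtain ⟨k, hk, hkW⟩ := exists_cj_le (B.syl_W hX)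
    (show IsPGroup 2 (Subgroup.zpowers s) from by
      obtain ⟨j, -, hj⟩ := (Nat.dvd_prime_pow Nat.prime_two).1 (orderOf_dvd_of_pow_eq_one hs2)
      exact IsPGroup.of_card (n := j) (by rw [Nat.card_zpowers, hj]))
    (Subgroup.zpowers_le.2 hsC)
  set w' := k * s * k⁻¹ with hw'
  have hw'W : w' ∈ W := hkW (conj_mem_cj (Subgroup.mem_zpowers s))
  obtain ⟨hkS, hkC⟩ := Subgroup.mem_inf.1 hk
  obtain ⟨-, hka, hkb⟩ := mem_S2.1 hkS
  set h := g * k⁻¹ with hh
  have hu' : u = h * w' * h⁻¹ := by rw [hh, hw', hs]; group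
  have hhc : ∀ y ∈ X, h * y = y * h := fun y hy =>
    ((show Commute g y from hgc y hy).mul_left
      ((show Commute k y from (Subgroup.mem_centralizer_iff.1 hkC y hy).symm).inv_left)).eq
  have hw'X : w' ∉ X := by
    intro hX'
    have e : u = w' := by rw [hu', hhc w' hX', mul_inv_cancel_right]
    exact huW (e ▸ hw'W)
  have hx' : h⁻¹ • x ∈ fx X Ω :=
    smul_mem_fx_of_commute (fun y hy => ((show Commute h y from hhc y hy).inv_left).eq) hx
  have hfix : w' • h⁻¹ • x = h⁻¹ • x := by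
    rw [hu', mul_smul, mul_smul] at hux
    exact MulAction.injective h (hux.trans (smul_inv_smul h x).symm)
  rcases F.outside_fix hX hw'W hw'X hx' hfix with e | e
  · exact Or.inl (by rw [inv_smul_eq_iff.1 e, hh, mul_smul, inv_smul_eq_iff.2 hka.symm, hga])
  · exact Or.inr (by rw [inv_smul_eq_iff.1 e, hh, mul_smul, inv_smul_eq_iff.2 hkb.symm, hgb])

/-- An element of the stabilizer of `a` and `b` moving one hyperplane to another and fixing `W` and `T₀`. -/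
theorem move {X X' : Subgroup G} (hX : Good W X a b) (hX' : Good W X' a b) :
    ∃ g : G, g • a = a ∧ g • b = b ∧ cj g X = X' ∧ cj g W = W ∧ cj g T0 = T0 := by
  haveI : Fact (Nat.Prime 2) := ⟨Nat.prime_two⟩
  haveI := B.ctx.normal
  have F := B.frame
  obtain ⟨c, hc, hca, hcb⟩ := hX.fix
  obtain ⟨c', hc', hc'a, hc'b⟩ := hX'.fix
  obtain ⟨g₀, g₀a, g₀b, g₀c⟩ := B.ctx.exists_move F.ne hca hcb hc'a hc'b
  have e := F.good_eq hX hc hca hcb
  have e' := F.good_eq hX' hc' hc'a hc'b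
  obtain ⟨d, hd, hdX⟩ := F.move (m := Nat.card X) (F.good_max hX) B.ctx hca hcb hc'a hc'b (by rw [e])
    (by rw [e']; have := hX.card; have := hX'.card; omega) g₀a g₀b g₀c
  rw [e, e'] at hdX
  obtain ⟨-, hda, hdb, -⟩ := mem_S3.1 hd
  set g₁ := d * g₀ with hg₁
  have g₁a : g₁ • a = a := by rw [hg₁, mul_smul, g₀a, hda]
  have g₁b : g₁ • b = b := by rw [hg₁, mul_smul, g₀b, hdb]
  have hC : cj g₁ (S2 H a b ⊓ Subgroup.centralizer (X : Set G)) =
      S2 H a b ⊓ Subgroup.centralizer (X' : Set G) := by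
    rw [cj_inf, cj_S2, g₁a, g₁b]
    congr 1
    ext z
    rw [mem_cj, Subgroup.mem_centralizer_iff, Subgroup.mem_centralizer_iff]
    constructor
    · intro h y hy
      rw [← hdX, SetLike.mem_coe, mem_cj] at hy
      calc y * z = g₁ * ((g₁⁻¹ * y * g₁) * (g₁⁻¹ * z * g₁)) * g₁⁻¹ := by group
        _ = g₁ * ((g₁⁻¹ * z * g₁) * (g₁⁻¹ * y * g₁)) * g₁⁻¹ := by rw [h _ hy]
        _ = z * y := by group
    · intro h y hy
      have h' := h (g₁ * y * g₁⁻¹) (hdX ▸ conj_mem_cj hy)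
      calc y * (g₁⁻¹ * z * g₁) = g₁⁻¹ * ((g₁ * y * g₁⁻¹) * z) * g₁ := by group
        _ = g₁⁻¹ * (z * (g₁ * y * g₁⁻¹)) * g₁ := by rw [h']
        _ = g₁⁻¹ * z * g₁ * y := by group
  have h2 := isSyl_cj (B.syl_W hX) g₁
  rw [hC] at h2
  obtain ⟨k, hk, hkW⟩ := exists_cj_eq (B.syl_W hX') h2
  rw [cj_cj] at hkW
  obtain ⟨hkS, hkC⟩ := Subgroup.mem_inf.1 hk
  obtain ⟨-, hka, hkb⟩ := mem_S2.1 hkS
  set g₂ := k * g₁ with hg₂
  have g₂a : g₂ • a = a := by rw [hg₂, mul_smul, g₁a, hka]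
  have g₂b : g₂ • b = b := by rw [hg₂, mul_smul, g₁b, hkb]
  have hg₂X : cj g₂ X = X' := by
    rw [hg₂, ← cj_cj, hdX]
    exact cj_of_commute fun y hy => (Subgroup.mem_centralizer_iff.1 hkC y hy).symm
  have hK : cj g₂ (pairStab H a b ⊓ Subgroup.centralizer (W : Set G)) =
      pairStab H a b ⊓ Subgroup.centralizer (W : Set G) := by
    refine cj_eq_self fun z hz => ?_
    obtain ⟨hzp, hzc⟩ := Subgroup.mem_inf.1 hz
    obtain ⟨hzH, hzp⟩ := mem_pairStab.1 hzp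
    refine Subgroup.mem_inf.2 ⟨mem_pairStab.2 ⟨Subgroup.Normal.conj_mem inferInstance z hzH g₂, ?_⟩, ?_⟩
    · rcases hzp with ⟨h1, h2⟩ | ⟨h1, h2⟩
      · exact Or.inl ⟨by rw [mul_smul, mul_smul, inv_smul_eq_iff.2 g₂a.symm, h1, g₂a],
          by rw [mul_smul, mul_smul, inv_smul_eq_iff.2 g₂b.symm, h2, g₂b]⟩
      · exact Or.inr ⟨by rw [mul_smul, mul_smul, inv_smul_eq_iff.2 g₂a.symm, h1, g₂b],
          by rw [mul_smul, mul_smul, inv_smul_eq_iff.2 g₂b.symm, h2, g₂a]⟩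
    · refine Subgroup.mem_centralizer_iff.2 fun y hy => ?_
      have hy' : g₂⁻¹ * y * g₂ ∈ W := by rw [← mem_cj, hkW]; exact hy
      calc y * (g₂ * z * g₂⁻¹) = g₂ * ((g₂⁻¹ * y * g₂) * z) * g₂⁻¹ := by group
        _ = g₂ * (z * (g₂⁻¹ * y * g₂)) * g₂⁻¹ := by rw [Subgroup.mem_centralizer_iff.1 hzc _ hy']
        _ = g₂ * z * g₂⁻¹ * y := by group
  have h3 := isSyl_cj D.syl g₂
  rw [hK] at h3
  obtain ⟨l₁, hl₁, hlT⟩ := exists_cj_eq D.syl h3
  rw [cj_cj] at hlT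
  obtain ⟨l, hlS, hlC, hlT'⟩ : ∃ l ∈ S2 H a b, l ∈ Subgroup.centralizer (W : Set G) ∧ cj (l * g₂) T0 = T0 := by
    obtain ⟨hlp, hlc⟩ := Subgroup.mem_inf.1 hl₁
    rcases (mem_pairStab.1 hlp).2 with h1 | h1
    · exact ⟨l₁, mem_S2.2 ⟨(mem_pairStab.1 hlp).1, h1⟩, hlc, hlT⟩
    · obtain ⟨t, ht, htW⟩ := B.exists_swap_mem D
      obtain ⟨hta, htb⟩ := B.T0_swap D ht htW
      refine ⟨t * l₁, mem_S2.2 ⟨mul_mem (B.T0_mem_H D ht) (mem_pairStab.1 hlp).1,
        by rw [mul_smul, h1.1, htb], by rw [mul_smul, h1.2, hta]⟩,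
        mul_mem (Subgroup.mem_inf.1 (D.syl.le ht)).2 hlc, ?_⟩
      rw [mul_assoc, ← cj_cj, hlT]
      exact cj_eq_self fun y hy => mul_mem (mul_mem ht hy) (inv_mem ht)
  obtain ⟨-, hla, hlb⟩ := mem_S2.1 hlS
  refine ⟨l * g₂, by rw [mul_smul, g₂a, hla], by rw [mul_smul, g₂b, hlb], ?_, ?_, hlT'⟩
  · rw [← cj_cj, hg₂X]
    exact cj_of_commute fun y hy => (Subgroup.mem_centralizer_iff.1 hlC y (hX'.le hy)).symm
  · rw [← cj_cj, hkW]
    exact cj_of_commute fun y hy => (Subgroup.mem_centralizer_iff.1 hlC y hy).symm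

/-- An element of `C_H(X)` normalising `T₀` which carries `{a, b}` to the fixed pair of `u`. -/
theorem pair_conj {X : Subgroup G} (hX : Good W X a b) {u w : G} (hu : u ∈ T0) (huW : u ∉ W) (hw : w ∈ W)
    (hwX : w ∉ X) {c : Ω} (hc : c ∈ fx X Ω) (huc : u • c = c) :
    ∃ n ∈ H, (∀ x ∈ X, n * x = x * n) ∧ cj n T0 = T0 ∧
      ((n • a = c ∧ n • b = w • c) ∨ (n • a = w • c ∧ n • b = c)) := by
  haveI : Fact (Nat.Prime 2) := ⟨Nat.prime_two⟩
  haveI := B.ctx.normal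
  have F := B.frame
  obtain ⟨hca, hcb, hwc, huw, hwfx, -⟩ := B.fix_two D hX hu huW hw hwX hc huc
  obtain ⟨g, hg, hgc, hga, hgb⟩ := F.cTrans B.ctx (hX.le.trans F.le) hc hca hcb hc hwfx hwc.symm
  -- `T₀` preserves the pair of `c`
  have hwpair : ∀ y ∈ W, (y • c = c ∧ y • (w • c) = w • c) ∨ (y • c = w • c ∧ y • (w • c) = c) := by
    intro y hy
    by_cases hyX : y ∈ X
    · exact Or.inl ⟨hc y hyX, hwfx y hyX⟩
    · have h1 := hyper_mul hX.le hX.card hy hw hyX hwX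
      have e : y = y * w * w := by rw [mul_assoc, F.sq w hw, mul_one]
      refine Or.inr ⟨?_, ?_⟩
      · rw [e, mul_smul, hwfx _ h1]
      · rw [e, mul_smul, ← mul_smul w w, F.sq w hw, one_smul, hc _ h1]
  have hpair : ∀ y ∈ T0, (y • c = c ∧ y • (w • c) = w • c) ∨ (y • c = w • c ∧ y • (w • c) = c) := by
    intro y hy
    by_cases hyW : y ∈ W
    · exact hwpair y hyW
    · have h1 := B.T0_mul_mem D hy hyW hu huW
      have e : y = y * u * u := by rw [mul_assoc, B.T0_sq D u hu, mul_one]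
      rcases hwpair _ h1 with ⟨h2, h3⟩ | ⟨h2, h3⟩
      · exact Or.inl ⟨by rw [e, mul_smul, huc, h2], by rw [e, mul_smul, huw, h3]⟩
      · exact Or.inr ⟨by rw [e, mul_smul, huc, h2], by rw [e, mul_smul, huw, h3]⟩
  have hle : cj g⁻¹ T0 ≤ pairStab H a b ⊓ Subgroup.centralizer (X : Set G) := by
    intro y hy
    rw [mem_cj, inv_inv] at hy
    obtain ⟨y', hy', rfl⟩ : ∃ y' ∈ T0, y = g⁻¹ * y' * g := ⟨_, hy, by group⟩
    refine Subgroup.mem_inf.2 ⟨mem_pairStab.2 ⟨mul_mem (mul_mem (inv_mem hg) (B.T0_mem_H D hy')) hg, ?_⟩, ?_⟩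
    · rcases hpair y' hy' with ⟨h1, h2⟩ | ⟨h1, h2⟩
      · exact Or.inl ⟨by rw [mul_smul, mul_smul, hga, h1, inv_smul_eq_iff, hga],
          by rw [mul_smul, mul_smul, hgb, h2, inv_smul_eq_iff, hgb]⟩
      · exact Or.inr ⟨by rw [mul_smul, mul_smul, hga, h1, inv_smul_eq_iff, hgb],
          by rw [mul_smul, mul_smul, hgb, h2, inv_smul_eq_iff, hga]⟩
    · refine Subgroup.mem_centralizer_iff.2 fun x hx => ?_
      exact ((((show Commute g x from hgc x hx).inv_left).mul_left (B.T0_cent_X D hX hy' x hx)).mul_left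
        (hgc x hx)).eq.symm
  have h2 : IsSyl 2 (cj g⁻¹ T0) (pairStab H a b ⊓ Subgroup.centralizer (X : Set G)) :=
    isSyl_of_card (B.syl_T0 D hX) (cj_pgroup D.syl.isPGroup) hle (card_cj _ _)
  obtain ⟨k, hk, hkT⟩ := exists_cj_eq (B.syl_T0 D hX) h2
  rw [cj_cj] at hkT
  obtain ⟨hkp, hkC⟩ := Subgroup.mem_inf.1 hk
  obtain ⟨hkH, hkp⟩ := mem_pairStab.1 hkp
  refine ⟨g * k⁻¹, mul_mem hg (inv_mem hkH), fun x hx => ((show Commute g x from hgc x hx).mul_left
    ((show Commute k x from (Subgroup.mem_centralizer_iff.1 hkC x hx).symm).inv_left)).eq, ?_, ?_⟩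
  · conv_lhs => rw [← hkT]
    rw [cj_cj, show g * k⁻¹ * (k * g⁻¹) = 1 by group, cj_one]
  · rcases hkp with ⟨h1, h3⟩ | ⟨h1, h3⟩
    · exact Or.inl ⟨by rw [mul_smul, inv_smul_eq_iff.2 h1.symm, hga],
        by rw [mul_smul, inv_smul_eq_iff.2 h3.symm, hgb]⟩
    · exact Or.inr ⟨by rw [mul_smul, inv_smul_eq_iff.2 h3.symm, hgb],
        by rw [mul_smul, inv_smul_eq_iff.2 h1.symm, hga]⟩

end Big

end Cfsg.Lib.Wagner
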