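import Cfsg.Agent.Lib.Wagner.Move

/-!
# The two cosets of a hyperplane never both have fixed points
-/

set_option autoImplicit false
set_option linter.unusedSectionVars false
set_option linter.style.haveILetI false

namespace Cfsg.Lib.Wagner

open MulAction Cfsg.Lib.Plane

universe u v

variable {G : Type u} [Group G] [Finite G] {Ω : Type v} [MulAction G Ω]

/-- `u` has a fixed point on the fixed set of `X`. -/
def Gd (X : Subgroup G) (Ω : Type v) [MulAction G Ω] (u : G) : Prop := ∃ c ∈ fx X Ω, u • c = c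

theorem Gd.mul {X : Subgroup G} {u x : G} (h : Gd X Ω u) (hx : x ∈ X) : Gd X Ω (u * x) := by
  obtain ⟨c, hc, huc⟩ := h
  exact ⟨c, hc, by rw [mul_smul, hc x hx, huc]⟩

theorem Gd.map {X : Subgroup G} {u : G} (g : G) (h : Gd X Ω u) : Gd (cj g X) Ω (g * u * g⁻¹) := by
  obtain ⟨c, hc, huc⟩ := h
  exact ⟨g • c, by rw [mem_fx_cj, inv_smul_smul]; exact hc, by rw [mul_smul, mul_smul, inv_smul_smul, huc]⟩

namespace Big

variable {H : Subgroup G} {a b : Ω} {P W : Subgroup G} (B : Big H a b P W)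
variable {T0 : Subgroup G} (D : TData H a b W T0)
include B D

theorem exists_gd {X : Subgroup G} (hX : Good W X a b) : ∃ t ∈ T0, t ∉ W ∧ Gd X Ω t := by
  obtain ⟨t, ht, e, _, hta, -, he, -, -, -, -, -, hte, -⟩ :=
    B.frame.exists_wX B.ctx B.below B.notTwo D.syl (D.inf.trans B.cP_eq.symm) hX
  exact ⟨t, ht, fun h => B.frame.ne ((mem_S2.1 (B.frame.W_le_S2 h)).2.1.symm.trans hta), e, he, hte⟩

theorem W_mul {u w : G} (hu : u ∈ T0) (huW : u ∉ W) (hw : w ∈ W) : u * w ∈ T0 ∧ u * w ∉ W :=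
  ⟨mul_mem hu (D.le hw), fun h => huW ((mul_mem_cancel_right hw).1 h)⟩

/-- The two cosets of `X` in `T₀ \ W` are not both good. -/
theorem not_both {X : Subgroup G} (hX : Good W X a b) {u v : G} (hu : u ∈ T0) (huW : u ∉ W) (hv : v ∈ T0)
    (hvW : v ∉ W) (hgu : Gd X Ω u) (hgv : Gd X Ω v) : u * v ∈ X := by
  by_contra huv
  haveI : Fact (Nat.Prime 3) := ⟨Nat.prime_three⟩
  haveI := B.ctx.normal
  haveI := B.ctx.finite
  have F := B.frame
  -- then every element of `T₀ \ W` is good, for every hyperplane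
  have hall0 : ∀ y ∈ T0, y ∉ W → Gd X Ω y := by
    intro y hy hyW
    have hyu := B.T0_mul_mem D hy hyW hu huW
    by_cases h : y * u ∈ X
    · have := hgu.mul h
      rwa [← mul_assoc, B.T0_comm D hu hy, mul_assoc, B.T0_sq D u hu, mul_one] at this
    · have h2 := hyper_mul hX.le hX.card hyu (B.T0_mul_mem D hu huW hv hvW) h huv
      rw [← mul_assoc, mul_assoc y u u, B.T0_sq D u hu, mul_one, B.T0_comm D hy hv] at h2
      have := hgv.mul h2
      rwa [← mul_assoc, B.T0_sq D v hv, one_mul] at this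
  have hall : ∀ X', Good W X' a b → ∀ y ∈ T0, y ∉ W → Gd X' Ω y := by
    intro X' hX' y hy hyW
    obtain ⟨g, -, -, hgX, hgW, hgT⟩ := B.move D hX hX'
    have h1 : g⁻¹ * y * g ∈ T0 := by rw [← mem_cj, hgT]; exact hy
    have h2 : g⁻¹ * y * g ∉ W := fun h => hyW (by rw [← hgW, mem_cj]; exact h)
    have h3 := (hall0 _ h1 h2).map g
    rwa [hgX, show g * (g⁻¹ * y * g) * g⁻¹ = y by group] at h3
  obtain ⟨w, hw, hwX⟩ := F.exists_outside hX
  have hwT := D.le hw
  obtain ⟨huwT, huwW⟩ := B.W_mul D hu huW hw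
  obtain ⟨c₁, hc₁, huc₁⟩ := hgu
  obtain ⟨c₂, hc₂, huwc₂⟩ := hall0 _ huwT huwW
  -- congruence modulo `X`
  let R : G → G → Prop := fun x y => x * y ∈ X
  have hRsymm : ∀ {x y : G}, x ∈ T0 → y ∈ T0 → R x y → R y x := fun hx hy h => by
    show _ * _ ∈ X
    rwa [← B.T0_comm D hx hy]
  have hRtrans : ∀ {x y z : G}, x ∈ T0 → y ∈ T0 → R x y → R y z → R x z := fun {x y z} _ hy h h' => by
    show x * z ∈ X
    have := mul_mem h h'
    rwa [mul_assoc, ← mul_assoc y y, B.T0_sq D y hy, one_mul] at this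
  let N : Subgroup G := H ⊓ Subgroup.centralizer (X : Set G) ⊓ Subgroup.normalizer (T0 : Set G)
  have hNT : ∀ {n : G}, n ∈ N → ∀ {y : G}, y ∈ T0 → n * y * n⁻¹ ∈ T0 := fun {n} hn {y} hy =>
    mem_normalizer_iff_cj.1 (Subgroup.mem_inf.1 hn).2 ▸ conj_mem_cj hy
  have hNX : ∀ {n : G}, n ∈ N → ∀ x ∈ X, n * x * n⁻¹ = x := fun {n} hn x hx => by
    rw [← (Subgroup.mem_centralizer_iff.1 (Subgroup.mem_inf.1 (Subgroup.mem_inf.1 hn).1).2 x hx),
      mul_inv_cancel_right]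
  have hNR : ∀ {n : G}, n ∈ N → ∀ {x y : G}, x ∈ T0 → y ∈ T0 → R x y → R (n * x * n⁻¹) (n * y * n⁻¹) :=
    fun {n} hn {x y} _ _ h => by
      show n * x * n⁻¹ * (n * y * n⁻¹) ∈ X
      rw [show n * x * n⁻¹ * (n * y * n⁻¹) = n * (x * y) * n⁻¹ by group, hNX hn _ h]
      exact h
  -- the three non-trivial classes
  have hclass : ∀ y ∈ T0, y ∈ X ∨ R y w ∨ R y u ∨ R y (u * w) := by
    intro y hy
    by_cases hyW : y ∈ W
    · by_cases hyX : y ∈ X
      · exact Or.inl hyX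
      · exact Or.inr (Or.inl (hyper_mul hX.le hX.card hyW hw hyX hwX))
    · have h1 := B.T0_mul_mem D hy hyW hu huW
      by_cases hyu : y * u ∈ X
      · exact Or.inr (Or.inr (Or.inl hyu))
      · refine Or.inr (Or.inr (Or.inr ?_))
        show y * (u * w) ∈ X
        rw [← mul_assoc]
        exact hyper_mul hX.le hX.card h1 hw hyu hwX
  -- an element carrying the class of `w` to a prescribed one
  have hto : ∀ y ∈ T0, y ∉ W → ∀ c ∈ fx X Ω, y • c = c → ∃ n ∈ N, R (n * w * n⁻¹) y := by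
    intro y hy hyW c hc hyc
    obtain ⟨n, hn, hnc, hnT, hnab⟩ := B.pair_conj D hX hy hyW hw hwX hc hyc
    have hnN : n ∈ N := Subgroup.mem_inf.2 ⟨Subgroup.mem_inf.2 ⟨hn, Subgroup.mem_centralizer_iff.2
      fun x hx => (hnc x hx).symm⟩, mem_normalizer_iff_cj.2 hnT⟩
    obtain ⟨hca, hcb, hwc, -, hwfx, -⟩ := B.fix_two D hX hy hyW hw hwX hc hyc
    obtain ⟨-, hwa, hwb⟩ := mem_S2.1 (F.W_le_S2 hw)
    have hfix : (n * w * n⁻¹) • c = c := by
      rcases hnab with ⟨h1, h2⟩ | ⟨h1, h2⟩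
      · rw [mul_smul, mul_smul, inv_smul_eq_iff.2 h1.symm, hwa, h1]
      · rw [mul_smul, mul_smul, inv_smul_eq_iff.2 h2.symm, hwb, h2]
    have hmem := hNT hnN hwT
    have hnX : n * w * n⁻¹ ∉ X := fun h => hwX (by
      have e : n⁻¹ * (n * w * n⁻¹) * n = w := by group
      have h' := hnc _ h
      rw [← e, mul_assoc, ← h', inv_mul_cancel_left]
      exact h)
    refine ⟨n, hnN, ?_⟩
    by_cases hW' : n * w * n⁻¹ ∈ W
    · rcases F.outside_fix hX hW' hnX hc hfix with h | h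
      exacts [absurd h hca, absurd h hcb]
    · show n * w * n⁻¹ * y ∈ X
      by_contra h
      have h1 := B.T0_mul_mem D hmem hW' hy hyW
      have h2 : (n * w * n⁻¹ * y) • c = c := by rw [mul_smul, hyc, hfix]
      rcases F.outside_fix hX h1 h hc h2 with h' | h'
      exacts [hca h', hcb h']
  obtain ⟨n₁, hn₁, hn₁w⟩ := hto u hu huW c₁ hc₁ huc₁
  obtain ⟨n₂, hn₂, hn₂w⟩ := hto (u * w) huwT huwW c₂ hc₂ huwc₂
  have huwR : ¬ R u (u * w) := fun h => hwX (by
    have h' : u * (u * w) ∈ X := h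
    rwa [← mul_assoc, B.T0_sq D u hu, one_mul] at h')
  have hRrefl : ∀ {x : G}, x ∈ T0 → R x x := fun hx => by
    show _ * _ ∈ X
    rw [B.T0_sq D _ hx]
    exact one_mem X
  have hRmulr : ∀ {x y z : G}, x ∈ T0 → y ∈ T0 → z ∈ T0 → R x y → R (x * z) (y * z) := fun {x y z} hx hy hz h => by
    show x * z * (y * z) ∈ X
    rwa [mul_assoc, ← mul_assoc z, B.T0_comm D hz hy, mul_assoc y, B.T0_sq D z hz, mul_one]
  have hconjmul : ∀ {n : G} (x y : G), n * (x * y) * n⁻¹ = n * x * n⁻¹ * (n * y * n⁻¹) := fun x y => by group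
  have hnotX : ∀ {n : G}, n ∈ N → ∀ {y : G}, y ∈ T0 → y ∉ X → n * y * n⁻¹ ∉ X := fun {n} hn {y} _ hyX h => hyX (by
    have := hNX (inv_mem hn) _ h
    rw [show n⁻¹ * (n * y * n⁻¹) * n⁻¹⁻¹ = y by group] at this
    rw [this]; exact h)
  have huX : u ∉ X := fun h => huW (hX.le h)
  have hinj : ∀ {n : G}, n ∈ N → ∀ {x y : G}, x ∈ T0 → y ∈ T0 → R (n * x * n⁻¹) (n * y * n⁻¹) → R x y :=
    fun {n} hn {x y} hx hy h => by
      have h' := hNR (inv_mem hn) (hNT hn hx) (hNT hn hy) h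
      rwa [show n⁻¹ * (n * x * n⁻¹) * n⁻¹⁻¹ = x by group, show n⁻¹ * (n * y * n⁻¹) * n⁻¹⁻¹ = y by group] at h'
  have hwu : ¬ R w u := fun h => huW ((mul_mem_cancel_left hw).1 (hX.le h))
  -- a three-cycle
  obtain ⟨n, hn, hnw, hnu⟩ : ∃ n ∈ N, R (n * w * n⁻¹) u ∧ R (n * u * n⁻¹) (u * w) := by
    rcases hclass _ (hNT hn₁ hu) with h | h | h | h
    · exact absurd h (hnotX hn₁ hu huX)
    · -- `n₁` exchanges `w` and `u`
      rcases hclass _ (hNT hn₂ hu) with h' | h' | h' | h'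
      · exact absurd h' (hnotX hn₂ hu huX)
      · -- the inverse of a three-cycle
        refine ⟨n₂⁻¹, inv_mem hn₂, ?_, ?_⟩
        · have := hNR (inv_mem hn₂) (hNT hn₂ hu) hwT h'
          rw [show n₂⁻¹ * (n₂ * u * n₂⁻¹) * n₂⁻¹⁻¹ = u by group] at this
          exact hRsymm hu (hNT (inv_mem hn₂) hwT) this
        · have e : R (n₂ * (u * w) * n₂⁻¹) u := by
            have h1 : R (n₂ * u * n₂⁻¹ * (n₂ * w * n₂⁻¹)) (w * (u * w)) := by
              refine hRtrans (mul_mem (hNT hn₂ hu) (hNT hn₂ hwT)) (mul_mem hwT (hNT hn₂ hwT))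
                (hRmulr (hNT hn₂ hu) hwT (hNT hn₂ hwT) h') ?_
              have := hRmulr (hNT hn₂ hwT) huwT hwT hn₂w
              rwa [B.T0_comm D (hNT hn₂ hwT) hwT, B.T0_comm D huwT hwT] at this
            rw [B.T0_comm D hu hwT, ← mul_assoc w w u, B.T0_sq D w hwT, one_mul] at h1
            rwa [← hconjmul] at h1
          have := hNR (inv_mem hn₂) (hNT hn₂ huwT) hu e
          rw [show n₂⁻¹ * (n₂ * (u * w) * n₂⁻¹) * n₂⁻¹⁻¹ = u * w by group] at this
          exact hRsymm huwT (hNT (inv_mem hn₂) hu) this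
      · refine ⟨n₂ * n₁, mul_mem hn₂ hn₁, ?_, ?_⟩
        · have := hNR hn₂ (hNT hn₁ hwT) hu hn₁w
          rw [show n₂ * (n₁ * w * n₁⁻¹) * n₂⁻¹ = n₂ * n₁ * w * (n₂ * n₁)⁻¹ by group] at this
          exact hRtrans (hNT (mul_mem hn₂ hn₁) hwT) (hNT hn₂ hu) this h'
        · have := hNR hn₂ (hNT hn₁ hu) hwT h
          rw [show n₂ * (n₁ * u * n₁⁻¹) * n₂⁻¹ = n₂ * n₁ * u * (n₂ * n₁)⁻¹ by group] at this
          exact hRtrans (hNT (mul_mem hn₂ hn₁) hu) (hNT hn₂ hwT) this hn₂w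
      · exact absurd (hinj hn₂ hwT hu (hRtrans (hNT hn₂ hwT) huwT hn₂w (hRsymm (hNT hn₂ hu) huwT h'))) hwu
    · exact absurd (hinj hn₁ hwT hu (hRtrans (hNT hn₁ hwT) hu hn₁w (hRsymm (hNT hn₁ hu) hu h))) hwu
    · exact ⟨n₁, hn₁, hn₁w, h⟩
  -- its 3-part
  obtain ⟨m, hm, k, hk⟩ := exists_p_part 3 n
  set g := n ^ m with hg
  have hgN : g ∈ N := pow_mem hn m
  have hnuw : R (n * (u * w) * n⁻¹) w := by
    have h1 : R (n * u * n⁻¹ * (n * w * n⁻¹)) (u * w * u) := by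
      refine hRtrans (mul_mem (hNT hn hu) (hNT hn hwT)) (mul_mem huwT (hNT hn hwT))
        (hRmulr (hNT hn hu) huwT (hNT hn hwT) hnu) ?_
      have := hRmulr (hNT hn hwT) hu huwT hnw
      rwa [B.T0_comm D (hNT hn hwT) huwT, B.T0_comm D hu huwT] at this
    rw [B.T0_comm D huwT hu, ← mul_assoc u u w, B.T0_sq D u hu, one_mul] at h1
    rwa [← hconjmul] at h1
  have hstep : ∀ {g : G}, g ∈ N → ∀ {x y z : G}, x ∈ T0 → y ∈ T0 → R (g * x * g⁻¹) y → R (n * y * n⁻¹) z →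
      R (n * g * x * (n * g)⁻¹) z := by
    intro g hg x y z hx hy h h'
    have := hNR hn (hNT hg hx) hy h
    rw [show n * (g * x * g⁻¹) * n⁻¹ = n * g * x * (n * g)⁻¹ by group] at this
    exact hRtrans (hNT (mul_mem hn hg) hx) (hNT hn hy) this h'
  have hpow : ∀ j : ℕ,
      (j % 3 = 0 → R (n ^ j * w * (n ^ j)⁻¹) w ∧ R (n ^ j * u * (n ^ j)⁻¹) u) ∧
      (j % 3 = 1 → R (n ^ j * w * (n ^ j)⁻¹) u ∧ R (n ^ j * u * (n ^ j)⁻¹) (u * w)) ∧
      (j % 3 = 2 → R (n ^ j * w * (n ^ j)⁻¹) (u * w) ∧ R (n ^ j * u * (n ^ j)⁻¹) w) := by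
    intro j
    induction j with
    | zero =>
      refine ⟨fun _ => ?_, fun h => absurd h (by norm_num), fun h => absurd h (by norm_num)⟩
      simp only [pow_zero, one_mul, inv_one, mul_one]
      exact ⟨hRrefl hwT, hRrefl hu⟩
    | succ j ih =>
      obtain ⟨i0, i1, i2⟩ := ih
      rw [pow_succ']
      have hj : n ^ j ∈ N := pow_mem hn j
      refine ⟨fun h => ?_, fun h => ?_, fun h => ?_⟩
      · obtain ⟨p, q⟩ := i2 (by omega)
        exact ⟨hstep hj hwT huwT p hnuw, hstep hj hu hwT q hnw⟩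
      · obtain ⟨p, q⟩ := i0 (by omega)
        exact ⟨hstep hj hwT hwT p hnw, hstep hj hu hu q hnu⟩
      · obtain ⟨p, q⟩ := i1 (by omega)
        exact ⟨hstep hj hwT hu p hnu, hstep hj hu huwT q hnuw⟩
  -- a 3-element acting as a three-cycle
  obtain ⟨g, hgN, hgk, u', hu', hu'W, hgw, hgu⟩ : ∃ g ∈ N, g ^ 3 ^ k = 1 ∧ ∃ u' ∈ T0, u' ∉ W ∧
      R (g * w * g⁻¹) u' ∧ R (g * u' * g⁻¹) (u' * w) := by
    have hm3 : m % 3 = 1 ∨ m % 3 = 2 := by
      have : ¬ 3 ∣ m := (Nat.prime_three.coprime_iff_not_dvd).1 hm.symm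
      omega
    rcases hm3 with h | h
    · exact ⟨g, hgN, hk, u, hu, huW, (hpow m).2.1 h⟩
    · refine ⟨g, hgN, hk, u * w, huwT, huwW, ((hpow m).2.2 h).1, ?_⟩
      rw [mul_assoc u, B.T0_sq D w hwT, mul_one, hconjmul]
      obtain ⟨p, q⟩ := (hpow m).2.2 h
      have h1 : R (g * u * g⁻¹ * (g * w * g⁻¹)) (w * (u * w)) := by
        refine hRtrans (mul_mem (hNT hgN hu) (hNT hgN hwT)) (mul_mem hwT (hNT hgN hwT))
          (hRmulr (hNT hgN hu) hwT (hNT hgN hwT) q) ?_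
        have := hRmulr (hNT hgN hwT) huwT hwT p
        rwa [B.T0_comm D (hNT hgN hwT) hwT, B.T0_comm D huwT hwT] at this
      rwa [B.T0_comm D hu hwT, ← mul_assoc w w u, B.T0_sq D w hwT, one_mul] at h1
  -- the invariant four group
  set cu := g * u' * g⁻¹ with hcu
  set i := u' * cu with hi
  have hcuT : cu ∈ T0 := hNT hgN hu'
  have hiw : i * w ∈ X := by
    have h' : cu * (u' * w) ∈ X := hgu
    rwa [hi, B.T0_comm D hu' hcuT, mul_assoc]
  have hiT : i ∈ T0 := mul_mem hu' hcuT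
  have hiW : i ∈ W := by
    have e : i = i * w * w := by rw [mul_assoc, B.T0_sq D w hwT, mul_one]
    rw [e]
    exact mul_mem (hX.le hiw) hw
  have hiX : i ∉ X := fun h => hwX ((mul_mem_cancel_left h).1 hiw)
  set j := g * i * g⁻¹ with hj
  have hjT : j ∈ T0 := hNT hgN hiT
  have hjW : j ∉ W := by
    intro h
    have h1 : R j u' := hRtrans (hNT hgN hiT) (hNT hgN hwT) (hNR hgN hiT hwT hiw) hgw
    exact hu'W ((mul_mem_cancel_left h).1 (hX.le h1))
  have hg3 : ∀ y ∈ T0, g * (g * (g * y * g⁻¹) * g⁻¹) * g⁻¹ = y := by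
    intro y hy
    set g3 := g * g * g with hg3'
    have hg3N : g3 ∈ N := mul_mem (mul_mem hgN hgN) hgN
    set x := y * (g3 * y * g3⁻¹) with hx'
    have hx : x ∈ X := by
      have hR3 : ∀ z, z ∈ T0 → R z w ∨ R z u' → R z (g3 * z * g3⁻¹) := by
        intro z hz hcase
        have huw' : u' * w ∈ T0 := mul_mem hu' hwT
        have hguw : R (g * (u' * w) * g⁻¹) w := by
          rw [hconjmul]
          have h1 : R (g * u' * g⁻¹ * (g * w * g⁻¹)) (u' * w * u') := by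
            refine hRtrans (mul_mem (hNT hgN hu') (hNT hgN hwT)) (mul_mem huw' (hNT hgN hwT))
              (hRmulr (hNT hgN hu') huw' (hNT hgN hwT) hgu) ?_
            have := hRmulr (hNT hgN hwT) hu' huw' hgw
            rwa [B.T0_comm D (hNT hgN hwT) huw', B.T0_comm D hu' huw'] at this
          rwa [B.T0_comm D huw' hu', ← mul_assoc u' u' w, B.T0_sq D u' hu', one_mul] at h1
        have hcyc : ∀ {p q r s : G}, p ∈ T0 → q ∈ T0 → r ∈ T0 → R (g * p * g⁻¹) q → R (g * q * g⁻¹) r →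
            R (g * r * g⁻¹) s → R (g3 * p * g3⁻¹) s := by
          intro p q r s hp hq hr h1 h2 h3
          have e : g3 * p * g3⁻¹ = g * (g * (g * p * g⁻¹) * g⁻¹) * g⁻¹ := by rw [hg3']; group
          rw [e]
          exact hRtrans (hNT hgN (hNT hgN (hNT hgN hp))) (hNT hgN hr) (hNR hgN (hNT hgN (hNT hgN hp)) hr
            (hRtrans (hNT hgN (hNT hgN hp)) (hNT hgN hq) (hNR hgN (hNT hgN hp) hq h1) h2)) h3
        rcases hcase with h | h
        · exact hRtrans hz hwT h (hRsymm (hNT hg3N hz) hwT (hRtrans (hNT hg3N hz) (hNT hg3N hwT)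
            (hNR hg3N hz hwT h) (hcyc hwT hu' huw' hgw hgu hguw)))
        · exact hRtrans hz hu' h (hRsymm (hNT hg3N hz) hu' (hRtrans (hNT hg3N hz) (hNT hg3N hu')
            (hNR hg3N hz hu' h) (hcyc hu' huw' hwT hgu hguw hgw)))
      by_cases hyX : y ∈ X
      · rw [hx', hNX hg3N y hyX, B.T0_sq D y hy]; exact one_mem X
      by_cases hyW : y ∈ W
      · exact hR3 y hy (Or.inl (hyper_mul hX.le hX.card hyW hw hyX hwX))
      · have h1 := B.T0_mul_mem D hy hyW hu' hu'W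
        by_cases hyu : y * u' ∈ X
        · exact hR3 y hy (Or.inr hyu)
        · -- `y w` lies in the class of `u'`
          have hyw : y * w ∈ T0 := mul_mem hy hwT
          have h2 : R (y * w) u' := by
            show y * w * u' ∈ X
            rw [mul_assoc, B.T0_comm D hwT hu', ← mul_assoc]
            exact hyper_mul hX.le hX.card h1 hw hyu hwX
          have h3 := hR3 _ hyw (Or.inr h2)
          have h4 : R w (g3 * w * g3⁻¹) := hR3 w hwT (Or.inl (hRrefl hwT))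
          have h5 : y * w * (g3 * (y * w) * g3⁻¹) * (w * (g3 * w * g3⁻¹)) ∈ X := mul_mem h3 h4
          have hT2 := hNT hg3N hy
          have hT3 := hNT hg3N hwT
          rw [hconjmul] at h5
          have e : y * w * (g3 * y * g3⁻¹ * (g3 * w * g3⁻¹)) * (w * (g3 * w * g3⁻¹)) = y * (g3 * y * g3⁻¹) := by
            have c1 : ∀ p q : G, p ∈ T0 → q ∈ T0 → p * q = q * p := fun p q hp hq => B.T0_comm D hp hq
            calc y * w * (g3 * y * g3⁻¹ * (g3 * w * g3⁻¹)) * (w * (g3 * w * g3⁻¹))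
                = y * (w * (g3 * y * g3⁻¹)) * ((g3 * w * g3⁻¹) * w) * (g3 * w * g3⁻¹) := by
                  simp only [mul_assoc]
              _ = y * ((g3 * y * g3⁻¹) * w) * (w * (g3 * w * g3⁻¹)) * (g3 * w * g3⁻¹) := by
                  rw [c1 w _ hwT hT2, c1 _ w hT3 hwT]
              _ = y * (g3 * y * g3⁻¹) * (w * w) * ((g3 * w * g3⁻¹) * (g3 * w * g3⁻¹)) := by
                  simp only [mul_assoc]
              _ = _ := by rw [B.T0_sq D w hwT, B.T0_sq D _ hT3, mul_one, mul_one]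
          rwa [e] at h5
    have hyx : g3 * y * g3⁻¹ = y * x := by rw [hx', ← mul_assoc, B.T0_sq D y hy, one_mul]
    have hiter : ∀ l : ℕ, g3 ^ l * y * (g3 ^ l)⁻¹ = y * x ^ l := by
      intro l
      induction l with
      | zero => simp
      | succ l ih =>
        calc g3 ^ (l + 1) * y * (g3 ^ (l + 1))⁻¹ = g3 * (g3 ^ l * y * (g3 ^ l)⁻¹) * g3⁻¹ := by
              rw [pow_succ']; group
          _ = (g3 * y * g3⁻¹) * (g3 * x ^ l * g3⁻¹) := by rw [ih]; group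
          _ = y * x ^ (l + 1) := by rw [hyx, hNX hg3N _ (pow_mem hx l), mul_assoc, ← pow_succ']
    have h2 := hiter (3 ^ k)
    have hg3k : g3 ^ 3 ^ k = 1 := by
      rw [hg3', show g * g * g = g ^ 3 by simp [pow_succ, mul_assoc], ← pow_mul, mul_comm, pow_mul, hgk, one_pow]
    rw [hg3k, one_mul, inv_one, mul_one] at h2
    have hx1 : x ^ 3 ^ k = 1 := left_eq_mul.1 h2
    have hx2 : x = 1 := by
      obtain ⟨q, hq⟩ := (Nat.Coprime.pow_left k (by norm_num : Nat.Coprime 3 2) : (3 ^ k).Coprime 2)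
        |> Nat.coprime_two_right.1
      rw [hq, pow_succ, pow_mul, pow_two, F.sq x (hX.le hx), one_pow, one_mul] at hx1
      exact hx1
    have e : g * (g * (g * y * g⁻¹) * g⁻¹) * g⁻¹ = g3 * y * g3⁻¹ := by rw [hg3']; group
    rw [e, hyx, hx2, mul_one]
  have hgj : g * j * g⁻¹ = i * j := by
    set c2 := g * cu * g⁻¹ with hc2
    have hc2T : c2 ∈ T0 := hNT hgN hcuT
    have h3 : g * c2 * g⁻¹ = u' := hg3 u' hu'
    have hj2 : j = cu * c2 := by rw [hj, hi, hc2, hcu]; group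
    calc g * j * g⁻¹ = c2 * (g * c2 * g⁻¹) := by rw [hj2, hc2]; group
      _ = u' * c2 := by rw [h3, B.T0_comm D hc2T hu']
      _ = u' * (cu * cu) * c2 := by rw [B.T0_sq D cu hcuT, mul_one]
      _ = i * j := by rw [hi, hj2]; simp only [mul_assoc]
  -- the hyperplane through `i`
  obtain ⟨v', hv', hv'i⟩ : ∃ v' ∈ W, v' ∉ Subgroup.zpowers i := by
    by_contra h
    push Not at h
    have h1 := Subgroup.card_le_of_le (show W ≤ Subgroup.zpowers i from h)
    rw [Nat.card_zpowers] at h1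
    have := Nat.le_of_dvd two_pos (orderOf_dvd_of_pow_eq_one (show i ^ 2 = 1 by rw [pow_two, F.sq i hiW]))
    have := B.card
    omega
  obtain ⟨X'', hiX'', hX''W, hX''c, -⟩ := exists_hyper F.sq (Subgroup.zpowers_le.2 hiW) hv' hv'i
  have hX'' := B.good hX''W hX''c
  have hi'' : i ∈ X'' := hiX'' (Subgroup.mem_zpowers i)
  have hne : X'' ≠ X := fun e => hiX (e ▸ hi'')
  obtain ⟨w'', hw'', hw''X⟩ := F.exists_outside hX''
  obtain ⟨c, hc, hjc⟩ := hall X'' hX'' j hjT hjW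
  obtain ⟨-, -, hcc, hjwc, hwcfx, honly⟩ := B.fix_two D hX'' hjT hjW hw'' hw''X hc hjc
  set S : Set Ω := {d | d ∈ fx X'' Ω ∧ j • d = d} with hS
  have hdecomp : ∀ x ∈ X'', x ∈ X ∨ x * i ∈ X := fun x hx => by
    by_cases h : x ∈ X
    · exact Or.inl h
    · exact Or.inr (hyper_mul hX.le hX.card (hX''.le hx) hiW h hiX)
  have hginv : ∀ d ∈ S, g • d ∈ S := by
    rintro d ⟨hd, hjd⟩
    have hid : i • d = d := hd i hi''
    have hgY : ∀ x ∈ X'', x ∈ X → x • (g • d) = g • d := fun x hx hxX => by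
      have h := hNX hgN x hxX
      rw [← mul_smul, show x * g = g * x by rw [mul_inv_eq_iff_eq_mul] at h; exact h.symm, mul_smul, hd x hx]
    have hjgd : j • (g • d) = g • d := by
      rw [← mul_smul, show j * g = g * i by rw [hj]; group, mul_smul, hid]
    have hijgd : (i * j) • (g • d) = g • d := by
      rw [← hgj, ← mul_smul, show g * j * g⁻¹ * g = g * j by group, mul_smul, hjd]
    have higd : i • (g • d) = g • d := by rwa [mul_smul, hjgd] at hijgd
    refine ⟨fun x hx => ?_, hjgd⟩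
    rcases hdecomp x hx with h | h
    · exact hgY x hx h
    · have h1 := hgY (x * i) (mul_mem hx hi'') h
      rwa [mul_smul, higd] at h1
  have hScard : Nat.card ↥S = 2 := by
    rw [Nat.card_coe_set_eq, show S = {c, w'' • c} from ?_, Set.ncard_pair hcc.symm]
    ext d
    constructor
    · rintro ⟨hd, hjd⟩; exact honly d hd hjd
    · rintro (rfl | rfl)
      exacts [⟨hc, hjc⟩, ⟨hwcfx, hjwc⟩]
  by_cases hfree : ∀ d ∈ S, g • d ≠ d
  · have := dvd_card_of_free hginv hgk hfree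
    rw [hScard] at this
    omega
  push Not at hfree
  obtain ⟨d, -, hgd⟩ := hfree
  have hg1 : g ≠ 1 := fun e => hjW (by rw [hj, e]; simpa using hiW)
  obtain ⟨l, -, hl⟩ := (Nat.dvd_prime_pow Nat.prime_three).1 (orderOf_dvd_of_pow_eq_one hgk)
  have hl0 : l ≠ 0 := fun e => hg1 (orderOf_eq_one_iff.1 (by rw [hl, e, pow_zero]))
  exact F.three d ((dvd_pow_self 3 hl0).trans (hl ▸ Subgroup.orderOf_dvd_natCard _
    (mem_S1.2 ⟨(Subgroup.mem_inf.1 (Subgroup.mem_inf.1 hgN).1).1, hgd⟩)))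

/-- Goodness of the elements of `T₀ \ W` alternates between the cosets of `X`. -/
theorem gd_iff {X : Subgroup G} (hX : Good W X a b) {u v : G} (hu : u ∈ T0) (huW : u ∉ W) (hgu : Gd X Ω u)
    (hv : v ∈ T0) (hvW : v ∉ W) : Gd X Ω v ↔ u * v ∈ X := by
  refine ⟨B.not_both D hX hu huW hv hvW hgu, fun h => ?_⟩
  have := hgu.mul h
  rwa [← mul_assoc, B.T0_sq D u hu, one_mul] at this

theorem not_gd_mul {X : Subgroup G} (hX : Good W X a b) {u v : G} (hu : u ∈ T0) (huW : u ∉ W) (hgu : ¬ Gd X Ω u)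
    (hv : v ∈ T0) (hvW : v ∉ W) (hgv : ¬ Gd X Ω v) : u * v ∈ X := by
  obtain ⟨t, ht, htW, hgt⟩ := B.exists_gd D hX
  have h1 : t * u ∉ X := fun h => hgu ((B.gd_iff D hX ht htW hgt hu huW).2 h)
  have h2 : t * v ∉ X := fun h => hgv ((B.gd_iff D hX ht htW hgt hv hvW).2 h)
  have h3 := hyper_mul hX.le hX.card (B.T0_mul_mem D ht htW hu huW) (B.T0_mul_mem D ht htW hv hvW) h1 h2
  rwa [B.T0_comm D ht hu, mul_assoc, ← mul_assoc t, B.T0_sq D t ht, one_mul] at h3

end Big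

end Cfsg.Lib.Wagner
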