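import Cfsg.Agent.Lib.Wagner.Large

/-!
# `W` is its own centralizer in `P`

`P₀ = C_P(W)` and, for a hyperplane `X`, `Z X` is the kernel of the action of `P₀` on the fixed set of `X`.
-/

set_option autoImplicit false
set_option linter.unusedSectionVars false
set_option linter.style.haveILetI false

namespace Cfsg.Lib.Wagner

open MulAction Cfsg.Lib.Plane

universe u v

variable {G : Type u} [Group G] [Finite G] {Ω : Type v} [MulAction G Ω]

/-- The centralizer of `W` in `P`. -/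
def cP (P W : Subgroup G) : Subgroup G := P ⊓ Subgroup.centralizer (W : Set G)

theorem mem_cP {P W : Subgroup G} {g : G} : g ∈ cP P W ↔ g ∈ P ∧ ∀ u ∈ W, g * u = u * g := by
  rw [cP, Subgroup.mem_inf, Subgroup.mem_centralizer_iff]
  exact and_congr_right fun _ => ⟨fun h u hu => (h u hu).symm, fun h u hu => (h u hu).symm⟩

/-- The kernel of `C_P(W)` on the fixed set of `X`. -/
def ker0 (P W X : Subgroup G) (Ω : Type v) [MulAction G Ω] : Subgroup G :=
  cP P W ⊓ fixingSubgroup G (fx X Ω)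

theorem mem_ker0 {P W X : Subgroup G} {g : G} :
    g ∈ ker0 P W X Ω ↔ g ∈ cP P W ∧ ∀ d ∈ fx X Ω, g • d = d := by
  rw [ker0, Subgroup.mem_inf, mem_fixingSubgroup_iff]

namespace Frame

variable {H : Subgroup G} {a b : Ω} {P W : Subgroup G} (F : Frame H a b P W)
include F

theorem cP_le : cP P W ≤ P := inf_le_left

theorem le_cP : W ≤ cP P W := fun u hu => mem_cP.2 ⟨F.le hu, fun v hv => F.comm u hu v hv⟩

theorem le_ker0 {X : Subgroup G} (hX : Good W X a b) : X ≤ ker0 P W X Ω := fun u hu =>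
  mem_ker0.2 ⟨F.le_cP (hX.le hu), fun _ hd => hd u hu⟩

theorem ker0_le_cP (X : Subgroup G) : ker0 P W X Ω ≤ cP P W := inf_le_left

theorem cP_X {X : Subgroup G} (hX : Good W X a b) : ∀ q ∈ cP P W, ∀ u ∈ X, q * u = u * q :=
  fun _ hq u hu => (mem_cP.1 hq).2 u (hX.le hu)

theorem semireg (C : Ctx H Ω) {X : Subgroup G} (hX : Good W X a b) {q : G} (hq : q ∈ cP P W) {c : Ω}
    (hc : c ∈ fx X Ω) (hca : c ≠ a) (hcb : c ≠ b) (hqc : q • c = c) : q ∈ ker0 P W X Ω :=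
  mem_ker0.2 ⟨hq, (F.good_affine C hX (F.syl.isPGroup.to_le F.cP_le) (F.cP_le.trans F.syl.le) (F.cP_X hX)).2
    q hq c hc hca hcb hqc⟩

theorem fx_ker0 {X : Subgroup G} (hX : Good W X a b) : fx (ker0 P W X Ω) Ω = fx X Ω :=
  Set.Subset.antisymm (fun _ hd u hu => hd u (F.le_ker0 hX hu)) fun _ hd _ hu => (mem_ker0.1 hu).2 _ hd

/-- `C_P(X) = C_P(W)` for a good hyperplane. -/
theorem cP_of_centralizes (C : Ctx H Ω) (hI : Below.{v} (Nat.card Ω)) (hT : ¬ Two H Ω) {X : Subgroup G}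
    (hX : Good W X a b) {q : G} (hq : q ∈ P) (hqX : ∀ u ∈ X, q * u = u * q) : q ∈ cP P W :=
  mem_cP.2 ⟨hq, F.transv C hI hT (S2_le_pairStab H a b (F.syl.le hq)) (F.char q (cj_eq_self fun u hu =>
    mul_mem (mul_mem hq hu) (inv_mem hq))) hX hqX⟩

/-- The 2-subgroups centralizing a good hyperplane in the two-point stabilizer. -/
theorem card_le_cP (C : Ctx H Ω) (hI : Below.{v} (Nat.card Ω)) (hT : ¬ Two H Ω) {X : Subgroup G}
    (hX : Good W X a b) {R : Subgroup G} (hR : IsPGroup 2 R) (hRS : R ≤ S2 H a b)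
    (hRX : ∀ r ∈ R, ∀ u ∈ X, r * u = u * r) : Nat.card R ≤ Nat.card (cP P W) := by
  haveI : Fact (Nat.Prime 2) := ⟨Nat.prime_two⟩
  set C0 := S2 H a b ⊓ Subgroup.centralizer (X : Set G) with hC0
  have hWC : W ≤ C0 := fun w hw => Subgroup.mem_inf.2 ⟨F.W_le_S2 hw,
    Subgroup.mem_centralizer_iff.2 fun u hu => (F.comm w hw u (hX.le hu)).symm⟩
  obtain ⟨R', hR', hWR'⟩ := exists_isSyl_ge 2 F.W_pgroup hWC
  obtain ⟨d, hd, hdle⟩ := exists_cj_le hR' hR (show R ≤ C0 from fun r hr =>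
    Subgroup.mem_inf.2 ⟨hRS hr, Subgroup.mem_centralizer_iff.2 fun u hu => (hRX r hr u hu).symm⟩)
  obtain ⟨k, hk, hkW, hkP⟩ := F.exists_conj_of_ge hR'.isPGroup
    (hR'.le.trans (inf_le_left.trans (S2_le_S1 H a b))) hWR'
  have hk2 := F.normalizer_fix hk hkW
  have hX' := F.good_map hkW (Or.inl (mem_S2.1 hk2).2) hX
  refine le_trans ?_ (Subgroup.card_le_of_le (H := cj k R') (fun x hx => F.cP_of_centralizes C hI hT hX' (hkP hx) ?_))
  · rw [card_cj, ← card_cj d R]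
    exact Subgroup.card_le_of_le hdle
  · intro u hu
    rw [mem_cj] at hx hu
    have h := Subgroup.mem_centralizer_iff.1 (Subgroup.mem_inf.1 (hR'.le hx)).2 _ hu
    calc x * u = k * ((k⁻¹ * x * k) * (k⁻¹ * u * k)) * k⁻¹ := by group
      _ = k * ((k⁻¹ * u * k) * (k⁻¹ * x * k)) * k⁻¹ := by rw [h]
      _ = u * x := by group

/-- The kernels meet trivially. -/
theorem ker0_inter (C : Ctx H Ω) (hI : Below.{v} (Nat.card Ω)) (hT : ¬ Two H Ω) {q : G} (hq : q ∈ cP P W)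
    (h : ∀ X, Good W X a b → q ∈ ker0 P W X Ω) : q = 1 := by
  let K : Subgroup G :=
    { carrier := {q | q ∈ cP P W ∧ ∀ X, Good W X a b → q ∈ ker0 P W X Ω}
      one_mem' := ⟨one_mem _, fun X _ => one_mem _⟩
      mul_mem' := fun hx hy => ⟨mul_mem hx.1 hy.1, fun X hX => mul_mem (hx.2 X hX) (hy.2 X hX)⟩
      inv_mem' := fun hx => ⟨inv_mem hx.1, fun X hX => inv_mem (hx.2 X hX)⟩ }
  have hnorm : ∀ g ∈ P, cj g K = K := by
    intro g hg
    have hgW : cj g W = W := F.char g (cj_eq_self fun u hu => mul_mem (mul_mem hg hu) (inv_mem hg))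
    obtain ⟨-, hga, hgb⟩ := mem_S2.1 (F.syl.le hg)
    have hgW' : cj g⁻¹ W = W := by
      conv_lhs => rw [← hgW]
      rw [cj_cj, inv_mul_cancel, cj_one]
    refine cj_eq_self fun x hx => ?_
    have hmem : g * x * g⁻¹ ∈ cP P W := mem_cP.2 ⟨mul_mem (mul_mem hg (F.cP_le hx.1)) (inv_mem hg), fun u hu => by
      have hu' : g⁻¹ * u * g ∈ W := by rw [← mem_cj, hgW]; exact hu
      calc g * x * g⁻¹ * u = g * (x * (g⁻¹ * u * g)) * g⁻¹ := by group
        _ = g * ((g⁻¹ * u * g) * x) * g⁻¹ := by rw [(mem_cP.1 hx.1).2 _ hu']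
        _ = u * (g * x * g⁻¹) := by group⟩
    refine ⟨hmem, fun X hX => mem_ker0.2 ⟨hmem, fun d hd => ?_⟩⟩
    have hX' := F.good_map hgW' (Or.inl ⟨inv_smul_eq_iff.2 hga.symm, inv_smul_eq_iff.2 hgb.symm⟩) hX
    have h1 := (mem_ker0.1 (hx.2 _ hX')).2 (g⁻¹ • d) (by rw [mem_fx_cj, inv_inv, smul_inv_smul]; exact hd)
    rw [mul_smul, mul_smul, h1, smul_inv_smul]
  by_contra hq1
  obtain ⟨u, hu, hu1, hu2, huc⟩ := exists_central_invol F.syl.isPGroup (K := K) (fun x hx => F.cP_le hx.1)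
    (fun e => hq1 (Subgroup.mem_bot.1 (e ▸ (show q ∈ K from ⟨hq, h⟩)))) hnorm
  have huW : u ∈ W := F.omega u (F.cP_le hu.1) huc hu2
  refine hu1 ((F.all_good C hI hT).2 u huW fun X hX => ?_)
  obtain ⟨c, hc, hca, hcb⟩ := hX.fix
  rw [← F.good_eq hX hc hca hcb]
  exact Subgroup.mem_inf.2 ⟨huW, (mem_ker0.1 (hu.2 X hX)).2 c hc⟩

theorem cP_comm (C : Ctx H Ω) (hI : Below.{v} (Nat.card Ω)) (hT : ¬ Two H Ω) {p q : G} (hp : p ∈ cP P W)
    (hq : q ∈ cP P W) : p * q = q * p := by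
  have hmem : p * q * p⁻¹ * q⁻¹ ∈ cP P W := mul_mem (mul_mem (mul_mem hp hq) (inv_mem hp)) (inv_mem hq)
  suffices h : p * q * p⁻¹ * q⁻¹ = 1 by
    rw [mul_inv_eq_one, mul_inv_eq_iff_eq_mul] at h
    exact h
  refine F.ker0_inter C hI hT hmem fun X hX => mem_ker0.2 ⟨hmem, fun d hd => ?_⟩
  obtain ⟨hcyc, -⟩ := F.good_affine C hX (F.syl.isPGroup.to_le F.cP_le) (F.cP_le.trans F.syl.le) (F.cP_X hX)
  have hn : ∀ g ∈ cP P W, g ∈ Subgroup.normalizer (X : Set G) := fun g hg =>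
    mem_normalizer_of_commute (F.cP_X hX g hg)
  haveI := hcyc
  letI := IsCyclic.commGroup (α := img X Ω (cP P W))
  have h1 := congrArg Subtype.val (mul_comm
    (⟨_, mem_img_of hp (hn p hp)⟩ : img X Ω (cP P W)) ⟨_, mem_img_of hq (hn q hq)⟩)
  simp only [Subgroup.coe_mul] at h1
  rw [← map_mul, ← map_mul] at h1
  have h2 : ∀ e ∈ fx X Ω, (p * q) • e = (q * p) • e := fun e he =>
    congrArg (fun σ : Equiv.Perm ↥(fxSub X Ω) => ((σ ⟨e, he⟩ : ↥(fxSub X Ω)) : Ω)) h1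
  have hd' : p⁻¹ • q⁻¹ • d ∈ fx X Ω := by
    rw [← mul_smul]
    exact smul_mem_fx_of_commute (fun u hu => F.cP_X hX _ (mul_mem (inv_mem hp) (inv_mem hq)) u hu) hd
  have h3 := h2 _ hd'
  simp only [mul_smul] at h3 ⊢
  rw [h3, smul_inv_smul, smul_inv_smul]

/-- The structure of `T₀`, a Sylow 2-subgroup of the centralizer of `W` in the pair stabilizer. -/
theorem exists_T0 (C : Ctx H Ω) (hI : Below.{v} (Nat.card Ω)) (hT : ¬ Two H Ω) :
    ∃ T0 : Subgroup G, IsSyl 2 T0 (pairStab H a b ⊓ Subgroup.centralizer (W : Set G)) ∧ cP P W ≤ T0 ∧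
      T0 ⊓ S2 H a b = cP P W := by
  haveI : Fact (Nat.Prime 2) := ⟨Nat.prime_two⟩
  obtain ⟨X, hX⟩ := F.exists_good C
  obtain ⟨T0, hT0, hle⟩ := exists_isSyl_ge 2 (F.syl.isPGroup.to_le F.cP_le)
    (show cP P W ≤ pairStab H a b ⊓ Subgroup.centralizer (W : Set G) from
      le_inf (F.cP_le.trans (F.syl.le.trans (S2_le_pairStab H a b))) inf_le_right)
  refine ⟨T0, hT0, hle, (Subgroup.eq_of_le_of_card_ge (le_inf hle (F.cP_le.trans F.syl.le)) ?_).symm⟩
  refine F.card_le_cP C hI hT hX (hT0.isPGroup.to_le inf_le_left) inf_le_right fun r hr u hu => ?_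
  exact (Subgroup.mem_centralizer_iff.1 (Subgroup.mem_inf.1 (hT0.le (Subgroup.mem_inf.1 hr).1)).2 u (hX.le hu)).symm

/-- A swapping involution of `T₀` attached to a good hyperplane. -/
theorem exists_wX (C : Ctx H Ω) (hI : Below.{v} (Nat.card Ω)) (hT : ¬ Two H Ω) {T0 : Subgroup G}
    (hT0 : IsSyl 2 T0 (pairStab H a b ⊓ Subgroup.centralizer (W : Set G)))
    (hS2 : T0 ⊓ S2 H a b = cP P W) {X : Subgroup G} (hX : Good W X a b) :
    ∃ t ∈ T0, ∃ e f : Ω, t • a = b ∧ t * t = 1 ∧ e ∈ fx X Ω ∧ e ≠ a ∧ e ≠ b ∧ f ∈ fx X Ω ∧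
      f ≠ a ∧ f ≠ b ∧ t • e = e ∧ t • f = f ∧ e ≠ f ∧
      (∀ x ∈ fx X Ω, t • x = x → x = e ∨ x = f) ∧ ∀ u ∈ ker0 P W X Ω, t * u = u * t := by
  haveI : Fact (Nat.Prime 2) := ⟨Nat.prime_two⟩
  haveI := C.normal
  obtain ⟨c, hc, hca, hcb⟩ := hX.fix
  obtain ⟨w, hw, hwX⟩ := F.exists_outside hX
  obtain ⟨s, h, hsp, hsa, hs2, hsc, hsW, hhH, hhc, hsh, hfix, hha, hha1, hha2⟩ :=
    F.exists_swap C hX.le (fun x hx hxa hxb => F.good_eq hX hx hxa hxb) hc hca hcb hw hwX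
  obtain ⟨hwH, hwa, hwb⟩ := mem_S2.1 (F.W_le_S2 hw)
  have hsWc : ∀ u ∈ W, s * u = u * s := F.transv C hI hT hsp hsW hX hsc
  set K1 := pairStab H a b ⊓ Subgroup.centralizer (W : Set G) with hK1
  have hsK : s ∈ K1 := Subgroup.mem_inf.2 ⟨hsp, Subgroup.mem_centralizer_iff.2 fun u hu => (hsWc u hu).symm⟩
  have hsb : s • b = a := by rw [← hsa, ← mul_smul, hs2, one_smul]
  obtain ⟨k₁, hk₁, hk₁T⟩ := exists_cj_le hT0
    (show IsPGroup 2 (Subgroup.zpowers s) from by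
      obtain ⟨j, -, hj⟩ := (Nat.dvd_prime_pow Nat.prime_two).1
        (orderOf_dvd_of_pow_eq_one (show s ^ 2 ^ 1 = 1 by rw [pow_one, pow_two, hs2]))
      exact IsPGroup.of_card (n := j) (by rw [Nat.card_zpowers, hj]))
    (Subgroup.zpowers_le.2 hsK)
  obtain ⟨k, hk, hkT⟩ : ∃ k ∈ S2 H a b ⊓ Subgroup.centralizer (W : Set G), k * s * k⁻¹ ∈ T0 := by
    have hin := hk₁T (conj_mem_cj (Subgroup.mem_zpowers s))
    obtain ⟨hk₁m, hk₁c⟩ := Subgroup.mem_inf.1 hk₁
    rcases (mem_pairStab.1 hk₁m).2 with h1 | h1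
    · exact ⟨k₁, Subgroup.mem_inf.2 ⟨mem_S2.2 ⟨(mem_pairStab.1 hk₁m).1, h1⟩, hk₁c⟩, hin⟩
    · refine ⟨k₁ * s, Subgroup.mem_inf.2 ⟨mem_S2.2 ⟨mul_mem (mem_pairStab.1 hk₁m).1 (mem_pairStab.1 hsp).1,
        by rw [mul_smul, hsa, h1.2], by rw [mul_smul, hsb, h1.1]⟩,
        mul_mem hk₁c (Subgroup.mem_inf.1 hsK).2⟩, ?_⟩
      rwa [show k₁ * s * s * (k₁ * s)⁻¹ = k₁ * s * k₁⁻¹ by group]
  obtain ⟨hkS, hkC⟩ := Subgroup.mem_inf.1 hk
  obtain ⟨hkH, hka, hkb⟩ := mem_S2.1 hkS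
  have hkc : ∀ u ∈ W, k * u = u * k := fun u hu => (Subgroup.mem_centralizer_iff.1 hkC u hu).symm
  set h' := k * h with hh'
  set t := k * s * k⁻¹ with ht
  have hth : t = h' * w * h'⁻¹ := by rw [ht, hsh, hh']; group
  have hh'c : ∀ u ∈ X, h' * u = u * h' := fun u hu =>
    ((show Commute k u from hkc u (hX.le hu)).mul_left (show Commute h u from hhc u hu)).eq
  have hta : t • a = b := by rw [ht, mul_smul, mul_smul, inv_smul_eq_iff.2 hka.symm, hsa, hkb]
  have htb : t • b = a := by rw [ht, mul_smul, mul_smul, inv_smul_eq_iff.2 hkb.symm, hsb, hka]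
  have hte : t • (h' • a) = h' • a := by rw [hth, mul_smul, mul_smul, inv_smul_smul, hwa]
  have htf : t • (h' • b) = h' • b := by rw [hth, mul_smul, mul_smul, inv_smul_smul, hwb]
  have hne : ∀ x : Ω, t • x = x → x ≠ a ∧ x ≠ b := fun x hx =>
    ⟨fun e => F.ne.symm (by rw [← hta, ← e, hx, e]), fun e => F.ne (by rw [← htb, ← e, hx, e])⟩
  refine ⟨t, hkT, h' • a, h' • b, hta, ?_, smul_mem_fx_of_commute hh'c (F.good_mem_a hX), (hne _ hte).1,
    (hne _ hte).2, smul_mem_fx_of_commute hh'c (F.good_mem_b hX), (hne _ htf).1, (hne _ htf).2, hte, htf,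
    fun e => F.ne (MulAction.injective h' e), fun x hx hfx => ?_, fun u hu => ?_⟩
  · rw [hth, show h' * w * h'⁻¹ * (h' * w * h'⁻¹) = h' * (w * w) * h'⁻¹ by group, F.sq w hw, mul_one,
      mul_inv_cancel]
  · have hx' : h'⁻¹ • x ∈ fx X Ω := smul_mem_fx_of_commute
      (fun u hu => ((show Commute h' u from hh'c u hu).inv_left).eq) hx
    have hfix' : w • h'⁻¹ • x = h'⁻¹ • x := by
      rw [hth, mul_smul, mul_smul] at hfx
      exact MulAction.injective h' (hfx.trans (smul_inv_smul h' x).symm)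
    rcases F.outside_fix hX hw hwX hx' hfix' with h1 | h1
    exacts [Or.inl (inv_smul_eq_iff.1 h1), Or.inr (inv_smul_eq_iff.1 h1)]
  -- `t` centralizes the kernel
  obtain ⟨huP, hufix⟩ := mem_ker0.1 hu
  set u' := h'⁻¹ * u * h' with hu'
  have hea : h' • a ∈ fx X Ω := smul_mem_fx_of_commute hh'c (F.good_mem_a hX)
  have heb : h' • b ∈ fx X Ω := smul_mem_fx_of_commute hh'c (F.good_mem_b hX)
  set L := cj h'⁻¹ (T0 ⊓ S2 H (h' • a) (h' • b)) with hL
  have hh'H : h' ∈ H := mul_mem hkH hhH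
  have hLS : L ≤ S2 H a b := by
    have := cj_mono (g := h'⁻¹) (inf_le_right : T0 ⊓ S2 H (h' • a) (h' • b) ≤ _)
    rwa [cj_S2, inv_smul_smul, inv_smul_smul] at this
  have hLp : IsPGroup 2 L := cj_pgroup (hT0.isPGroup.to_le inf_le_left)
  have hinL : ∀ x : G, x ∈ T0 → x ∈ H → x • (h' • a) = h' • a → x • (h' • b) = h' • b → h'⁻¹ * x * h' ∈ L :=
    fun x hxT hxH hxa hxb => by
      rw [hL, mem_cj, inv_inv, show h' * (h'⁻¹ * x * h') * h'⁻¹ = x by group]
      exact Subgroup.mem_inf.2 ⟨hxT, mem_S2.2 ⟨hxH, hxa, hxb⟩⟩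
  have hcT : cP P W ≤ T0 := hS2 ▸ inf_le_left
  have hWL : W ≤ L := by
    intro y hy
    by_cases hyX : y ∈ X
    · have h1 := hinL y (hcT (F.le_cP hy)) (mem_S2.1 (F.W_le_S2 hy)).1 (hea y hyX) (heb y hyX)
      rwa [mul_assoc, ← hh'c y hyX, inv_mul_cancel_left] at h1
    · have hyw : y * w ∈ X := hyper_mul hX.le hX.card hy hw hyX hwX
      have h1 := hinL t hkT (by rw [hth]; exact mul_mem (mul_mem hh'H hwH) (inv_mem hh'H)) hte htf
      rw [hth, show h'⁻¹ * (h' * w * h'⁻¹) * h' = w by group] at h1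
      have h2 := hinL (y * w) (hcT (F.le_cP (hX.le hyw))) (mem_S2.1 (F.W_le_S2 (hX.le hyw))).1 (hea _ hyw)
        (heb _ hyw)
      rw [mul_assoc, ← hh'c _ hyw, inv_mul_cancel_left] at h2
      have := mul_mem h2 h1
      rwa [mul_assoc, F.sq w hw, mul_one] at this
  have huH : u ∈ H := (mem_S2.1 (F.syl.le (F.cP_le huP))).1
  have hu'L : u' ∈ L := hinL u (hcT huP) huH (hufix _ hea) (hufix _ heb)
  have hu'S : u' ∈ S2 H a b := hLS hu'L
  have hu'X : ∀ v ∈ X, u' * v = v * u' := fun v hv => by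
    have h1 : Commute h' v := hh'c v hv
    exact ((h1.inv_left.mul_left (show Commute u v from F.cP_X hX u huP v hv)).mul_left h1).eq
  have hwconj : u' * w * u'⁻¹ ∈ W := F.strong hLp (hLS.trans (S2_le_S1 H a b)) hWL (S2_le_S1 H a b hu'S) hw
    (mul_mem (mul_mem hu'L (hWL hw)) (inv_mem hu'L))
  have hu'W : cj u' W = W := cj_eq_self fun y hy => by
    by_cases hyX : y ∈ X
    · rw [hu'X y hyX, mul_inv_cancel_right]; exact hy
    · have hyw := hyper_mul hX.le hX.card hy hw hyX hwX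
      have e : u' * y * u'⁻¹ = (y * w) * (u' * w * u'⁻¹) := by
        have hy' : y = y * w * w := by rw [mul_assoc, F.sq w hw, mul_one]
        conv_lhs => rw [hy']
        calc u' * (y * w * w) * u'⁻¹ = (u' * (y * w)) * w * u'⁻¹ := by group
          _ = _ := by rw [hu'X _ hyw]; group
      rw [e]
      exact mul_mem (hX.le hyw) hwconj
  have hcomm := F.transv C hI hT (S2_le_pairStab H a b hu'S) hu'W hX hu'X w hw
  calc t * u = h' * (w * u') * h'⁻¹ := by rw [hth, hu']; group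
    _ = h' * (u' * w) * h'⁻¹ := by rw [hcomm]
    _ = u * t := by rw [hth, hu']; group

theorem ker0_sq (C : Ctx H Ω) (hI : Below.{v} (Nat.card Ω)) (hT : ¬ Two H Ω) {X : Subgroup G}
    (hX : Good W X a b) {y : G} (hy : y ∈ ker0 P W X Ω) : y * y = 1 := by
  obtain ⟨T0, hT0, hle, hS2⟩ := F.exists_T0 C hI hT
  have hy0 := F.ker0_le_cP X hy
  refine F.ker0_inter C hI hT (mul_mem hy0 hy0) fun X' hX' => ?_
  obtain ⟨t, htT, e₁, f₁, hta, ht2, -, -, -, -, -, -, -, -, -, -, hty⟩ := F.exists_wX C hI hT hT0 hS2 hX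
  obtain ⟨s, hsT, e, f, hsa, hs2, he, hea, heb, hf, hfa, hfb, hse, hsf, hef, hfix, -⟩ :=
    F.exists_wX C hI hT hT0 hS2 hX'
  have htb : t • b = a := by rw [← hta, ← mul_smul, ht2, one_smul]
  have hsb : s • b = a := by rw [← hsa, ← mul_smul, hs2, one_smul]
  have hp : t⁻¹ * s ∈ cP P W := by
    rw [← hS2]
    refine Subgroup.mem_inf.2 ⟨mul_mem (inv_mem htT) hsT, mem_S2.2 ⟨?_, ?_, ?_⟩⟩
    · exact mul_mem (inv_mem (mem_pairStab.1 (Subgroup.mem_inf.1 (hT0.le htT)).1).1)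
        (mem_pairStab.1 (Subgroup.mem_inf.1 (hT0.le hsT)).1).1
    · rw [mul_smul, hsa, inv_smul_eq_iff, hta]
    · rw [mul_smul, hsb, inv_smul_eq_iff, htb]
  have hsy : s * y = y * s := by
    calc s * y = t * ((t⁻¹ * s) * y) := by group
      _ = t * (y * (t⁻¹ * s)) := by rw [F.cP_comm C hI hT hp hy0]
      _ = (t * y) * t⁻¹ * s := by group
      _ = y * s := by rw [hty y hy]; group
  have hy2 : (y * y) • e = e := by
    have h1 : ∀ d ∈ fx X' Ω, s • d = d → y • d = e ∨ y • d = f := fun d hd hsd =>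
      hfix _ (smul_mem_fx_of_commute (F.cP_X hX' y hy0) hd) (by rw [← mul_smul, hsy, mul_smul, hsd])
    rw [mul_smul]
    rcases h1 e he hse with h | h
    · rw [h, h]
    · rw [h]
      rcases h1 f hf hsf with h' | h'
      · exact h'
      · exact absurd (MulAction.injective y (h.trans h'.symm)) hef
  exact F.semireg C hX' (mul_mem hy0 hy0) he hea heb hy2

theorem cP_sq (C : Ctx H Ω) (hI : Below.{v} (Nat.card Ω)) (hT : ¬ Two H Ω) (hW : 4 ≤ Nat.card W) {y : G}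
    (hy : y ∈ cP P W) : y * y = 1 := by
  by_contra hne
  let Q : Subgroup G :=
    { carrier := {g | ∃ y ∈ cP P W, y * y = g}
      one_mem' := ⟨1, one_mem _, one_mul 1⟩
      mul_mem' := by
        rintro _ _ ⟨p, hp, rfl⟩ ⟨q, hq, rfl⟩
        refine ⟨p * q, mul_mem hp hq, ?_⟩
        rw [mul_assoc p, ← mul_assoc q, ← F.cP_comm C hI hT hp hq, mul_assoc p q, ← mul_assoc p]
      inv_mem' := by
        rintro _ ⟨p, hp, rfl⟩
        exact ⟨p⁻¹, inv_mem hp, by group⟩ }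
  have hQn : ∀ g ∈ P, cj g Q = Q := fun g hg => cj_eq_self (by
    rintro _ ⟨p, hp, rfl⟩
    refine ⟨g * p * g⁻¹, mem_cP.2 ⟨mul_mem (mul_mem hg (F.cP_le hp)) (inv_mem hg), fun u hu => ?_⟩, by group⟩
    have hgW : cj g W = W := F.char g (cj_eq_self fun u hu => mul_mem (mul_mem hg hu) (inv_mem hg))
    have hu' : g⁻¹ * u * g ∈ W := by rw [← mem_cj, hgW]; exact hu
    calc g * p * g⁻¹ * u = g * (p * (g⁻¹ * u * g)) * g⁻¹ := by group
      _ = g * ((g⁻¹ * u * g) * p) * g⁻¹ := by rw [(mem_cP.1 hp).2 _ hu']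
      _ = u * (g * p * g⁻¹) := by group)
  obtain ⟨u, ⟨q, hq, hqu⟩, hu1, hu2, huc⟩ := exists_central_invol F.syl.isPGroup (K := Q)
    (by rintro _ ⟨p, hp, rfl⟩; exact F.cP_le (mul_mem hp hp))
    (fun e => hne (Subgroup.mem_bot.1 (e ▸ (show y * y ∈ Q from ⟨y, hy, rfl⟩)))) hQn
  have hu0 : u ∈ cP P W := hqu ▸ mul_mem hq hq
  have huW : u ∈ W := F.omega u (F.cP_le hu0) huc hu2
  -- a hyperplane through `u`
  obtain ⟨v, hv, hvu⟩ : ∃ v ∈ W, v ∉ Subgroup.zpowers u := by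
    by_contra h
    push Not at h
    have h1 := Subgroup.card_le_of_le (show W ≤ Subgroup.zpowers u from h)
    rw [Nat.card_zpowers] at h1
    have := Nat.le_of_dvd two_pos (orderOf_dvd_of_pow_eq_one (show u ^ 2 = 1 by rw [pow_two, hu2]))
    omega
  obtain ⟨X, huX, hXW, hXc, -⟩ := exists_hyper F.sq (Subgroup.zpowers_le.2 huW) hv hvu
  have hX := (F.all_good C hI hT).1 X hXW hXc
  obtain ⟨w, hw, hwX⟩ := F.exists_outside hX
  obtain ⟨hcyc, -⟩ := F.good_affine C hX (F.syl.isPGroup.to_le F.cP_le) (F.cP_le.trans F.syl.le) (F.cP_X hX)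
  haveI := hcyc
  haveI := C.finite
  have hn : ∀ g ∈ cP P W, g ∈ Subgroup.normalizer (X : Set G) := fun g hg =>
    mem_normalizer_of_commute (F.cP_X hX g hg)
  have hfix : ∀ g (hg : g ∈ cP P W), (∀ d ∈ fx X Ω, g • d = d) →
      (⟨_, mem_img_of (Ω := Ω) hg (hn g hg)⟩ : img X Ω (cP P W)) = 1 := fun g hg h =>
    Subtype.ext (Equiv.ext fun d => Subtype.ext (h d.1 d.2))
  have hun : ∀ g (hg : g ∈ cP P W), (⟨_, mem_img_of (Ω := Ω) hg (hn g hg)⟩ : img X Ω (cP P W)) = 1 →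
      ∀ d ∈ fx X Ω, g • d = d := fun g hg h d hd =>
    congrArg (fun σ : img X Ω (cP P W) => (((σ : Equiv.Perm ↥(fxSub X Ω)) ⟨d, hd⟩ : ↥(fxSub X Ω)) : Ω)) h
  have hmul : ∀ g k (hg : g ∈ cP P W) (hk : k ∈ cP P W),
      (⟨_, mem_img_of (Ω := Ω) hg (hn g hg)⟩ : img X Ω (cP P W)) * ⟨_, mem_img_of hk (hn k hk)⟩ =
        ⟨_, mem_img_of (mul_mem hg hk) (hn _ (mul_mem hg hk))⟩ := fun g k hg hk =>
    Subtype.ext (map_mul (fxHom X Ω) ⟨g, hn g hg⟩ ⟨k, hn k hk⟩).symm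
  have hqsq := hfix (q * q) (mul_mem hq hq) (hqu ▸ fun d hd => hd u (huX (Subgroup.mem_zpowers u)))
  rw [← hmul q q hq hq] at hqsq
  have hw0 := F.le_cP hw
  have hwsq := hfix (w * w) (mul_mem hw0 hw0) (fun d _ => by rw [F.sq w hw, one_smul])
  rw [← hmul w w hw0 hw0] at hwsq
  refine hu1 ?_
  rcases cyclic_two hqsq hwsq with h | h | h
  · rw [← hqu]
    exact F.ker0_sq C hI hT hX (mem_ker0.2 ⟨hq, hun q hq h⟩)
  · obtain ⟨c, hc, hca, hcb⟩ := hX.fix
    rcases F.outside_fix hX hw hwX hc (hun w hw0 h c hc) with h' | h'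
    exacts [absurd h' hca, absurd h' hcb]
  · have hqw : (⟨_, mem_img_of (Ω := Ω) (mul_mem hq hw0) (hn _ (mul_mem hq hw0))⟩ : img X Ω (cP P W)) = 1 := by
      rw [← hmul q w hq hw0, h, hwsq]
    have h' := F.ker0_sq C hI hT hX (mem_ker0.2 ⟨mul_mem hq hw0, hun _ (mul_mem hq hw0) hqw⟩)
    rw [← hqu]
    calc q * q = q * q * (w * w) := by rw [F.sq w hw, mul_one]
      _ = q * ((q * w) * w) := by group
      _ = q * ((w * q) * w) := by rw [F.cP_comm C hI hT hq hw0]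
      _ = q * w * (q * w) := by group
      _ = 1 := h'

theorem card_cP_le_ker0 (C : Ctx H Ω) (hI : Below.{v} (Nat.card Ω)) (hT : ¬ Two H Ω) (hW : 4 ≤ Nat.card W)
    {X : Subgroup G} (hX : Good W X a b) : Nat.card (cP P W) ≤ 2 * Nat.card (ker0 P W X Ω) := by
  classical
  obtain ⟨w, hw, hwX⟩ := F.exists_outside hX
  obtain ⟨hcyc, -⟩ := F.good_affine C hX (F.syl.isPGroup.to_le F.cP_le) (F.cP_le.trans F.syl.le) (F.cP_X hX)
  haveI := hcyc
  haveI := C.finite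
  have hn : ∀ g ∈ cP P W, g ∈ Subgroup.normalizer (X : Set G) := fun g hg =>
    mem_normalizer_of_commute (F.cP_X hX g hg)
  have hw0 := F.le_cP hw
  have hcase : ∀ q ∈ cP P W, q ∈ ker0 P W X Ω ∨ q * w ∈ ker0 P W X Ω := by
    intro q hq
    have hsq : ∀ g (hg : g ∈ cP P W), (⟨_, mem_img_of (Ω := Ω) hg (hn g hg)⟩ : img X Ω (cP P W)) *
        ⟨_, mem_img_of hg (hn g hg)⟩ = 1 := fun g hg => Subtype.ext (by
      show fxHom X Ω ⟨g, hn g hg⟩ * fxHom X Ω ⟨g, hn g hg⟩ = 1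
      rw [← map_mul]
      convert map_one (fxHom X Ω)
      exact Subtype.ext (F.cP_sq C hI hT hW hg))
    rcases cyclic_two (hsq q hq) (hsq w hw0) with h | h | h
    · exact Or.inl (mem_ker0.2 ⟨hq, fun d hd =>
        congrArg (fun σ : img X Ω (cP P W) => (((σ : Equiv.Perm ↥(fxSub X Ω)) ⟨d, hd⟩ : ↥(fxSub X Ω)) : Ω)) h⟩)
    · obtain ⟨c, hc, hca, hcb⟩ := hX.fix
      have := congrArg
        (fun σ : img X Ω (cP P W) => (((σ : Equiv.Perm ↥(fxSub X Ω)) ⟨c, hc⟩ : ↥(fxSub X Ω)) : Ω)) h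
      rcases F.outside_fix hX hw hwX hc this with h' | h'
      exacts [absurd h' hca, absurd h' hcb]
    · refine Or.inr (mem_ker0.2 ⟨mul_mem hq hw0, fun d hd => ?_⟩)
      have hwd : w • d ∈ fx X Ω := smul_mem_fx_of_commute (F.cP_X hX w hw0) hd
      have : q • (w • d) = w • (w • d) := congrArg
        (fun σ : img X Ω (cP P W) => (((σ : Equiv.Perm ↥(fxSub X Ω)) ⟨w • d, hwd⟩ : ↥(fxSub X Ω)) : Ω)) h
      rw [mul_smul, this, ← mul_smul, F.sq w hw, one_smul]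
  refine le_trans (Nat.card_le_card_of_injective (β := ↥(ker0 P W X Ω) × Bool)
    (fun q => if h : (q : G) ∈ ker0 P W X Ω then (⟨q, h⟩, true)
      else (⟨(q : G) * w, (hcase q q.2).resolve_left h⟩, false)) ?_) ?_
  · intro j k e
    simp only at e
    split_ifs at e with h1 h2 h2
    · exact Subtype.ext (congrArg (fun p : ↥(ker0 P W X Ω) × Bool => (p.1 : G)) e)
    · exact absurd (congrArg Prod.snd e) (by simp)
    · exact absurd (congrArg Prod.snd e) (by simp)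
    · exact Subtype.ext (mul_right_cancel (congrArg (fun p : ↥(ker0 P W X Ω) × Bool => (p.1 : G)) e))
  · rw [Nat.card_prod, Nat.card_eq_fintype_card (α := Bool), Fintype.card_bool, mul_comm]

/-- The kernels of two hyperplanes meet in the kernel of the third. -/
theorem ker0_third (C : Ctx H Ω) (hI : Below.{v} (Nat.card Ω)) (hT : ¬ Two H Ω) {X X' X'' : Subgroup G}
    (hX : Good W X a b) (hX' : Good W X' a b) (hX'' : Good W X'' a b) (hne : X ≠ X')
    (hle : X ⊓ X' ≤ X'') : ker0 P W X Ω ⊓ ker0 P W X' Ω ≤ ker0 P W X'' Ω := by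
  by_cases h1 : X'' = X
  · exact h1 ▸ inf_le_left
  by_cases h2 : X'' = X'
  · exact h2 ▸ inf_le_right
  set Y := X ⊓ X' with hY
  set Y0 := ker0 P W X Ω ⊓ ker0 P W X' Ω with hY0
  have hYW : Y ≤ W := inf_le_left.trans hX.le
  have hXX' : ¬ X ≤ X' := fun h =>
    hne (Subgroup.eq_of_le_of_card_ge h (by have := hX.card; have := hX'.card; omega))
  have hX'X : ¬ X' ≤ X := fun h =>
    hne (Subgroup.eq_of_le_of_card_ge h (by have := hX.card; have := hX'.card; omega)).symm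
  obtain ⟨x, hxX, hxX'⟩ := SetLike.not_le_iff_exists.1 hXX'
  obtain ⟨y, hyX', hyX⟩ := SetLike.not_le_iff_exists.1 hX'X
  have hx : x ∈ W := hX.le hxX
  have hy : y ∈ W := hX'.le hyX'
  have hmul : ∀ {K : Subgroup G}, Good W K a b → ∀ {u v : G}, u ∈ W → v ∈ W → u ∉ K → v ∉ K → u * v ∈ K :=
    fun hK _ _ => hyper_mul hK.le hK.card
  -- the three hyperplanes
  have hsplit : ∀ {K : Subgroup G}, Good W K a b → ∀ {v : G}, Y ≤ K → v ∈ K → v ∉ Y → ∀ c : Ω,
      c ∈ fx Y Ω → v • c = c → c ∈ fx K Ω := by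
    intro K hK v hYK hv hvY c hc hvc
    have hlt : Y ≠ Y ⊔ Subgroup.zpowers v := fun e =>
      hvY (e.ge (Subgroup.mem_sup_right (Subgroup.mem_zpowers v)))
    have h5 := two_mul_card_le_of_lt (le_sup_left : Y ≤ _) hlt
    have h7 := card_le_two_mul_inf hX'.le hX'.card hX.le
    rw [← hY] at h7
    have e : Y ⊔ Subgroup.zpowers v = K :=
      Subgroup.eq_of_le_of_card_ge (sup_le hYK (Subgroup.zpowers_le.2 hv))
        (by have := hX.card; have := hK.card; omega)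
    rw [mem_fx_iff_le, ← e]
    exact sup_le (mem_fx_iff_le.1 hc) (Subgroup.zpowers_le.2 hvc)
  have hYY0 : Y ≤ Y0 := inf_le_inf (F.le_ker0 hX) (F.le_ker0 hX')
  have hY0P : Y0 ≤ cP P W := inf_le_left.trans (F.ker0_le_cP X)
  have hY0fx : ∀ c ∈ fx Y0 Ω, c ∈ fx Y Ω := fun c hc u hu => hc u (hYY0 hu)
  have hsub : ∀ {K : Subgroup G}, Good W K a b → Y0 ≤ ker0 P W K Ω → ∀ c ∈ fx K Ω, c ∈ fx Y0 Ω :=
    fun hK hle c hc u hu => (mem_ker0.1 (hle hu)).2 c hc
  have hYx : x ∉ Y := fun h => hxX' (Subgroup.mem_inf.1 h).2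
  have hYy : y ∉ Y := fun h => hyX (Subgroup.mem_inf.1 h).1
  have hxy : x * y ∈ X'' := by
    have hxX'' : x ∉ X'' := fun h => h1 (Subgroup.eq_of_le_of_card_ge (fun u hu => by
      by_cases h' : u ∈ X'
      · exact hle (Subgroup.mem_inf.2 ⟨hu, h'⟩)
      · exact (mul_mem_cancel_right h).1 (hle (Subgroup.mem_inf.2
          ⟨mul_mem hu hxX, hmul hX' (hX.le hu) hx h' hxX'⟩)))
      (by have := hX.card; have := hX''.card; omega)).symm
    have hyX'' : y ∉ X'' := fun h => h2 (Subgroup.eq_of_le_of_card_ge (fun u hu => by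
      by_cases h' : u ∈ X
      · exact hle (Subgroup.mem_inf.2 ⟨h', hu⟩)
      · exact (mul_mem_cancel_right h).1 (hle (Subgroup.mem_inf.2
          ⟨hmul hX (hX'.le hu) hy h' hyX, mul_mem hu hyX'⟩)))
      (by have := hX'.card; have := hX''.card; omega)).symm
    exact hmul hX'' hx hy hxX'' hyX''
  have hxyY : x * y ∉ Y := fun h => hyX ((mul_mem_cancel_left hxX).1 (Subgroup.mem_inf.1 h).1)
  have honly : ∀ c ∈ fx Y0 Ω, x • c = c → y • c = c → c = a ∨ c = b := by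
    intro c hc hxc hyc
    have hcX := hsplit hX inf_le_left hxX hYx c (hY0fx c hc) hxc
    exact F.outside_fix hX hy hyX hcX hyc
  have hset : ∀ {K : Subgroup G} (hK : Good W K a b) {v : G}, Y0 ≤ ker0 P W K Ω → Y ≤ K → v ∈ K → v ∉ Y →
      {c ∈ fx Y0 Ω | v • c = c} = fx K Ω := fun hK v h hYK hv hvY =>
    Set.Subset.antisymm (fun c hc => hsplit hK hYK hv hvY c (hY0fx c hc.1) hc.2)
      (fun c hc => ⟨hsub hK h c hc, hc v hv⟩)
  obtain ⟨d, hd, hda, hdb⟩ := hX.fix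
  obtain ⟨c, hc, hcxy, hca, hcb⟩ := F.third_count C (hY0P.trans F.cP_le)
    (fun w hw u hu => ((mem_cP.1 (hY0P hu)).2 w hw).symm)
    ⟨Y, hYW, by
      have h3 := card_le_two_mul_inf hX'.le hX'.card hX.le
      rw [← hY] at h3
      have := hX.card
      omega, fun c hc => hY0fx c hc⟩ hx hy honly
    (F.three_dvd_sub C ((F.ker0_le_cP X).trans F.cP_le) inf_le_left (c := d)
      (by rw [F.fx_ker0 hX]; exact hd) hda hdb (by rw [F.fx_ker0 hX]; exact F.good_three C hX))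
    (by rw [hset hX inf_le_left inf_le_left hxX hYx, ← Nat.card_coe_set_eq]; exact F.good_three C hX)
    (by rw [hset hX' inf_le_right inf_le_right hyX' hYy, ← Nat.card_coe_set_eq]; exact F.good_three C hX')
  intro u hu
  exact F.semireg C hX'' (hY0P hu) (hsplit hX'' hle hxy hxyY c (hY0fx c hc) hcxy) hca hcb (hc u hu)

/-- `C_P(W) = W`. -/
theorem cP_eq (C : Ctx H Ω) (hI : Below.{v} (Nat.card Ω)) (hT : ¬ Two H Ω) (hW : 4 ≤ Nat.card W) :
    cP P W = W := by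
  refine (Subgroup.eq_of_le_of_card_ge F.le_cP ?_).symm
  obtain ⟨hgood, hcore⟩ := F.all_good C hI hT
  obtain ⟨X₀, hX₀⟩ := F.exists_good C
  haveI : Nonempty {I : Subgroup G // I ≤ W ∧ ∃ J : Subgroup G, J ≤ cP P W ∧
      Nat.card (cP P W) * Nat.card I ≤ Nat.card W * Nat.card J ∧
      ∀ X : Subgroup G, Good W X a b → I ≤ X → J ≤ ker0 P W X Ω} := by
    refine ⟨⟨X₀, hX₀.le, ker0 P W X₀ Ω, F.ker0_le_cP X₀, ?_, fun X hX hle => ?_⟩⟩
    · have h1 := F.card_cP_le_ker0 C hI hT hW hX₀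
      rw [← hX₀.card]
      nlinarith
    · rw [← Subgroup.eq_of_le_of_card_ge hle (by have := hX.card; have := hX₀.card; omega)]
  obtain ⟨⟨I, hIW, J, hJP, hJc, hJ⟩, hmin⟩ := Finite.exists_min fun I : {I : Subgroup G // I ≤ W ∧
    ∃ J : Subgroup G, J ≤ cP P W ∧ Nat.card (cP P W) * Nat.card I ≤ Nat.card W * Nat.card J ∧
      ∀ X : Subgroup G, Good W X a b → I ≤ X → J ≤ ker0 P W X Ω} => Nat.card I.1
  have hall : ∀ X, Good W X a b → I ≤ X := by
    intro X hX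
    by_contra hIX
    have hlt : I ⊓ X ≠ I := fun e => hIX (e.ge.trans inf_le_right)
    have h2 := two_mul_card_le_of_lt (inf_le_left : I ⊓ X ≤ I) hlt
    have := hmin ⟨I ⊓ X, inf_le_left.trans hIW, J ⊓ ker0 P W X Ω, inf_le_left.trans hJP, ?_, fun Z hZ hle => ?_⟩
    · simp only at this
      have : 0 < Nat.card ↥(I ⊓ X) := Nat.card_pos
      omega
    · have h3 : Nat.card J ≤ 2 * Nat.card ↥(J ⊓ ker0 P W X Ω) := by
        have h4 : (J ⊓ ker0 P W X Ω).relIndex J ≤ 2 := by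
          rw [Subgroup.inf_relIndex_left]
          have h5 := card_eq_mul_relIndex (F.ker0_le_cP (Ω := Ω) X)
          have h6 := F.card_cP_le_ker0 C hI hT hW hX
          have h7 : (ker0 P W X Ω).relIndex (cP P W) ≤ 2 := by
            rw [h5, mul_comm 2] at h6
            exact Nat.le_of_mul_le_mul_left h6 Nat.card_pos
          refine (Subgroup.relIndex_le_of_le_right hJP ?_).trans h7
          intro h0
          rw [h0, mul_zero] at h5
          exact Nat.card_pos.ne' h5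
        rw [card_eq_mul_relIndex (inf_le_left : J ⊓ ker0 P W X Ω ≤ J), mul_comm]
        exact Nat.mul_le_mul_right _ h4
      nlinarith
    · by_cases hZX : Z = X
      · exact hZX ▸ inf_le_right
      by_cases hIZ : I ≤ Z
      · exact inf_le_left.trans (hJ Z hZ hIZ)
      set Z' := (Z ⊓ X) ⊔ I with hZ'
      have hZ'W : Z' ≤ W := sup_le (inf_le_left.trans hZ.le) hIW
      obtain ⟨i, hi, hiX⟩ := SetLike.not_le_iff_exists.1 hIX
      have hle' : Z' ≤ (Z ⊓ X) ⊔ Subgroup.zpowers i := by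
        refine sup_le le_sup_left fun j hj => ?_
        by_cases hjX : j ∈ X
        · exact Subgroup.mem_sup_left (Subgroup.mem_inf.2 ⟨hle (Subgroup.mem_inf.2 ⟨hj, hjX⟩), hjX⟩)
        · have h1 : j * i ∈ Z ⊓ X := by
            have h := hyper_mul hX.le hX.card (hIW hj) (hIW hi) hjX hiX
            exact Subgroup.mem_inf.2 ⟨hle (Subgroup.mem_inf.2 ⟨mul_mem hj hi, h⟩), h⟩
          have h3 := mul_mem (Subgroup.mem_sup_left h1 : _ ∈ (Z ⊓ X) ⊔ Subgroup.zpowers i)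
            (Subgroup.mem_sup_right (Subgroup.mem_zpowers i))
          rwa [mul_assoc, F.sq i (hIW hi), mul_one] at h3
      have hiZX : i ∉ Z ⊓ X := fun h => hiX (Subgroup.mem_inf.1 h).2
      have hZXc : 4 * Nat.card ↥(Z ⊓ X) = Nat.card W := by
        have h1 := card_le_two_mul_inf hX.le hX.card hZ.le
        have h4 := two_mul_card_le_of_lt (inf_le_left : Z ⊓ X ≤ Z) fun e => hZX
          (Subgroup.eq_of_le_of_card_ge (e.ge.trans inf_le_right) (by have := hX.card; have := hZ.card; omega))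
        have := hZ.card
        omega
      have hlo : 2 * Nat.card ↥(Z ⊓ X) ≤ Nat.card Z' := two_mul_card_le_of_lt le_sup_left
        fun e => hiZX (e.ge (Subgroup.mem_sup_right hi))
      have hhi : Nat.card Z' ≤ 2 * Nat.card ↥(Z ⊓ X) := by
        have hcase : ∀ j ∈ Z', j ∈ Z ⊓ X ∨ j * i ∈ Z ⊓ X := fun j hj =>
          mem_sup_zpowers F.sq (inf_le_left.trans hZ.le) (hIW hi) (hle' hj)
        classical
        refine le_trans (Nat.card_le_card_of_injective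
          (β := ↥(Z ⊓ X) × Bool) (fun j => if h : (j : G) ∈ Z ⊓ X then (⟨j, h⟩, true)
            else (⟨(j : G) * i, (hcase j j.2).resolve_left h⟩, false)) ?_) ?_
        · intro j k e
          simp only at e
          split_ifs at e with h1 h2 h2
          · exact Subtype.ext (congrArg (fun p : ↥(Z ⊓ X) × Bool => (p.1 : G)) e)
          · exact absurd (congrArg Prod.snd e) (by simp)
          · exact absurd (congrArg Prod.snd e) (by simp)
          · exact Subtype.ext (mul_right_cancel (congrArg (fun p : ↥(Z ⊓ X) × Bool => (p.1 : G)) e))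
        · rw [Nat.card_prod, Nat.card_eq_fintype_card (α := Bool), Fintype.card_bool, mul_comm]
      have hZ'good : Good W Z' a b := hgood Z' hZ'W (by omega)
      have hne : X ≠ Z' := fun e => hiX (e.ge (Subgroup.mem_sup_right hi))
      have heq : Z ⊓ X = X ⊓ Z' := by
        refine Subgroup.eq_of_le_of_card_ge (le_inf inf_le_right le_sup_left) ?_
        have h4 := two_mul_card_le_of_lt (inf_le_right : X ⊓ Z' ≤ Z') fun e => hne
          (Subgroup.eq_of_le_of_card_ge (e.ge.trans inf_le_left) (by have := hX.card; omega)).symm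
        omega
      refine le_trans ?_ (F.ker0_third C hI hT hX hZ'good hZ hne (heq ▸ inf_le_left))
      exact le_inf inf_le_right (inf_le_left.trans (hJ Z' hZ'good le_sup_right))
  have hI1 : I = ⊥ := (Subgroup.eq_bot_iff_forall I).2 fun u hu => hcore u (hIW hu) fun X hX => hall X hX hu
  have hJ1 : J = ⊥ := (Subgroup.eq_bot_iff_forall J).2 fun u hu =>
    F.ker0_inter C hI hT (hJP hu) fun X hX => hJ X hX (hall X hX) hu
  rw [hI1, hJ1, Subgroup.card_bot, mul_one, mul_one] at hJc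
  exact hJc

/-- The elementary abelian Sylow 2-subgroup of the centralizer of `W` in the pair stabilizer. -/
theorem T0_sq (C : Ctx H Ω) (hI : Below.{v} (Nat.card Ω)) (hT : ¬ Two H Ω) (hW : 4 ≤ Nat.card W)
    {T0 : Subgroup G} (hT0 : IsSyl 2 T0 (pairStab H a b ⊓ Subgroup.centralizer (W : Set G)))
    (hle : W ≤ T0) (hS2 : T0 ⊓ S2 H a b = W) :
    (∀ u ∈ T0, u * u = 1) ∧ (∀ u ∈ T0, u ∉ W → u • a = b ∧ u • b = a) := by
  have hcP := F.cP_eq C hI hT hW
  obtain ⟨X, hX⟩ := F.exists_good C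
  obtain ⟨t, ht, e, f, hta, ht2, -⟩ := F.exists_wX C hI hT hT0 (hS2.trans hcP.symm) hX
  have hsw : ∀ u ∈ T0, u ∉ W → u • a = b ∧ u • b = a := by
    intro u hu huW
    obtain ⟨hup, -⟩ := Subgroup.mem_inf.1 (hT0.le hu)
    rcases (mem_pairStab.1 hup).2 with h | h
    · exact absurd (hS2.le (Subgroup.mem_inf.2 ⟨hu, mem_S2.2 ⟨(mem_pairStab.1 hup).1, h⟩⟩)) huW
    · exact h
  refine ⟨fun u hu => ?_, hsw⟩
  by_cases huW : u ∈ W
  · exact F.sq u huW
  have htb : t • b = a := by rw [← hta, ← mul_smul, ht2, one_smul]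
  have htu : t * u ∈ W := by
    refine hS2.le (Subgroup.mem_inf.2 ⟨mul_mem ht hu, mem_S2.2 ⟨?_, ?_, ?_⟩⟩)
    · exact mul_mem (mem_pairStab.1 (Subgroup.mem_inf.1 (hT0.le ht)).1).1
        (mem_pairStab.1 (Subgroup.mem_inf.1 (hT0.le hu)).1).1
    · rw [mul_smul, (hsw u hu huW).1, htb]
    · rw [mul_smul, (hsw u hu huW).2, hta]
  have hc : t * (t * u) = (t * u) * t := (Subgroup.mem_centralizer_iff.1
    (Subgroup.mem_inf.1 (hT0.le ht)).2 _ htu).symm
  have hu' : u = t * (t * u) := by rw [← mul_assoc, ht2, one_mul]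
  calc u * u = t * (t * u) * (t * (t * u)) := by rw [← hu']
    _ = (t * u) * t * (t * (t * u)) := by rw [hc]
    _ = (t * u) * (t * t) * (t * u) := by group
    _ = 1 := by rw [ht2, mul_one, F.sq _ htu]

end Frame

end Cfsg.Lib.Wagner
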