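import Cfsg.Agent.Lib.Wagner.Pattern

/-!
# Two hyperplanes and their third: the pattern of good cosets
-/

set_option autoImplicit false
set_option linter.unusedSectionVars false
set_option linter.style.haveILetI false

namespace Cfsg.Lib.Wagner

open MulAction Cfsg.Lib.Plane

universe u v

variable {G : Type u} [Group G] [Finite G] {Ω : Type v} [MulAction G Ω]

theorem card_fx_cj (g : G) (X : Subgroup G) : Nat.card ↥(fx (cj g X) Ω) = Nat.card ↥(fx X Ω) := by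
  refine (Nat.card_congr ((MulAction.toPerm g).subtypeEquiv fun d => ?_)).symm
  show d ∈ fx X Ω ↔ g • d ∈ fx (cj g X) Ω
  rw [mem_fx_cj, inv_smul_smul]

theorem fx_sup_zpowers (Y : Subgroup G) (g : G) :
    fx (Y ⊔ Subgroup.zpowers g) Ω = {d ∈ fx Y Ω | g • d = d} := by
  ext d
  rw [mem_fx_iff_le, sup_le_iff, Subgroup.zpowers_le, ← mem_fx_iff_le]
  rfl

namespace Big

variable {H : Subgroup G} {a b : Ω} {P W : Subgroup G} (B : Big H a b P W)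
variable {T0 : Subgroup G} (D : TData H a b W T0)
include B D

theorem card_fx_good {X X' : Subgroup G} (hX : Good W X a b) (hX' : Good W X' a b) :
    Nat.card ↥(fx X' Ω) = Nat.card ↥(fx X Ω) := by
  obtain ⟨g, -, -, hgX, -, -⟩ := B.move D hX hX'
  rw [← hgX, card_fx_cj]

/-- A good element of `T₀` is conjugate into `W`, together with `T₀`. -/
theorem transfer {X : Subgroup G} (hX : Good W X a b) {u : G} (hu : u ∈ T0) (huW : u ∉ W) (hgu : Gd X Ω u) :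
    ∃ h ∈ H, ∃ u₀ ∈ W, u₀ ∉ X ∧ (∀ x ∈ X, h * x = x * h) ∧ h * u₀ * h⁻¹ = u ∧
      TData H a b W (cj h⁻¹ T0) ∧ ∀ y ∈ W, y ∉ X → h⁻¹ * y * h ∈ cj h⁻¹ T0 ∧ h⁻¹ * y * h ∉ W := by
  haveI : Fact (Nat.Prime 2) := ⟨Nat.prime_two⟩
  haveI := B.ctx.normal
  have F := B.frame
  obtain ⟨w, hw, hwX⟩ := F.exists_outside hX
  obtain ⟨c, hc, huc⟩ := hgu
  obtain ⟨hca, hcb, hwc, huw, hwfx, -⟩ := B.fix_two D hX hu huW hw hwX hc huc
  obtain ⟨g, hg, hgc, hga, hgb⟩ := F.cTrans B.ctx (hX.le.trans F.le) hc hca hcb hc hwfx hwc.symm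
  have hgi : ∀ y ∈ X, g⁻¹ * y = y * g⁻¹ := fun y hy => ((show Commute g y from hgc y hy).inv_left).eq
  set s := g⁻¹ * u * g with hs
  have hsC : s ∈ S2 H a b ⊓ Subgroup.centralizer (X : Set G) := by
    refine Subgroup.mem_inf.2 ⟨mem_S2.2 ⟨mul_mem (mul_mem (inv_mem hg) (B.T0_mem_H D hu)) hg, ?_, ?_⟩, ?_⟩
    · rw [hs, mul_smul, mul_smul, hga, huc, inv_smul_eq_iff, hga]
    · rw [hs, mul_smul, mul_smul, hgb, huw, inv_smul_eq_iff, hgb]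
    · refine Subgroup.mem_centralizer_iff.2 fun y hy => ?_
      exact ((((show Commute g⁻¹ y from hgi y hy).mul_left (B.T0_cent_X D hX hu y hy)).mul_left (hgc y hy))).eq.symm
  have hs2 : s ^ 2 ^ 1 = 1 := by
    rw [pow_one, pow_two, hs, show g⁻¹ * u * g * (g⁻¹ * u * g) = g⁻¹ * (u * u) * g by group, B.T0_sq D u hu,
      mul_one, inv_mul_cancel]
  obtain ⟨k, hk, hkW⟩ := exists_cj_le (B.syl_W hX)
    (show IsPGroup 2 (Subgroup.zpowers s) from by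
      obtain ⟨j, -, hj⟩ := (Nat.dvd_prime_pow Nat.prime_two).1 (orderOf_dvd_of_pow_eq_one hs2)
      exact IsPGroup.of_card (n := j) (by rw [Nat.card_zpowers, hj]))
    (Subgroup.zpowers_le.2 hsC)
  set u₀ := k * s * k⁻¹ with hu₀
  have hu₀W : u₀ ∈ W := hkW (conj_mem_cj (Subgroup.mem_zpowers s))
  obtain ⟨hkS, hkC⟩ := Subgroup.mem_inf.1 hk
  obtain ⟨hkH, hka, hkb⟩ := mem_S2.1 hkS
  set h := g * k⁻¹ with hh
  have hu' : h * u₀ * h⁻¹ = u := by rw [hh, hu₀, hs]; group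
  have hhc : ∀ y ∈ X, h * y = y * h := fun y hy =>
    ((show Commute g y from hgc y hy).mul_left
      ((show Commute k y from (Subgroup.mem_centralizer_iff.1 hkC y hy).symm).inv_left)).eq
  have hu₀X : u₀ ∉ X := by
    intro hX'
    have e : u = u₀ := by rw [← hu', hhc u₀ hX', mul_inv_cancel_right]
    exact huW (e ▸ hu₀W)
  have hha : h • a = c := by rw [hh, mul_smul, inv_smul_eq_iff.2 hka.symm, hga]
  have hhb : h • b = w • c := by rw [hh, mul_smul, inv_smul_eq_iff.2 hkb.symm, hgb]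
  have hwpair : ∀ y ∈ W, (y • c = c ∧ y • (w • c) = w • c) ∨ (y • c = w • c ∧ y • (w • c) = c) := by
    intro y hy
    by_cases hyX : y ∈ X
    · exact Or.inl ⟨hc y hyX, hwfx y hyX⟩
    · have h1 := hyper_mul hX.le hX.card hy hw hyX hwX
      have e : y = y * w * w := by rw [mul_assoc, F.sq w hw, mul_one]
      refine Or.inr ⟨?_, ?_⟩
      · rw [e, mul_smul, hwfx _ h1]
      · rw [e, mul_smul, ← mul_smul w w, F.sq w hw, one_smul, hc _ h1]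
  have hpair : ∀ y ∈ T0, (y • c = c ∧ y • (w • c) = w • c) ∨ (y • c = w • c ∧ y • (w • c) = c) := by
    intro y hy
    by_cases hyW : y ∈ W
    · exact hwpair y hyW
    · have h1 := B.T0_mul_mem D hy hyW hu huW
      have e : y = y * u * u := by rw [mul_assoc, B.T0_sq D u hu, mul_one]
      rcases hwpair _ h1 with ⟨h2, h3⟩ | ⟨h2, h3⟩
      · exact Or.inl ⟨by rw [e, mul_smul, huc, h2], by rw [e, mul_smul, huw, h3]⟩
      · exact Or.inr ⟨by rw [e, mul_smul, huc, h2], by rw [e, mul_smul, huw, h3]⟩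
  have hin : ∀ y ∈ cj h⁻¹ T0, h * y * h⁻¹ ∈ T0 := fun y hy => by
    rw [mem_cj, inv_inv] at hy; exact hy
  have hWle : W ≤ cj h⁻¹ T0 := by
    intro y hy
    rw [mem_cj, inv_inv]
    by_cases hyX : y ∈ X
    · rw [hhc y hyX, mul_inv_cancel_right]; exact D.le hy
    · have h1 := hyper_mul hX.le hX.card hy hu₀W hyX hu₀X
      have e : h * y * h⁻¹ = h * (y * u₀) * h⁻¹ * (h * u₀ * h⁻¹) := by
        rw [show h * (y * u₀) * h⁻¹ * (h * u₀ * h⁻¹) = h * (y * (u₀ * u₀)) * h⁻¹ by group, F.sq u₀ hu₀W, mul_one]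
      rw [e, hhc _ h1, mul_inv_cancel_right, hu']
      exact mul_mem (D.le (hX.le h1)) hu
  have hcomm : ∀ y ∈ cj h⁻¹ T0, ∀ z ∈ cj h⁻¹ T0, y * z = z * y := fun y hy z hz => by
    have h1 := B.T0_comm D (hin y hy) (hin z hz)
    calc y * z = h⁻¹ * ((h * y * h⁻¹) * (h * z * h⁻¹)) * h := by group
      _ = h⁻¹ * ((h * z * h⁻¹) * (h * y * h⁻¹)) * h := by rw [h1]
      _ = z * y := by group
  have hhH : h ∈ H := mul_mem hg (inv_mem hkH)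
  have hle : cj h⁻¹ T0 ≤ pairStab H a b ⊓ Subgroup.centralizer (W : Set G) := by
    intro y hy
    have hy' := hin y hy
    have hyH : y ∈ H := by
      have := mul_mem (mul_mem (inv_mem hhH) (B.T0_mem_H D hy')) hhH
      rwa [show h⁻¹ * (h * y * h⁻¹) * h = y by group] at this
    refine Subgroup.mem_inf.2 ⟨mem_pairStab.2 ⟨hyH, ?_⟩, Subgroup.mem_centralizer_iff.2 fun z hz => hcomm z (hWle hz) y hy⟩
    have key : ∀ p q : Ω, (h * y * h⁻¹) • (h • p) = h • q → y • p = q := fun p q e => by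
      rw [mul_smul, mul_smul, inv_smul_smul] at e
      exact MulAction.injective h e
    rcases hpair _ hy' with ⟨h1, h2⟩ | ⟨h1, h2⟩
    · exact Or.inl ⟨key a a (by rwa [hha]), key b b (by rwa [hhb])⟩
    · exact Or.inr ⟨key a b (by rwa [hha, hhb]), key b a (by rwa [hha, hhb])⟩
  have hinf : cj h⁻¹ T0 ⊓ S2 H a b = W := by
    refine (Subgroup.eq_of_le_of_card_ge (le_inf hWle F.W_le_S2) ?_).symm
    exact B.card_le_W hX ((cj_pgroup D.syl.isPGroup).to_le inf_le_left) inf_le_right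
      (inf_le_left.trans (hle.trans (inf_le_right.trans (Subgroup.centralizer_le hX.le))))
  refine ⟨h, hhH, u₀, hu₀W, hu₀X, hhc, hu',
    ⟨isSyl_of_card D.syl (cj_pgroup D.syl.isPGroup) hle (card_cj _ _), hWle, hinf⟩, fun y hy hyX => ⟨?_, ?_⟩⟩
  · have := conj_mem_cj (g := h⁻¹) (D.le hy)
    rwa [inv_inv] at this
  · intro hcon
    obtain ⟨-, h1, -⟩ := mem_S2.1 (F.W_le_S2 hcon)
    rw [mul_smul, mul_smul, hha, inv_smul_eq_iff, hha] at h1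
    exact (F.outside_fix hX hy hyX hc h1).elim hca hcb

end Big

/-- Two hyperplanes with an element of `T₀` good for both. -/
structure Sq4 (H : Subgroup G) (a b : Ω) (W T0 X₁ X₂ : Subgroup G) (e₁ e₂ w : G) : Prop where
  good₁ : Good W X₁ a b
  good₂ : Good W X₂ a b
  ne : X₁ ≠ X₂
  e₁_mem : e₁ ∈ X₁
  e₁_not : e₁ ∉ X₂
  e₂_mem : e₂ ∈ X₂
  e₂_not : e₂ ∉ X₁
  w_mem : w ∈ T0
  w_not : w ∉ W
  w_gd₁ : Gd X₁ Ω w
  w_gd₂ : Gd X₂ Ω w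

namespace Big

variable {H : Subgroup G} {a b : Ω} {P W : Subgroup G} (B : Big H a b P W)
variable {T0 : Subgroup G} (D : TData H a b W T0)
include B D

theorem exists_sq4 : ∃ (X₁ X₂ : Subgroup G) (e₁ e₂ w : G), Sq4 H a b W T0 X₁ X₂ e₁ e₂ w := by
  have F := B.frame
  obtain ⟨X₁, hX₁⟩ := F.exists_good B.ctx
  obtain ⟨e₁, he₁, he₁1⟩ : ∃ e ∈ X₁, e ≠ 1 := by
    refine X₁.bot_or_exists_ne_one.resolve_left fun h => ?_
    have := hX₁.card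
    rw [h, Subgroup.card_bot] at this
    have := B.card
    omega
  obtain ⟨X₂, -, hX₂W, hX₂c, he₁X₂⟩ := exists_hyper F.sq bot_le (hX₁.le he₁) (fun h => he₁1 (Subgroup.mem_bot.1 h))
  have hX₂ := B.good hX₂W hX₂c
  have hne : X₁ ≠ X₂ := fun e => he₁X₂ (e ▸ he₁)
  obtain ⟨e₂, he₂, he₂X₁⟩ := SetLike.not_le_iff_exists.1
    (show ¬ X₂ ≤ X₁ from fun h => hne (Subgroup.eq_of_le_of_card_ge h (by have := hX₁.card; omega)).symm)
  obtain ⟨t, ht, htW, hgt⟩ := B.exists_gd D hX₁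
  obtain ⟨s, hs, hsW, hgs⟩ := B.exists_gd D hX₂
  by_cases h : s * t ∈ X₂
  · exact ⟨X₁, X₂, e₁, e₂, t, hX₁, hX₂, hne, he₁, he₁X₂, he₂, he₂X₁, ht, htW, hgt,
      (B.gd_iff D hX₂ hs hsW hgs ht htW).2 h⟩
  · obtain ⟨h1, h2⟩ := B.W_mul D ht htW (hX₁.le he₁)
    refine ⟨X₁, X₂, e₁, e₂, t * e₁, hX₁, hX₂, hne, he₁, he₁X₂, he₂, he₂X₁, h1, h2, hgt.mul he₁,
      (B.gd_iff D hX₂ hs hsW hgs h1 h2).2 ?_⟩
    rw [← mul_assoc]
    exact hyper_mul hX₂.le hX₂.card (B.T0_mul_mem D hs hsW ht htW) (hX₁.le he₁) h he₁X₂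

variable {X₁ X₂ : Subgroup G} {e₁ e₂ w : G} (Q : Sq4 H a b W T0 X₁ X₂ e₁ e₂ w)
include Q

theorem Y_le : X₁ ⊓ X₂ ≤ W := inf_le_left.trans Q.good₁.le

theorem e_memW : e₁ ∈ W ∧ e₂ ∈ W ∧ e₁ * e₂ ∈ W :=
  ⟨Q.good₁.le Q.e₁_mem, Q.good₂.le Q.e₂_mem, mul_mem (Q.good₁.le Q.e₁_mem) (Q.good₂.le Q.e₂_mem)⟩

theorem e3_not : e₁ * e₂ ∉ X₁ ∧ e₁ * e₂ ∉ X₂ :=
  ⟨fun h => Q.e₂_not ((mul_mem_cancel_left Q.e₁_mem).1 h), fun h => Q.e₁_not ((mul_mem_cancel_right Q.e₂_mem).1 h)⟩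

theorem W_dec {u : G} (hu : u ∈ W) :
    u ∈ X₁ ⊓ X₂ ∨ u * e₁ ∈ X₁ ⊓ X₂ ∨ u * e₂ ∈ X₁ ⊓ X₂ ∨ u * (e₁ * e₂) ∈ X₁ ⊓ X₂ := by
  obtain ⟨h1W, h2W, h3W⟩ := B.e_memW D Q
  obtain ⟨n1, n2⟩ := B.e3_not D Q
  by_cases h1 : u ∈ X₁ <;> by_cases h2 : u ∈ X₂
  · exact Or.inl (Subgroup.mem_inf.2 ⟨h1, h2⟩)
  · exact Or.inr (Or.inl (Subgroup.mem_inf.2 ⟨mul_mem h1 Q.e₁_mem,
      hyper_mul Q.good₂.le Q.good₂.card hu h1W h2 Q.e₁_not⟩))
  · exact Or.inr (Or.inr (Or.inl (Subgroup.mem_inf.2 ⟨hyper_mul Q.good₁.le Q.good₁.card hu h2W h1 Q.e₂_not,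
      mul_mem h2 Q.e₂_mem⟩)))
  · exact Or.inr (Or.inr (Or.inr (Subgroup.mem_inf.2 ⟨hyper_mul Q.good₁.le Q.good₁.card hu h3W h1 n1,
      hyper_mul Q.good₂.le Q.good₂.card hu h3W h2 n2⟩)))

theorem card_Y : 4 * Nat.card ↥(X₁ ⊓ X₂) = Nat.card W := by
  have h1 := card_le_two_mul_inf Q.good₂.le Q.good₂.card Q.good₁.le
  have h2 := two_mul_card_le_of_lt (inf_le_left : X₁ ⊓ X₂ ≤ X₁) fun e =>
    Q.e₁_not (Subgroup.mem_inf.1 (e.symm ▸ Q.e₁_mem : e₁ ∈ X₁ ⊓ X₂)).2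
  have := Q.good₁.card
  omega

theorem good₃ : Good W ((X₁ ⊓ X₂) ⊔ Subgroup.zpowers (e₁ * e₂)) a b ∧
    (X₁ ⊓ X₂) ⊔ Subgroup.zpowers (e₁ * e₂) ≠ X₁ ∧ e₁ ∉ (X₁ ⊓ X₂) ⊔ Subgroup.zpowers (e₁ * e₂) := by
  have F := B.frame
  obtain ⟨h1W, h2W, h3W⟩ := B.e_memW D Q
  obtain ⟨n1, n2⟩ := B.e3_not D Q
  have hle : (X₁ ⊓ X₂) ⊔ Subgroup.zpowers (e₁ * e₂) ≤ W :=
    sup_le (B.Y_le D Q) (Subgroup.zpowers_le.2 h3W)
  have hne : e₁ ∉ (X₁ ⊓ X₂) ⊔ Subgroup.zpowers (e₁ * e₂) := fun h => by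
    rcases mem_sup_zpowers F.sq (B.Y_le D Q) h3W h with h' | h'
    · exact Q.e₁_not (Subgroup.mem_inf.1 h').2
    · refine Q.e₂_not ?_
      rw [← mul_assoc, F.sq e₁ h1W, one_mul] at h'
      exact (Subgroup.mem_inf.1 h').1
  refine ⟨B.good hle ?_, fun e => n1 (e.le (Subgroup.mem_sup_right (Subgroup.mem_zpowers _))), hne⟩
  have h1 := two_mul_card_le_of_lt (le_sup_left : X₁ ⊓ X₂ ≤ (X₁ ⊓ X₂) ⊔ Subgroup.zpowers (e₁ * e₂))
    fun e => n1 (Subgroup.mem_inf.1 (e.ge (Subgroup.mem_sup_right (Subgroup.mem_zpowers _)))).1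
  have h2 := two_mul_card_le_of_lt hle fun e => hne (e.ge h1W)
  have := B.card_Y D Q
  omega

theorem hyper_cases {K : Subgroup G} (hK : Good W K a b) (hYK : X₁ ⊓ X₂ ≤ K) :
    K = X₁ ∨ K = X₂ ∨ K = (X₁ ⊓ X₂) ⊔ Subgroup.zpowers (e₁ * e₂) := by
  by_cases h1 : e₁ ∈ K
  · refine Or.inl (Subgroup.eq_of_le_of_card_ge (fun u hu => ?_) (by have := Q.good₁.card; have := hK.card; omega)).symm
    by_cases h' : u ∈ X₂
    · exact hYK (Subgroup.mem_inf.2 ⟨hu, h'⟩)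
    · exact (mul_mem_cancel_right h1).1 (hYK (Subgroup.mem_inf.2 ⟨mul_mem hu Q.e₁_mem,
        hyper_mul Q.good₂.le Q.good₂.card (Q.good₁.le hu) (Q.good₁.le Q.e₁_mem) h' Q.e₁_not⟩))
  by_cases h2 : e₂ ∈ K
  · refine Or.inr (Or.inl (Subgroup.eq_of_le_of_card_ge (fun u hu => ?_)
      (by have := Q.good₂.card; have := hK.card; omega)).symm)
    by_cases h' : u ∈ X₁
    · exact hYK (Subgroup.mem_inf.2 ⟨h', hu⟩)
    · exact (mul_mem_cancel_right h2).1 (hYK (Subgroup.mem_inf.2 ⟨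
        hyper_mul Q.good₁.le Q.good₁.card (Q.good₂.le hu) (Q.good₂.le Q.e₂_mem) h' Q.e₂_not, mul_mem hu Q.e₂_mem⟩))
  refine Or.inr (Or.inr (Subgroup.eq_of_le_of_card_ge (sup_le hYK (Subgroup.zpowers_le.2 ?_)) ?_).symm)
  · exact hyper_mul hK.le hK.card (Q.good₁.le Q.e₁_mem) (Q.good₂.le Q.e₂_mem) h1 h2
  · have := (B.good₃ D Q).1.card; have := hK.card; omega

/-- `w` is bad for the third hyperplane. -/
theorem w_bad₃ : ¬ Gd ((X₁ ⊓ X₂) ⊔ Subgroup.zpowers (e₁ * e₂)) Ω w := by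
  intro hgd
  haveI := B.ctx.normal
  have F := B.frame
  obtain ⟨h, hhH, u₀, hu₀, hu₀X, hhc, hhu, D', hD'⟩ := B.transfer D Q.good₁ Q.w_mem Q.w_not Q.w_gd₁
  obtain ⟨h1W, h2W, h3W⟩ := B.e_memW D Q
  obtain ⟨n1, n2⟩ := B.e3_not D Q
  set Y := X₁ ⊓ X₂ with hY
  set X₀ := Y ⊔ Subgroup.zpowers u₀ with hX₀
  have hX₀W : X₀ ≤ W := sup_le (B.Y_le D Q) (Subgroup.zpowers_le.2 hu₀)
  have he₁₀ : e₁ ∉ X₀ := fun hh => by
    rcases mem_sup_zpowers F.sq (B.Y_le D Q) hu₀ hh with h' | h'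
    · exact Q.e₁_not (Subgroup.mem_inf.1 h').2
    · exact hu₀X ((mul_mem_cancel_left Q.e₁_mem).1 (Subgroup.mem_inf.1 h').1)
  have hG₀ : Good W X₀ a b := by
    refine B.good hX₀W ?_
    have h1 : 2 * Nat.card Y ≤ Nat.card X₀ := two_mul_card_le_of_lt le_sup_left
      fun e => hu₀X (Subgroup.mem_inf.1 (e.ge (Subgroup.mem_sup_right (Subgroup.mem_zpowers _)) : u₀ ∈ Y)).1
    have h2 := two_mul_card_le_of_lt hX₀W fun e => he₁₀ (e.ge h1W)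
    have h3 : 4 * Nat.card Y = Nat.card W := B.card_Y D Q
    omega
  -- a fixed point of `w` on the fixed set of `K ∋ v` gives a good element
  have key : ∀ {K : Subgroup G}, Y ≤ K → Gd K Ω w → ∀ v ∈ K, Gd X₀ Ω (h⁻¹ * v * h) := by
    rintro K hYK ⟨d, hd, hwd⟩ v hv
    refine ⟨h⁻¹ • d, ?_, by rw [mul_smul, mul_smul, smul_inv_smul, hd v hv]⟩
    rw [mem_fx_iff_le, hX₀]
    refine sup_le (fun y hy => ?_) (Subgroup.zpowers_le.2 ?_)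
    · show y • h⁻¹ • d = h⁻¹ • d
      have hc' : Commute h y := hhc y (Subgroup.mem_inf.1 hy).1
      rw [← mul_smul, ← hc'.inv_left.eq, mul_smul, hd y (hYK hy)]
    · show u₀ • h⁻¹ • d = h⁻¹ • d
      rw [← mul_smul, show u₀ * h⁻¹ = h⁻¹ * w by rw [← hhu]; group, mul_smul, hwd]
  obtain ⟨m2, m2'⟩ := hD' e₂ h2W Q.e₂_not
  obtain ⟨m3, m3'⟩ := hD' _ h3W n1
  have hv := B.not_both D' hG₀ m2 m2' m3 m3' (key inf_le_right Q.w_gd₂ e₂ Q.e₂_mem)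
    (key le_sup_left hgd _ (Subgroup.mem_sup_right (Subgroup.mem_zpowers _)))
  rw [show h⁻¹ * e₂ * h * (h⁻¹ * (e₁ * e₂) * h) = h⁻¹ * (e₂ * (e₁ * e₂)) * h by group,
    F.comm e₁ h1W e₂ h2W, ← mul_assoc e₂ e₂, F.sq e₂ h2W, one_mul] at hv
  rw [show h⁻¹ * e₁ * h = e₁ by rw [mul_assoc, ← hhc e₁ Q.e₁_mem, inv_mul_cancel_left]] at hv
  exact he₁₀ hv

theorem u3_bad {K : Subgroup G} (hK : Good W K a b) (hYK : X₁ ⊓ X₂ ≤ K) : ¬ Gd K Ω (w * (e₁ * e₂)) := by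
  obtain ⟨h1W, h2W, h3W⟩ := B.e_memW D Q
  obtain ⟨n1, n2⟩ := B.e3_not D Q
  obtain ⟨hm, hmW⟩ := B.W_mul D Q.w_mem Q.w_not h3W
  have key : ∀ {K : Subgroup G}, Good W K a b → Gd K Ω w → e₁ * e₂ ∉ K → ¬ Gd K Ω (w * (e₁ * e₂)) :=
    fun hK hg hn h => by
      have h' := (B.gd_iff D hK Q.w_mem Q.w_not hg hm hmW).1 h
      rw [← mul_assoc, B.T0_sq D w Q.w_mem, one_mul] at h'
      exact hn h'
  rcases B.hyper_cases D Q hK hYK with rfl | rfl | rfl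
  · exact key hK Q.w_gd₁ n1
  · exact key hK Q.w_gd₂ n2
  · intro h
    refine B.w_bad₃ D Q ?_
    have h' := h.mul (Subgroup.mem_sup_right (Subgroup.mem_zpowers (e₁ * e₂)) :
      e₁ * e₂ ∈ (X₁ ⊓ X₂) ⊔ Subgroup.zpowers (e₁ * e₂))
    rwa [mul_assoc, B.frame.sq _ h3W, mul_one] at h'

theorem u2_gd : Gd X₂ Ω (w * e₂) ∧ ¬ Gd X₁ Ω (w * e₂) := by
  obtain ⟨h1W, h2W, h3W⟩ := B.e_memW D Q
  obtain ⟨hm, hmW⟩ := B.W_mul D Q.w_mem Q.w_not h2W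
  refine ⟨Q.w_gd₂.mul Q.e₂_mem, fun h => ?_⟩
  have h' := (B.gd_iff D Q.good₁ Q.w_mem Q.w_not Q.w_gd₁ hm hmW).1 h
  rw [← mul_assoc, B.T0_sq D w Q.w_mem, one_mul] at h'
  exact Q.e₂_not h'

theorem card_fix_u2 : {d ∈ fx (X₁ ⊓ X₂) Ω | (w * e₂) • d = d}.ncard = Nat.card ↥(fx X₁ Ω) := by
  have F := B.frame
  obtain ⟨h1W, h2W, h3W⟩ := B.e_memW D Q
  obtain ⟨hm, hmW⟩ := B.W_mul D Q.w_mem Q.w_not h2W
  obtain ⟨h, -, u₀, hu₀, hu₀X, hhc, hhu, -, -⟩ := B.transfer D Q.good₂ hm hmW (B.u2_gd D Q).1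
  set Y := X₁ ⊓ X₂ with hY
  set X₀ := Y ⊔ Subgroup.zpowers u₀ with hX₀
  have hX₀W : X₀ ≤ W := sup_le (B.Y_le D Q) (Subgroup.zpowers_le.2 hu₀)
  have he₂₀ : e₂ ∉ X₀ := fun hh => by
    rcases mem_sup_zpowers F.sq (B.Y_le D Q) hu₀ hh with h' | h'
    · exact Q.e₂_not (Subgroup.mem_inf.1 h').1
    · exact hu₀X ((mul_mem_cancel_left Q.e₂_mem).1 (Subgroup.mem_inf.1 h').2)
  have hG₀ : Good W X₀ a b := by
    refine B.good hX₀W ?_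
    have h1 : 2 * Nat.card Y ≤ Nat.card X₀ := two_mul_card_le_of_lt le_sup_left
      fun e => hu₀X (Subgroup.mem_inf.1 (e.ge (Subgroup.mem_sup_right (Subgroup.mem_zpowers _)) : u₀ ∈ Y)).2
    have h2 := two_mul_card_le_of_lt hX₀W fun e => he₂₀ (e.ge h2W)
    have h3 : 4 * Nat.card Y = Nat.card W := B.card_Y D Q
    omega
  have e : cj h X₀ = Y ⊔ Subgroup.zpowers (w * e₂) := by
    rw [hX₀, cj, Subgroup.map_sup, MonoidHom.map_zpowers]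
    congr 1
    · exact cj_of_commute fun y hy => hhc y (Subgroup.mem_inf.1 hy).2
    · rw [← hhu]; rfl
  rw [← fx_sup_zpowers, ← e, ← Nat.card_coe_set_eq, card_fx_cj, B.card_fx_good D Q.good₁ hG₀]

end Big

end Cfsg.Lib.Wagner
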